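import Mathlib.Data.Nat.Notation

/-!
Certificate data for the automorphisms of J2.
-/

set_option autoImplicit false
set_option maxRecDepth 100000

namespace Cfsg.Agent.Compute.J2

/-- Orbit representatives among the 315 reflections under conjugation by an element of order 7. -/
def autReps : List ℕ := [0, 1, 2, 3, 4, 5, 6, 7, 8, 10, 11, 12, 13, 14, 15, 16, 18, 19, 20, 23, 24, 25, 26, 29, 30, 32, 33, 35, 36, 38, 39, 40, 41, 42, 45, 64, 65, 67, 74, 76, 83, 85, 92, 98, 102]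

/-- For each reflection: (orbit, exponent). -/
def autWhere : List (ℕ × ℕ) := [(0, 0), (1, 0), (2, 0), (3, 0), (4, 0), (5, 0), (6, 0), (7, 0), (8, 0), (5, 2), (9, 0), (10, 0), (11, 0), (12, 0), (13, 0), (14, 0), (15, 0), (3, 6), (16, 0), (17, 0), (18, 0), (16, 1), (13, 2), (19, 0), (20, 0), (21, 0), (22, 0), (20, 5), (14, 6), (23, 0), (24, 0), (14, 5), (25, 0), (26, 0), (15, 6), (27, 0), (28, 0), (18, 1), (29, 0), (30, 0), (31, 0), (32, 0), (33, 0), (25, 1), (29, 6), (34, 0), (21, 6), (24, 1), (8, 4), (9, 4), (13, 4), (10, 4), (11, 4), (5, 6), (12, 4), (14, 4), (7, 1), (3, 5), (6, 1), (2, 1), (5, 1), (1, 1), (4, 2), (0, 1), (35, 0), (36, 0), (0, 2), (37, 0), (32, 2), (30, 6), (27, 5), (34, 1), (26, 5), (37, 1), (38, 0), (11, 6), (39, 0), (23, 2), (19, 1), (18, 6), (37, 4), (22, 2), (25, 6),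 (40, 0), (23, 6), (41, 0), (7, 2), (39, 3), (34, 5), (35, 3), (10, 6), (33, 1), (42, 0), (26, 2), (22, 1), (32, 5), (7, 5), (9, 1), (43, 0), (6, 6), (18, 4), (24, 4), (44, 0), (36, 4), (15, 5), (41, 4), (40, 5), (43, 4), (8, 3), (4, 3), (27, 1), (44, 6), (19, 4), (23, 4), (24, 5), (28, 4), (10, 1), (1, 5), (32, 6), (12, 2), (0, 3), (10, 3), (19, 3), (24, 3), (2, 2), (8, 6), (25, 2), (35, 5), (32, 4), (18, 5), (3, 2), (14, 1), (41, 6), (11, 2), (38, 4), (37, 6), (25, 3), (34, 3), (17, 2), (32, 1), (10, 5), (44, 2), (40, 2), (28, 2), (1, 3), (9, 3), (20, 2), (13, 6), (33, 4), (26, 4), (22, 3), (18, 3), (38, 2), (26, 6), (33, 2), (37, 3), (27, 3), (32, 3), (41, 1), (19, 2), (44, 3), (29, 1), (39, 1), (22, 5), (42, 3), (23, 1), (7, 6), (37, 2), (41, 3), (30, 5), (31, 2), (22, 6), (33, 6), (12, 5),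 (34, 2), (35, 6), (42, 5), (24, 6), (20, 1), (16, 3), (5, 3), (5, 5), (38, 6), (35, 1), (16, 5), (20, 4), (41, 5), (21, 1), (25, 4), (29, 3), (8, 2), (20, 6), (26, 1), (31, 5), (27, 2), (34, 6), (38, 5), (9, 5), (39, 4), (30, 2), (17, 6), (15, 1), (23, 5), (37, 5), (35, 2), (36, 3), (39, 5), (0, 6), (14, 2), (16, 4), (19, 6), (17, 1), (36, 5), (43, 6), (16, 6), (16, 2), (13, 1), (2, 5), (29, 2), (26, 3), (30, 4), (25, 5), (13, 3), (2, 3), (11, 5), (42, 1), (21, 5), (1, 6), (28, 1), (43, 3), (36, 1), (40, 6), (3, 1), (0, 4), (4, 4), (2, 4), (5, 4), (3, 4), (7, 4), (4, 5), (12, 3), (6, 3), (21, 4), (17, 4), (8, 5), (2, 6), (21, 2), (28, 3), (31, 1), (10, 2), (12, 1), (0, 5), (23, 3), (17, 3), (29, 5), (35, 4), (18, 2), (42, 6), (36, 6), (40, 3), (44, 5), (43, 1), (21, 3), (15, 3), (8, 1), (4,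 6), (1, 2), (43, 5), (7, 3), (11, 3), (40, 4), (27, 6), (40, 1), (12, 6), (3, 3), (14, 3), (15, 2), (31, 3), (44, 1), (28, 5), (19, 5), (31, 6), (9, 2), (42, 4), (29, 4), (34, 4), (39, 6), (38, 1), (20, 3), (13, 5), (31, 4), (27, 4), (11, 1), (6, 5), (42, 2), (17, 5), (33, 5), (39, 2), (30, 3), (33, 3), (30, 1), (38, 3), (22, 4), (15, 4), (1, 4), (36, 2), (43, 2), (6, 2), (44, 4), (9, 6), (28, 6), (24, 2), (41, 2), (6, 4), (4, 1)]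

/-- For each orbit: a relation it violates (empty for the two exceptions). -/
def autRels : List (List ℕ) := [[],
  [0, 1, 0, 1, 0, 1, 0, 1, 0, 1, 0, 1, 0, 1],
  [0, 1, 0, 1, 0, 1, 0, 1, 0, 1, 0, 1, 0, 1],
  [0, 1, 0, 1, 0, 1, 0, 1, 0, 1, 0, 1, 0, 1],
  [0, 1, 0, 1, 0, 1, 0, 1, 0, 1, 0, 1, 0, 1],
  [0, 1, 0, 0, 0, 0, 0, 0, 1, 0, 1, 0, 0, 0, 0, 0, 0, 1, 0, 1, 0, 0, 0, 0, 0, 0, 1],
  [0, 1, 0, 1, 0, 1, 0, 1, 0, 1, 0, 1, 0, 1],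
  [0, 1, 0, 1, 0, 1, 0, 1, 0, 1, 0, 1, 0, 1],
  [0, 1, 0, 1, 0, 1, 0, 1, 0, 1, 0, 1, 0, 1],
  [0, 1, 0, 1, 0, 1, 0, 1, 0, 1, 0, 1, 0, 1],
  [0, 1, 0, 1, 0, 1, 0, 1, 0, 1, 0, 1, 0, 1],
  [0, 1, 0, 1, 0, 1, 0, 1, 0, 1, 0, 1, 0, 1],
  [0, 1, 0, 1, 0, 1, 0, 1, 0, 1, 0, 1, 0, 1],
  [0, 1, 0, 1, 0, 1, 0, 1, 0, 1, 0, 1, 0, 1],
  [0, 1, 0, 1, 0, 1, 0, 1, 0, 1, 0, 1, 0, 1],
  [0, 1, 0, 1, 0, 1, 0, 1, 0, 1, 0, 1, 0, 1],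
  [0, 1, 0, 1, 0, 1, 0, 1, 0, 1, 0, 1, 0, 1],
  [0, 1, 0, 1, 0, 1, 0, 1, 0, 1, 0, 1, 0, 1],
  [0, 1, 0, 1, 0, 1, 0, 1, 0, 1, 0, 1, 0, 1],
  [0, 1, 0, 1, 0, 1, 0, 1, 0, 1, 0, 1, 0, 1],
  [0, 0, 1, 0, 0, 1, 0, 0, 1, 0, 0, 1, 0, 0, 1, 0, 0, 1],
  [0, 1, 0, 1, 0, 1, 0, 1, 0, 1, 0, 1, 0, 1],
  [0, 1, 0, 0, 0, 0, 0, 0, 1, 0, 1, 0, 0, 0, 0, 0, 0, 1, 0, 1, 0, 0, 0, 0, 0, 0, 1],
  [0, 1, 0, 1, 0, 1, 0, 1, 0, 1, 0, 1, 0, 1],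
  [0, 1, 0, 1, 0, 1, 0, 1, 0, 1, 0, 1, 0, 1],
  [0, 1, 0, 1, 0, 1, 0, 1, 0, 1, 0, 1, 0, 1],
  [0, 0, 1, 0, 0, 1, 0, 0, 1, 0, 0, 1, 0, 0, 1, 0, 0, 1],
  [0, 1, 0, 1, 0, 1, 0, 1, 0, 1, 0, 1, 0, 1],
  [0, 1, 0, 1, 0, 1, 0, 1, 0, 1, 0, 1, 0, 1],
  [0, 1, 0, 1, 0, 1, 0, 1, 0, 1, 0, 1, 0, 1],
  [0, 0, 1, 0, 0, 1, 0, 0, 1, 0, 0, 1, 0, 0, 1, 0, 0, 1],
  [0, 1, 0, 1, 0, 1, 0, 1, 0, 1, 0, 1, 0, 1],
  [0, 1, 0, 1, 0, 1, 0, 1, 0, 1, 0, 1, 0, 1],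
  [0, 1, 0, 1, 0, 1, 0, 1, 0, 1, 0, 1, 0, 1],
  [0, 1, 0, 1, 0, 1, 0, 1, 0, 1, 0, 1, 0, 1],
  [0, 1, 0, 1, 0, 1, 0, 1, 0, 1, 0, 1, 0, 1],
  [0, 1, 0, 1, 0, 1, 0, 1, 0, 1, 0, 1, 0, 1],
  [0, 1, 0, 1, 0, 1, 0, 1, 0, 1, 0, 1, 0, 1],
  [0, 1, 0, 1, 0, 1, 0, 1, 0, 1, 0, 1, 0, 1],
  [0, 1, 0, 1, 0, 1, 0, 1, 0, 1, 0, 1, 0, 1],
  [0, 1, 0, 1, 0, 1, 0, 1, 0, 1, 0, 1, 0, 1],
  [0, 1, 0, 1, 0, 1, 0, 1, 0, 1, 0, 1, 0, 1],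
  [0, 1, 0, 1, 0, 1, 0, 1, 0, 1, 0, 1, 0, 1],
  [],
  [0, 1, 0, 1, 0, 1, 0, 1, 0, 1, 0, 1, 0, 1]]

/-- Strong generators as words in the generating pair. -/
def autWords : List (List ℕ) := [[0, 1, 0, 0, 0, 0, 1, 0, 0, 1, 0, 1, 0, 0, 1, 0, 0, 0, 0, 1, 0, 0, 0, 0, 0, 0], [0, 0, 0, 1, 0, 0, 0, 1, 0, 0, 1, 0, 1, 0, 1, 0, 1, 0, 0, 1, 0, 0, 0, 1, 0, 0], [0, 0, 1, 0, 1, 0, 1, 0, 0, 1, 0, 1, 0, 0, 1, 0, 0, 0, 1, 0, 1, 0, 0], [1, 0, 0, 1, 0, 0, 1, 0, 0, 0, 1, 0, 0, 1, 0, 0, 0, 1, 0, 0, 1, 0, 1]]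

/-- The orbit of the image of the generating involution under the outer automorphism. -/
def autSwap : ℕ := 43

/-- A permutation inducing the outer automorphism, and its inverse. -/
def autPi : ℕ × ℕ := (0x20399531eaa01dc35c3aea44494e1014aa89830c846aa5d33393c18a6f15a3085886987d715ddb2971d0a381b49b691ebf415268b0018bb196e63ca7898f013452316b04e22cbe8815aad79c43466ddaf12b60d59084fa7, 0x6afadb22639c3a5e41b97b43c22ac15d9b48d514cf4681803426611518fc2dd58ed69f132510d86c65c191852401160314737a5500079b2e164812b0276e47146e6bc4a6289a2d56b63bf89ece51103d3b29a94c8a44e27)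

/-- A reflection inducing the representative of the class of row 2. -/
def autTwo : ℕ := 113

end Cfsg.Agent.Compute.J2
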