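import Cfsg.Agent.Compute.J2.GroupDefs
import Cfsg.Agent.Compute.J2.OutData

/-!
Kernel checks for the automorphisms of J2.
-/

set_option autoImplicit false
set_option Elab.async false

namespace Cfsg.Agent.Compute.J2

noncomputable def autA : ℕ := (nth ((((0, 0), 0, 0), ((0, 0), 0, 0)), 0, 0, 0, 0) classTable 12).1.1.1.2
noncomputable def autAInv : ℕ := (nth ((((0, 0), 0, 0), ((0, 0), 0, 0)), 0, 0, 0, 0) classTable 12).1.2.1.2

/-- Reflection `i` on 100 points. -/
noncomputable def tau (i : ℕ) : ℕ := (nth (0, 0) reflPerms i).2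

/-- Representative of orbit `k`. -/
noncomputable def tauRep (k : ℕ) : ℕ := tau (nth 0 autReps k)

noncomputable def tauOK (i : ℕ) : Bool :=
  quoOps.okInv (tau i) (tau i) && sift quoOps quoChain (tau i)

/-- The recorded orbit and exponent of reflection `i`. -/
noncomputable def whereOK (i : ℕ) : Bool :=
  let w := nth (0, 0) autWhere i
  Nat.ble (w.1 + 1) 45 &&
    lall (basesOf quoChain) (fun b => Nat.beq (quoOps.img (tau i) b)
      (imgW quoOps [powR quoOps autA w.2, tauRep w.1, powR quoOps autAInv w.2] b))

noncomputable def tauDistinct (i : ℕ) : Bool :=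
  allN i (fun j =>
    !(lall (basesOf quoChain) (fun b => Nat.beq (quoOps.img (tau i) b) (quoOps.img (tau j) b))))

/-- Value of a word in `autA` and `y` at a point. -/
noncomputable def autImg (y : ℕ) (w : List ℕ) (b : ℕ) : ℕ :=
  imgW quoOps (w.map (nth quoOps.one [autA, y])) b

noncomputable def relOK (k : ℕ) : Bool :=
  Nat.beq k 0 || Nat.beq k autSwap ||
    (lall (basesOf quoChain) (fun b => Nat.beq (autImg (tauRep 0) (nth [] autRels k) b) b) &&
      !(lall (basesOf quoChain) (fun b => Nat.beq (autImg (tauRep k) (nth [] autRels k) b) b)))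

noncomputable def piOK : Bool :=
  quoOps.okInv autPi.1 autPi.2 &&
    quoOps.eqv (quoOps.mul autPi.1 autA) (quoOps.mul autA autPi.1) &&
    quoOps.eqv (quoOps.mul autPi.1 (tauRep 0)) (quoOps.mul (tauRep autSwap) autPi.1) &&
    allN 7 (fun j => !(lall (basesOf quoChain) (fun b => Nat.beq (quoOps.img (tauRep autSwap) b)
      (imgW quoOps [powR quoOps autA j, tauRep 0, powR quoOps autAInv j] b))))

theorem autA_ok : (quoOps.okInv autA autAInv && sift quoOps quoChain autA) = true := by
  decide +kernel
theorem tau_ok : allN 315 tauOK = true := by decide +kernel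
theorem autReps_ok : allN 45 (fun k => Nat.ble (nth 0 autReps k + 1) 315) = true := by decide +kernel
theorem where_ok : allN 315 whereOK = true := by decide +kernel
theorem tau_distinct : allN 315 tauDistinct = true := by decide +kernel
theorem two_ok : Nat.beq (tau autTwo)
    (nth ((((0, 0), 0, 0), ((0, 0), 0, 0)), 0, 0, 0, 0) classTable 2).1.1.1.2 = true := by
  decide +kernel
theorem autGen_ok : genBy quoOps quoChain [autA, tauRep 0] autWords = true := by decide +kernel
theorem rel_ok : allN 45 relOK = true := by decide +kernel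
theorem pi_ok : piOK = true := by decide +kernel

end Cfsg.Agent.Compute.J2
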