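import Cfsg.Agent.Compute.J2.CentData
import Cfsg.Agent.Compute.J2.OutCheck

/-!
Checks on the centraliser of a reflection in the quotient on 100 points.
-/

set_option autoImplicit false

namespace Cfsg.Agent.Compute.J2

noncomputable def cinvOps : Ops (ℕ × ℕ) := prodOps (permOps 7 100) (permOps 3 5)

noncomputable def fiveOps : Ops ℕ := permOps 3 5

noncomputable def cinvGensOK : Bool :=
  lall (nextGens cinvChain) (fun g => sift quoOps quoChain g.1.1 &&
    lall (basesOf quoChain) (fun b => Nat.beq (quoOps.img g.1.1 (quoOps.img (tau autTwo) b))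
      (quoOps.img (tau autTwo) (quoOps.img g.1.1 b))))

noncomputable def kerAt (i : ℕ) : (ℕ × ℕ) × (ℕ × ℕ) :=
  nth ((cinvOps.one, cinvOps.one)) cinvKer i

/-- Two kernel elements are equal as permutations of the 100 points. -/
noncomputable def sameQ (a b : ℕ × ℕ) : Bool :=
  lall (basesOf cinvChain) (fun p => Nat.beq (cinvOps.img a p) (cinvOps.img b p))

noncomputable def cinvKerOK : Bool :=
  Nat.beq cinvKer.length 32 &&
  allN 32 (fun i => cinvOps.okInv (kerAt i).1 (kerAt i).2 && sift cinvOps cinvChain (kerAt i).1 &&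
    Nat.beq (kerAt i).1.2 fiveOps.one &&
    allN i (fun j => !(sameQ (kerAt i).1 (kerAt j).1)))

noncomputable def commQ (i j : ℕ) : Bool :=
  sameQ (cinvOps.mul (kerAt i).1 (kerAt j).1) (cinvOps.mul (kerAt j).1 (kerAt i).1)

noncomputable def cinvExtraOK : Bool :=
  Nat.ble (cinvZ + 1) 32 && Nat.ble (cinvOne + 1) 32 && !(Nat.beq cinvZ cinvOne) &&
  sameQ (kerAt cinvOne).1 cinvOps.one &&
  allN 32 (fun i => commQ cinvZ i &&
    (Nat.beq i cinvZ || Nat.beq i cinvOne || !(allN 32 (fun j => commQ i j))) &&
    (sameQ (cinvOps.mul (kerAt i).1 (kerAt i).1) (kerAt cinvOne).1 ||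
      sameQ (cinvOps.mul (kerAt i).1 (kerAt i).1) (kerAt cinvZ).1))

theorem cinvChain_ok : checkChain cinvOps cinvChain = true := by decide +kernel

theorem fiveChain_ok : checkChain fiveOps fiveChain = true := by decide +kernel

theorem fiveGen_ok :
    genBy fiveOps fiveChain ((nextGens cinvChain).map (fun g => g.1.2)) fiveWords = true := by
  decide +kernel

theorem cinvGens_ok : cinvGensOK = true := by decide +kernel

theorem cinvKer_ok : cinvKerOK = true := by decide +kernel

theorem cinvExtra_ok : cinvExtraOK = true := by decide +kernel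

theorem cinv_orders : order cinvChain = 1920 ∧ order fiveChain = 60 := by decide +kernel

end Cfsg.Agent.Compute.J2
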