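import Cfsg.Agent.Compute.J2.Outer
import Cfsg.Agent.Compute.J2.CentDefs
import Cfsg.Agent.Cores.SquareExtraspecial

/-!
The centraliser of a reflection in J2 is an extension of an extraspecial group of order 32 by the
alternating group of degree five.
-/

set_option autoImplicit false

namespace Cfsg.Agent.Compute.J2

open Subgroup

noncomputable def cinvSound :
    Sound (G := Equiv.Perm (Fin 100) × Equiv.Perm (Fin 5)) cinvOps :=
  Sound.prod (permSound 7 100 (by norm_num)) (permSound 3 5 (by norm_num))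

noncomputable def fiveSound : Sound (G := Equiv.Perm (Fin 5)) fiveOps :=
  permSound 3 5 (by norm_num)

theorem cinv_fst {a : ℕ × ℕ} (h : cinvSound.ok a) :
    quoSound.ok a.1 ∧ (cinvSound.den a).1 = quoSound.den a.1 := by
  unfold quoSound
  exact ⟨h.1, rfl⟩

theorem cinv_snd {a : ℕ × ℕ} (h : cinvSound.ok a) :
    fiveSound.ok a.2 ∧ (cinvSound.den a).2 = fiveSound.den a.2 := ⟨h.2, rfl⟩

attribute [local irreducible] packP mulMat nth quoChain quoSound quoOps cinvChain fiveChain cinvKer
  cinvSound fiveSound cinvOps fiveOps autTwo tau reflPerms cinvZ cinvOne kerAt sameQ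

/-- The centraliser group with its action on five objects. -/
noncomputable def cinvGrp : Subgroup (Equiv.Perm (Fin 100) × Equiv.Perm (Fin 5)) :=
  cinvSound.grp cinvChain

theorem card_cinvGrp : Nat.card cinvGrp = 1920 := by
  rw [cinvGrp, (checkChain_sound cinvSound cinvChain_ok).card, cinv_orders.1]

theorem finite_cinvGrp : Finite cinvGrp :=
  Nat.finite_of_card_ne_zero (by rw [card_cinvGrp]; norm_num)

/-- The chosen reflection. -/
noncomputable def xTwo : quoGrp := tQ ⟨autTwo, autTwo_lt⟩

theorem fst_mem {k : Equiv.Perm (Fin 100) × Equiv.Perm (Fin 5)} (hk : k ∈ cinvGrp) :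
    ∃ h : k.1 ∈ quoGrp, (⟨k.1, h⟩ : quoGrp) ∈ centralizer ({xTwo} : Set quoGrp) := by
  have hle : cinvGrp ≤ ((centralizer ({xTwo} : Set quoGrp)).map quoGrp.subtype).comap
      (MonoidHom.fst _ _) := by
    rw [cinvGrp, Sound.grp, closure_le]
    rintro _ ⟨_, ⟨g, hg, rfl⟩, rfl⟩
    have ok := (checkChain_sound cinvSound cinvChain_ok).gens_ok g hg
    obtain ⟨oq, hden⟩ := cinv_fst ok
    have h := (lall_iff _ _).1 cinvGens_ok g hg
    rw [Bool.and_eq_true, lall_iff] at h
    have hm : quoSound.den g.1.1 ∈ quoGrp :=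
      ((checkChain_sound quoSound quoChain_ok).sift_iff _ oq).1 h.1
    refine ⟨⟨_, hm⟩, mem_centralizer_singleton_iff.2 (Subtype.ext ?_), hden.symm⟩
    obtain ⟨ot, hmt, -⟩ := tau_facts autTwo_lt
    show quoSound.den g.1.1 * quoSound.den (tau autTwo) =
      quoSound.den (tau autTwo) * quoSound.den g.1.1
    refine eq_of_bases quoSound quoChain_ok (mul_mem hm hmt) (mul_mem hmt hm) fun b hb => ?_
    rw [quoSound.act_mul, quoSound.act_mul, ← quoSound.img_eq ot, ← quoSound.img_eq oq,
      ← quoSound.img_eq oq, ← quoSound.img_eq ot]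
    exact Nat.eq_of_beq_eq_true (h.2 b hb)
  obtain ⟨⟨y, hy⟩, hc, e⟩ := hle hk
  obtain rfl : y = k.1 := e
  exact ⟨hy, hc⟩

/-- Projection to the centraliser. -/
noncomputable def toCent : cinvGrp →* centralizer ({xTwo} : Set quoGrp) where
  toFun k := ⟨⟨k.1.1, (fst_mem k.2).1⟩, (fst_mem k.2).2⟩
  map_one' := rfl
  map_mul' _ _ := rfl

theorem card_cent_xTwo : Nat.card (centralizer ({xTwo} : Set quoGrp)) = 1920 := by
  have hr : (row 2).2.2.2.2 = 1920 := by unfold row; decide +kernel
  rw [xTwo, tQ_two]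
  exact (card_cent_rep 2).trans hr

theorem toCent_bijective : Function.Bijective toCent := by
  have := finite_cinvGrp
  have hinj : Function.Injective toCent := by
    intro a b h
    have h1 : a.1.1 = b.1.1 := congrArg (fun c => c.1.1) h
    apply Subtype.ext
    refine eq_of_bases cinvSound cinvChain_ok a.2 b.2 fun p _ => ?_
    unfold cinvSound
    show permAct 100 a.1.1 p = permAct 100 b.1.1 p
    rw [h1]
  exact hinj.bijective_of_nat_card_le (by rw [card_cent_xTwo, card_cinvGrp])

/-- The action on five objects. -/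
noncomputable def toFive : cinvGrp →* Equiv.Perm (Fin 5) :=
  (MonoidHom.snd _ _).comp cinvGrp.subtype

theorem range_toFive : toFive.range = alternatingGroup (Fin 5) := by
  have hgen : fiveSound.grp fiveChain =
      Subgroup.closure (fiveSound.den '' {a | a ∈ (nextGens cinvChain).map (fun g => g.1.2)}) :=
    genBy_sound fiveSound fiveChain_ok fiveGen_ok fun a ha => by
      obtain ⟨g, hg, rfl⟩ := List.mem_map.1 ha
      exact (cinv_snd ((checkChain_sound cinvSound cinvChain_ok).gens_ok g hg)).1
  have heq : toFive.range = fiveSound.grp fiveChain := by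
    rw [hgen, toFive, MonoidHom.range_comp, Subgroup.range_subtype, cinvGrp, Sound.grp,
      MonoidHom.map_closure]
    congr 1
    ext y
    simp only [Set.mem_image, List.mem_map]
    constructor
    · rintro ⟨_, ⟨_, ⟨g, hg, rfl⟩, rfl⟩, rfl⟩
      exact ⟨_, ⟨g, hg, rfl⟩, ((cinv_snd ((checkChain_sound cinvSound cinvChain_ok).gens_ok g hg)).2).symm⟩
    · rintro ⟨_, ⟨g, hg, rfl⟩, rfl⟩
      exact ⟨_, ⟨_, ⟨g, hg, rfl⟩, rfl⟩, (cinv_snd ((checkChain_sound cinvSound cinvChain_ok).gens_ok g hg)).2⟩
  refine Equiv.Perm.eq_alternatingGroup_of_index_eq_two ?_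
  have h := toFive.range.card_mul_index
  rw [Nat.card_perm, Nat.card_fin, heq, (checkChain_sound fiveSound fiveChain_ok).card,
    cinv_orders.2] at h
  rw [heq]
  simp [Nat.factorial] at h
  omega

theorem card_ker_toFive : Nat.card toFive.ker = 32 := by
  have h := toFive.ker.card_mul_index
  rw [Subgroup.index_ker, range_toFive, card_cinvGrp, nat_card_alternatingGroup, Nat.card_fin] at h
  rw [show Nat.factorial 5 / 2 = 60 from rfl] at h
  omega

theorem kerAt_facts (i : Fin 32) :
    cinvSound.ok (kerAt i).1 ∧ ∃ h : cinvSound.den (kerAt i).1 ∈ cinvGrp,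
      (⟨_, h⟩ : cinvGrp) ∈ toFive.ker := by
  have h := cinvKer_ok
  simp only [cinvKerOK, Bool.and_eq_true, allN_iff] at h
  obtain ⟨⟨⟨ho, hs⟩, h1⟩, -⟩ := h.2 i i.2
  obtain ⟨ok, -, -⟩ := cinvSound.okInv_sound ho
  refine ⟨ok, ((checkChain_sound cinvSound cinvChain_ok).sift_iff _ ok).1 hs, ?_⟩
  rw [MonoidHom.mem_ker]
  show (cinvSound.den (kerAt i).1).2 = 1
  rw [(cinv_snd ok).2, Nat.eq_of_beq_eq_true h1, fiveSound.den_one]

/-- Kernel element `i`. -/
noncomputable def kerElt (i : Fin 32) : toFive.ker :=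
  ⟨⟨_, (kerAt_facts i).2.fst⟩, (kerAt_facts i).2.snd⟩

theorem sameQ_iff {a b : ℕ × ℕ} (ha : cinvSound.ok a) (hb : cinvSound.ok b)
    (ma : cinvSound.den a ∈ cinvGrp) (mb : cinvSound.den b ∈ cinvGrp) :
    sameQ a b = true ↔ cinvSound.den a = cinvSound.den b := by
  unfold sameQ
  rw [lall_iff]
  constructor
  · intro h
    refine eq_of_bases cinvSound cinvChain_ok ma mb fun p hp => ?_
    rw [← cinvSound.img_eq ha, ← cinvSound.img_eq hb]
    exact Nat.eq_of_beq_eq_true (h p hp)
  · intro e p _
    rw [cinvSound.img_eq ha, cinvSound.img_eq hb, e]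
    exact Nat.beq_refl _

theorem kerElt_eq_iff (i j : Fin 32) :
    sameQ (kerAt i).1 (kerAt j).1 = true ↔ kerElt i = kerElt j := by
  rw [sameQ_iff (kerAt_facts i).1 (kerAt_facts j).1 (kerAt_facts i).2.fst (kerAt_facts j).2.fst]
  exact ⟨fun h => Subtype.ext (Subtype.ext h), fun h => congrArg (fun a => a.1.1) h⟩

theorem kerElt_bijective : Function.Bijective kerElt := by
  have hinj : Function.Injective kerElt := by
    have key : ∀ i j : Fin 32, j.1 < i.1 → kerElt i ≠ kerElt j := by
      intro i j hji e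
      have h := cinvKer_ok
      simp only [cinvKerOK, Bool.and_eq_true, allN_iff] at h
      have h2 := (h.2 i i.2).2 j hji
      rw [(kerElt_eq_iff i j).2 e] at h2
      simp at h2
    intro i j h
    rcases lt_trichotomy i.1 j.1 with hl | he | hl
    · exact absurd h.symm (key j i hl)
    · exact Fin.ext he
    · exact absurd h (key i j hl)
  have := finite_cinvGrp
  exact hinj.bijective_of_nat_card_le (by rw [card_ker_toFive, Nat.card_fin])

theorem commQ_iff (i j : Fin 32) :
    commQ i j = true ↔ kerElt i * kerElt j = kerElt j * kerElt i := by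
  have oi := (kerAt_facts i).1
  have oj := (kerAt_facts j).1
  unfold commQ
  rw [sameQ_iff (cinvSound.ok_mul oi oj) (cinvSound.ok_mul oj oi)
      (by rw [cinvSound.den_mul oi oj]; exact mul_mem (kerAt_facts i).2.fst (kerAt_facts j).2.fst)
      (by rw [cinvSound.den_mul oj oi]; exact mul_mem (kerAt_facts j).2.fst (kerAt_facts i).2.fst),
    cinvSound.den_mul oi oj, cinvSound.den_mul oj oi]
  exact ⟨fun h => Subtype.ext (Subtype.ext h), fun h => congrArg (fun a => a.1.1) h⟩

theorem isExtraspecial_ker : Cfsg.IsExtraspecial 2 toFive.ker := by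
  have := finite_cinvGrp
  have h := cinvExtra_ok
  simp only [cinvExtraOK, Bool.and_eq_true, allN_iff, Nat.ble_eq, Bool.not_eq_true'] at h
  obtain ⟨⟨⟨⟨hz, ho⟩, hne⟩, hone⟩, hall⟩ := h
  set zi : Fin 32 := ⟨cinvZ, hz⟩ with hzi
  set oi : Fin 32 := ⟨cinvOne, ho⟩ with hoi
  have e1 : kerElt oi = 1 := by
    apply Subtype.ext
    apply Subtype.ext
    show cinvSound.den (kerAt cinvOne).1 = 1
    have h1 := (sameQ_iff (kerAt_facts oi).1 cinvSound.ok_one (kerAt_facts oi).2.fst
      (by rw [cinvSound.den_one]; exact one_mem _)).1 hone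
    rwa [cinvSound.den_one] at h1
  have hz1 : kerElt zi ≠ 1 := by
    rw [← e1]
    intro e
    have h2 : cinvZ = cinvOne := congrArg Fin.val (kerElt_bijective.1 e)
    rw [h2] at hne
    simp at hne
  have hzc : kerElt zi ∈ Subgroup.center toFive.ker := by
    rw [mem_center_iff]
    intro g
    obtain ⟨i, rfl⟩ := kerElt_bijective.2 g
    exact ((commQ_iff zi i).1 (hall i i.2).1.1).symm
  have hsq : ∀ i : Fin 32, kerElt i * kerElt i = 1 ∨ kerElt i * kerElt i = kerElt zi := by
    intro i
    have oki := (kerAt_facts i).1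
    have m : cinvSound.den (cinvOps.mul (kerAt i).1 (kerAt i).1) ∈ cinvGrp := by
      rw [cinvSound.den_mul oki oki]; exact mul_mem (kerAt_facts i).2.fst (kerAt_facts i).2.fst
    have h2 := (hall i i.2).2
    rw [Bool.or_eq_true] at h2
    rcases h2 with h2 | h2
    · left
      rw [← e1]
      refine Subtype.ext (Subtype.ext ?_)
      rw [show cinvOne = ((oi : Fin 32) : ℕ) from rfl, sameQ_iff (cinvSound.ok_mul oki oki)
        (kerAt_facts oi).1 m (kerAt_facts oi).2.fst, cinvSound.den_mul oki oki] at h2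
      exact h2
    · right
      refine Subtype.ext (Subtype.ext ?_)
      rw [show cinvZ = ((zi : Fin 32) : ℕ) from rfl, sameQ_iff (cinvSound.ok_mul oki oki)
        (kerAt_facts zi).1 m (kerAt_facts zi).2.fst, cinvSound.den_mul oki oki] at h2
      exact h2
  have hcen : Subgroup.center toFive.ker = Subgroup.zpowers (kerElt zi) := by
    refine le_antisymm (fun g hg => ?_) (zpowers_le.2 hzc)
    obtain ⟨i, rfl⟩ := kerElt_bijective.2 g
    have h2 := (hall i i.2).1.2
    simp only [Bool.or_eq_true, Bool.not_eq_true', Nat.beq_eq] at h2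
    rcases h2 with (h2 | h2) | h2
    · rw [show i = zi from Fin.ext h2]; exact mem_zpowers _
    · rw [show i = oi from Fin.ext h2, e1]; exact one_mem _
    · exfalso
      rw [← Bool.not_eq_true, allN_iff] at h2
      apply h2
      intro j hj
      exact (commQ_iff i ⟨j, hj⟩).2 ((mem_center_iff.1 hg (kerElt ⟨j, hj⟩)).symm)
  have hz2 : kerElt zi ^ 2 = 1 := by
    rw [pow_two]
    rcases hsq zi with e | e
    · exact e
    · exact absurd (mul_eq_left.1 e) hz1
  refine Cores.SquareExtraspecial.isExtraspecial_of_squares (z := kerElt zi) ?_ hcen hz1 hz2 ?_ ?_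
  · exact IsPGroup.of_card (n := 5) (by rw [card_ker_toFive]; norm_num)
  · intro g
    obtain ⟨i, rfl⟩ := kerElt_bijective.2 g
    rw [pow_two]
    rcases hsq i with e | e <;> rw [e]
    · exact one_mem _
    · exact hzc
  · rw [card_ker_toFive]; norm_num

/-- Being extraspecial passes along isomorphisms. -/
theorem extraspecial_congr {A B : Type*} [Group A] [Group B] (e : A ≃* B) {p : ℕ}
    (h : Cfsg.IsExtraspecial p A) : Cfsg.IsExtraspecial p B := by
  obtain ⟨⟨hp, hf, hc⟩, hcard⟩ := h
  have hcm : (Subgroup.center A).map e.toMonoidHom = Subgroup.center B := by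
    ext b
    rw [Subgroup.mem_map_equiv, mem_center_iff, mem_center_iff]
    constructor
    · intro h g
      apply e.symm.injective
      rw [map_mul, map_mul, h]
    · intro h g
      apply e.injective
      rw [map_mul, map_mul, e.apply_symm_apply, h]
  have hfm : (frattini A).map e.toMonoidHom = frattini B := by
    refine le_antisymm (Subgroup.map_le_iff_le_comap.2
      (frattini_le_comap_frattini_of_surjective e.surjective)) ?_
    intro b hb
    rw [Subgroup.mem_map_equiv]
    exact frattini_le_comap_frattini_of_surjective (φ := e.symm.toMonoidHom) e.symm.surjective hb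
  have hdm : (_root_.commutator A).map e.toMonoidHom = _root_.commutator B := by
    rw [_root_.commutator_def, Subgroup.map_commutator, Subgroup.map_top_of_surjective _ e.surjective,
      ← _root_.commutator_def]
  refine ⟨⟨hp.of_surjective e.toMonoidHom e.surjective, ?_, ?_⟩, ?_⟩
  · rw [← hfm, hf, hcm]
  · rw [← hdm, hc, hcm]
  · rw [← hcm, ← hcard]
    exact (Nat.card_congr ((Subgroup.center A).equivMapOfInjective _ e.injective).toEquiv).symm

/-- Structure of a centraliser transported along an isomorphism. -/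
theorem cent_structure_of_equiv {C : Type} [Group C] (e : cinvGrp ≃* C) :
    ∃ (Q : Subgroup C) (_ : Q.Normal), Nat.card Q = 32 ∧ Cfsg.IsExtraspecial 2 Q ∧
      Nonempty (C ⧸ Q ≃* alternatingGroup (Fin 5)) := by
  let f : C →* Equiv.Perm (Fin 5) := toFive.comp e.symm.toMonoidHom
  have hk : f.ker = toFive.ker.map e.toMonoidHom := by
    ext c
    rw [Subgroup.mem_map_equiv]
    rfl
  have eq32 : toFive.ker ≃* f.ker := (e.subgroupMap toFive.ker).trans (MulEquiv.subgroupCongr hk.symm)
  refine ⟨f.ker, inferInstance, ?_, ?_, ?_⟩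
  · rw [← Nat.card_congr eq32.toEquiv, card_ker_toFive]
  · exact extraspecial_congr eq32 isExtraspecial_ker
  · have hr : f.range = alternatingGroup (Fin 5) := by
      rw [← range_toFive]
      rw [MonoidHom.range_eq_map, MonoidHom.range_eq_map, ← Subgroup.map_map,
        Subgroup.map_top_of_surjective _ e.symm.surjective]
    exact ⟨(QuotientGroup.quotientKerEquivRange f).trans (MulEquiv.subgroupCongr hr)⟩

theorem exists_equiv_cent (x : quoGrp) (hx : IsConj xTwo x) :
    Nonempty (cinvGrp ≃* centralizer ({x} : Set quoGrp)) := by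
  obtain ⟨g, rfl⟩ := isConj_iff.1 hx
  have h : (centralizer ({xTwo} : Set quoGrp)).map (MulAut.conj g).toMonoidHom =
      centralizer ({g * xTwo * g⁻¹} : Set quoGrp) := by
    ext c
    rw [Subgroup.mem_map_equiv, mem_centralizer_singleton_iff, mem_centralizer_singleton_iff]
    simp only [MulAut.conj_symm_apply]
    constructor
    · intro h
      calc c * (g * xTwo * g⁻¹) = g * ((g⁻¹ * c * g) * xTwo) * g⁻¹ := by group
        _ = g * (xTwo * (g⁻¹ * c * g)) * g⁻¹ := by rw [h]
        _ = g * xTwo * g⁻¹ * c := by group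
    · intro h
      calc g⁻¹ * c * g * xTwo = g⁻¹ * (c * (g * xTwo * g⁻¹)) * g := by group
        _ = g⁻¹ * (g * xTwo * g⁻¹ * c) * g := by rw [h]
        _ = xTwo * (g⁻¹ * c * g) := by group
  exact ⟨((MulEquiv.ofBijective _ toCent_bijective).trans ((MulAut.conj g).subgroupMap _)).trans
    (MulEquiv.subgroupCongr h)⟩

end Cfsg.Agent.Compute.J2
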