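import Cfsg.Agent.Compute.J2.Linear

/-!
Packed reductions of the reflections of the icosian Leech lattice.
-/

set_option autoImplicit false

namespace Cfsg.Agent.Compute.J2

noncomputable def rootN (s : Bool) : ℤ := cond s 8 4

/-- Entries (row, column) of I, ω, Iω modulo 11, at index 2·row + column. -/
def tabI : List ℤ := [0, 10, 1, 0]
noncomputable def tabW (s : Bool) : List ℤ := cond s [5, 2, 6, 7] [0, 9, 6, 1]
noncomputable def tabIW (s : Bool) : List ℤ := cond s [5, 4, 5, 2] [5, 10, 0, 9]

noncomputable def phiZ (s : Bool) (z : Zt) : ℤ := z.a + z.b * rootN s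

/-- Entry `(a, b)` of the transposed reduction. -/
noncomputable def psiN (s : Bool) (x : Ico) (a b : ℕ) : ℕ :=
  let k := Nat.add (Nat.mul 2 b) a
  Int.toNat ((phiZ s x.x0 * cond (Nat.beq a b) 1 0 + phiZ s x.x1 * nth 0 tabI k +
    phiZ s x.x2 * nth 0 (tabW s) k + phiZ s x.x3 * nth 0 (tabIW s) k) % 11)

noncomputable def pickN {α : Type} (t : ℕ) (a b c : α) : α :=
  cond (Nat.beq t 0) a (cond (Nat.beq t 1) b c)

noncomputable def colN (s : Bool) (v : Vec) (i j : ℕ) : ℕ :=
  psiN s (pickN (Nat.div i 2) v.x v.y v.z) (Nat.mod i 2) j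

noncomputable def frameN (s : Bool) (u v w : Vec) : ℕ :=
  packP 10 (fun n =>
    colN s (pickN (Nat.div (Nat.mod n 6) 2) u v w) (Nat.div n 6) (Nat.mod (Nat.mod n 6) 2)) 36

/-- Inverses of the frames of the basis. -/
noncomputable def giCode (s : Bool) : ℕ :=
  cond s 0x100201c090000001c050100600000000000100201c090000001c05010060140901802014090100401c0701004
    0x1802014090000001c0701004000000000001802014090000001c070100401c090100201c090100601c0501006

/-- Packed reduction of the reflection in `r`. -/
noncomputable def refCode (s : Bool) (r : Vec) : ℕ :=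
  mulMat 10 6 11 (frameN s (reflC r g1) (reflC r g2) (reflC r g3)) (giCode s)

/-- The reflection in a listed vector preserves the lattice. -/
noncomputable def reflOK (k : ℕ) : Bool :=
  forceV (decodeV k) fun r => lall [g1, g2, g3] (fun g =>
    forceI (qipC g r) fun q => q.even && forceV (g.sub (Vec.smul q.half r)) inL)

end Cfsg.Agent.Compute.J2
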