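import Cfsg.Agent.Compute.J2.GroupData
import Cfsg.Agent.Compute.J2.ClassData
import Cfsg.Agent.Compute.J2.ReflDefs
import Cfsg.Agent.Compute.Centralizer2
import Cfsg.Agent.Compute.Search

/-!
Bool-valued checks linking the chain certificates for 2J2 with its reflections and classes.
-/

set_option autoImplicit false

namespace Cfsg.Agent.Compute.J2

/-- Codes: (permutation of 200 points, of 100 points), (matrix, matrix). -/
abbrev Code : Type := (ℕ × ℕ) × ℕ × ℕ

noncomputable def dblOps : Ops Code :=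
  prodOps (prodOps (permOps 8 200) (permOps 7 100)) (prodOps (matOps 10 6 11) (matOps 10 6 11))

noncomputable def quoOps : Ops ℕ := permOps 7 100

/-- Code of the reflection in line `k` with given permutations. -/
noncomputable def reflCode (a : ℕ × (ℕ × ℕ)) : Code :=
  (a.2, refCode true (decodeV a.1), refCode false (decodeV a.1))

noncomputable def lineItem (i : ℕ) : ℕ × (ℕ × ℕ) := (nth 0 lineData i, nth (0, 0) reflPerms i)

noncomputable def siftRefl (i : ℕ) : Bool :=
  let a := lineItem i
  forceV (decodeV a.1) fun r => forceV (reflC r g1) fun u => forceV (reflC r g2) fun v =>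
    forceV (reflC r g3) fun w =>
    forceN (mulMat 10 6 11 (frameN true u v w) (giCode true)) fun m8 =>
    forceN (mulMat 10 6 11 (frameN false u v w) (giCode false)) fun m4 =>
      (let c : Code := (a.2, m8, m4)
       dblOps.okInv c c && sift dblOps dblChain c)

/-- The four primitive generators are listed reflections. -/
noncomputable def primCheck : Bool :=
  lall (List.zip primIdx (List.zip dblPrim quoPrim)) (fun a =>
    Nat.ble (a.1 + 1) 315 && dblOps.eqv (reflCode (lineItem a.1)) a.2.1 &&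
      Nat.beq a.2.1.1.2 a.2.2 && dblOps.okInv a.2.1 a.2.1 && quoOps.okInv a.2.2 a.2.2)

noncomputable def cenCheck : Bool :=
  dblOps.okInv dblCen dblCen && sift dblOps dblChain dblCen &&
    lall (nextGens dblChain) (fun g => dblOps.eqv (dblOps.mul dblCen g.1) (dblOps.mul g.1 dblCen)) &&
    Nat.beq dblCen.1.2 quoOps.one &&
    Nat.beq dblCen.2.1
      (packP 10 (fun k => cond (Nat.beq (k / 6) (k % 6)) 10 0) 36) &&
    Nat.beq dblCen.2.2
      (packP 10 (fun k => cond (Nat.beq (k / 6) (k % 6)) 10 0) 36)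

/-- Trace of a packed matrix, reduced. -/
noncomputable def trN (a : ℕ) : ℕ := Nat.mod (sumN 6 (fun i => getP 10 a (i * 6 + i))) 11

/-- Validity, membership, exact order and invariants of a class row. -/
noncomputable def rowOK (r : (Code × Code) × ℕ × ℕ × ℕ × ℕ) : Bool :=
  let x := r.1.1.1.2
  dblOps.okInv r.1.1 r.1.2 && sift dblOps dblChain r.1.1 && Nat.ble 1 r.2.1 &&
    Nat.beq (powR quoOps x r.2.1) quoOps.one &&
    allN r.2.1 (fun d => Nat.beq d 0 || !(Nat.beq (Nat.mod r.2.1 d) 0) ||
      !(Nat.beq (powR quoOps x d) quoOps.one)) &&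
    Nat.beq (Nat.mod (trN r.1.1.2.1 * trN r.1.1.2.1) 11) r.2.2.1 &&
    Nat.beq (trN (mulMat 10 6 11 r.1.1.2.1 r.1.1.2.1)) r.2.2.2.1

/-- Some conjugates of `x` together with `x` generate the quotient. -/
noncomputable def genRowOK
    (a : ((Code × Code) × ℕ × ℕ × ℕ × ℕ) × List ((ℕ × ℕ) × ℕ × ℕ) × List (List ℕ)) : Bool :=
  let x := a.1.1.1.1.2
  lall a.2.1 (fun c => quoOps.okInv c.1.1 c.1.2 && quoOps.okInv c.2.1 c.2.2 &&
      sift quoOps quoChain c.1.1 &&
      Nat.beq (quoOps.mul c.2.1 c.1.1) (quoOps.mul c.1.1 x)) &&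
    genBy quoOps quoChain (x :: a.2.1.map (fun c => c.2.1)) a.2.2

noncomputable def centRowOK (r : (Code × Code) × ℕ × ℕ × ℕ × ℕ) : Bool :=
  Nat.beq (centCount2 quoOps quoChain r.1.1.1.2) r.2.2.2.2

end Cfsg.Agent.Compute.J2
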