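import Cfsg.Agent.Compute.Chunk
import Cfsg.Agent.Compute.J2.GroupDefs

/-!
Kernel verification of the stabiliser chains for 2J2 and its quotient.
-/

set_option autoImplicit false
set_option Elab.async false

namespace Cfsg.Agent.Compute.J2

theorem dbl0_ok_base : levelBase dblOps dblLvl0 [dblLvl1, dblLvl2, dblLvl3] = true := by decide +kernel
theorem dbl0_ok_gen0 : chunkL dblLvl0.gens (fun g => genOK dblOps dblLvl0 [dblLvl1, dblLvl2, dblLvl3] g) 1 0 = true := by decide +kernel
theorem dbl0_ok_gen1 : chunkL dblLvl0.gens (fun g => genOK dblOps dblLvl0 [dblLvl1, dblLvl2, dblLvl3] g) 1 1 = true := by decide +kernel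
theorem dbl0_ok_gen2 : chunkL dblLvl0.gens (fun g => genOK dblOps dblLvl0 [dblLvl1, dblLvl2, dblLvl3] g) 1 2 = true := by decide +kernel
theorem dbl0_ok_gen3 : chunkL dblLvl0.gens (fun g => genOK dblOps dblLvl0 [dblLvl1, dblLvl2, dblLvl3] g) 1 3 = true := by decide +kernel

theorem dbl0_ok : levelOK dblOps dblLvl0 [dblLvl1, dblLvl2, dblLvl3] = true :=
  levelOK_of_parts dbl0_ok_base (lall_of_chunks 1 4 (by decide +kernel) fun k hk =>
    match k, hk with
    | 0, _ => dbl0_ok_gen0
    | 1, _ => dbl0_ok_gen1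
    | 2, _ => dbl0_ok_gen2
    | 3, _ => dbl0_ok_gen3
    | j + 4, hj => absurd hj (by omega))
theorem dbl1_ok_base : levelBase dblOps dblLvl1 [dblLvl2, dblLvl3] = true := by decide +kernel
theorem dbl1_ok_gen0 : chunkL dblLvl1.gens (fun g => genOK dblOps dblLvl1 [dblLvl2, dblLvl3] g) 1 0 = true := by decide +kernel
theorem dbl1_ok_gen1 : chunkL dblLvl1.gens (fun g => genOK dblOps dblLvl1 [dblLvl2, dblLvl3] g) 1 1 = true := by decide +kernel
theorem dbl1_ok_gen2 : chunkL dblLvl1.gens (fun g => genOK dblOps dblLvl1 [dblLvl2, dblLvl3] g) 1 2 = true := by decide +kernel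

theorem dbl1_ok : levelOK dblOps dblLvl1 [dblLvl2, dblLvl3] = true :=
  levelOK_of_parts dbl1_ok_base (lall_of_chunks 1 3 (by decide +kernel) fun k hk =>
    match k, hk with
    | 0, _ => dbl1_ok_gen0
    | 1, _ => dbl1_ok_gen1
    | 2, _ => dbl1_ok_gen2
    | j + 3, hj => absurd hj (by omega))
theorem dbl2_ok : levelOK dblOps dblLvl2 [dblLvl3] = true := by decide +kernel
theorem dbl3_ok : levelOK dblOps dblLvl3 [] = true := by decide +kernel

theorem dblChain_ok : checkChain dblOps dblChain = true := by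
  show (levelOK dblOps dblLvl0 [dblLvl1, dblLvl2, dblLvl3] &&
    (levelOK dblOps dblLvl1 [dblLvl2, dblLvl3] &&
    (levelOK dblOps dblLvl2 [dblLvl3] && (levelOK dblOps dblLvl3 [] && true)))) = true
  simp only [dbl0_ok, dbl1_ok, dbl2_ok, dbl3_ok, Bool.and_true]

theorem quoChain_ok : checkChain quoOps quoChain = true := by decide +kernel
theorem dblGen_ok : genBy dblOps dblChain dblPrim dblWords = true := by decide +kernel
theorem quoGen_ok : genBy quoOps quoChain quoPrim quoWords = true := by decide +kernel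
theorem prim_ok : primCheck = true := by decide +kernel
theorem cen_ok : cenCheck = true := by decide +kernel

end Cfsg.Agent.Compute.J2
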