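import Cfsg.Agent.Compute.Chunk
import Cfsg.Agent.Compute.J2.GroupDefs

/-!
Kernel verification of the class table of J2.
-/

set_option autoImplicit false
set_option Elab.async false

namespace Cfsg.Agent.Compute.J2

theorem rows_ok : lall classTable rowOK = true := by decide +kernel
theorem genRows_ok : lall (List.zip classTable.tail classGen) genRowOK = true := by decide +kernel
theorem centRows_ok_0 : chunkL classTable.tail centRowOK 1 0 = true := by decide +kernel
theorem centRows_ok_1 : chunkL classTable.tail centRowOK 1 1 = true := by decide +kernel
theorem centRows_ok_2 : chunkL classTable.tail centRowOK 1 2 = true := by decide +kernel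
theorem centRows_ok_3 : chunkL classTable.tail centRowOK 1 3 = true := by decide +kernel
theorem centRows_ok_4 : chunkL classTable.tail centRowOK 1 4 = true := by decide +kernel
theorem centRows_ok_5 : chunkL classTable.tail centRowOK 1 5 = true := by decide +kernel
theorem centRows_ok_6 : chunkL classTable.tail centRowOK 1 6 = true := by decide +kernel
theorem centRows_ok_7 : chunkL classTable.tail centRowOK 1 7 = true := by decide +kernel
theorem centRows_ok_8 : chunkL classTable.tail centRowOK 1 8 = true := by decide +kernel
theorem centRows_ok_9 : chunkL classTable.tail centRowOK 1 9 = true := by decide +kernel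
theorem centRows_ok_10 : chunkL classTable.tail centRowOK 1 10 = true := by decide +kernel
theorem centRows_ok_11 : chunkL classTable.tail centRowOK 1 11 = true := by decide +kernel
theorem centRows_ok_12 : chunkL classTable.tail centRowOK 1 12 = true := by decide +kernel
theorem centRows_ok_13 : chunkL classTable.tail centRowOK 1 13 = true := by decide +kernel
theorem centRows_ok_14 : chunkL classTable.tail centRowOK 1 14 = true := by decide +kernel
theorem centRows_ok_15 : chunkL classTable.tail centRowOK 1 15 = true := by decide +kernel
theorem centRows_ok_16 : chunkL classTable.tail centRowOK 1 16 = true := by decide +kernel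
theorem centRows_ok_17 : chunkL classTable.tail centRowOK 1 17 = true := by decide +kernel
theorem centRows_ok_18 : chunkL classTable.tail centRowOK 1 18 = true := by decide +kernel
theorem centRows_ok_19 : chunkL classTable.tail centRowOK 1 19 = true := by decide +kernel

theorem centRows_ok : lall classTable.tail centRowOK = true :=
  lall_of_chunks 1 20 (by decide +kernel) fun k hk =>
    match k, hk with
    | 0, _ => centRows_ok_0
    | 1, _ => centRows_ok_1
    | 2, _ => centRows_ok_2
    | 3, _ => centRows_ok_3
    | 4, _ => centRows_ok_4
    | 5, _ => centRows_ok_5
    | 6, _ => centRows_ok_6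
    | 7, _ => centRows_ok_7
    | 8, _ => centRows_ok_8
    | 9, _ => centRows_ok_9
    | 10, _ => centRows_ok_10
    | 11, _ => centRows_ok_11
    | 12, _ => centRows_ok_12
    | 13, _ => centRows_ok_13
    | 14, _ => centRows_ok_14
    | 15, _ => centRows_ok_15
    | 16, _ => centRows_ok_16
    | 17, _ => centRows_ok_17
    | 18, _ => centRows_ok_18
    | 19, _ => centRows_ok_19
    | j + 20, hj => absurd hj (by omega)


end Cfsg.Agent.Compute.J2
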