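import Mathlib.Data.Nat.Notation

/-!
Conjugacy tree of the 315 reflections: parent, generator, depth.
-/

set_option autoImplicit false
set_option maxRecDepth 10000

namespace Cfsg.Agent.Compute.J2

/-- For each reflection: (parent, generator, depth). -/
def conjTree : List (ℕ × ℕ × ℕ) := [(0, 0, 0), (312, 1, 7), (123, 1, 5), (276, 0, 5), (73, 1, 6), (54, 1, 5), (124, 2, 6), (38, 1, 7), (113, 2, 5), (28, 3, 3), (124, 1, 6), (61, 0, 5), (214, 1, 6), (16, 0, 3), (79, 0, 7), (60, 3, 7), (112, 1, 2), (236, 3, 4), (305, 0, 6), (119, 3, 5), (115, 0, 5), (288, 0, 6), (108, 2, 7), (110, 2, 5), (119, 1, 5), (307, 3, 6), (101, 2, 2), (286, 0, 4), (112, 0, 2), (107, 2, 6), (109, 2, 5), (135, 0, 4), (144, 2, 2), (223, 0, 6), (123, 3, 5), (85, 1, 5), (152, 2, 6), (170, 3, 6), (156, 2, 6), (158, 2, 4), (163, 0, 5), (103, 1, 6), (149, 2, 6), (151, 2, 5), (153, 2, 6),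 (155, 2, 5), (296, 1, 3), (258, 1, 4), (300, 0, 4), (122, 1, 6), (158, 1, 4), (159, 3, 4), (276, 3, 5), (39, 1, 5), (187, 0, 4), (179, 3, 6), (239, 1, 6), (115, 1, 5), (246, 3, 5), (135, 2, 4), (137, 2, 6), (139, 2, 4), (291, 1, 5), (81, 3, 7), (179, 0, 6), (240, 1, 6), (26, 3, 3), (28, 1, 3), (39, 3, 5), (82, 2, 6), (181, 1, 7), (83, 2, 5), (183, 3, 5), (88, 0, 5), (187, 1, 4), (13, 3, 4), (88, 2, 5), (251, 0, 5), (176, 3, 6), (52, 1, 6), (216, 0, 5), (248, 0, 6), (212, 3, 5), (9, 0, 4), (263, 3, 5), (66, 2, 4), (211, 1, 6), (66, 0, 4), (286, 3, 4), (220, 3, 6), (209, 0, 6), (281, 0, 5), (72, 2, 6), (74, 2, 5), (217, 1, 5), (75, 2, 5), (26, 1, 3), (231, 3, 5), (17, 2, 5), (25, 2, 7), (4, 0, 7), (0, 1, 1), (19, 2, 6), (27, 2, 5), (20, 2, 6), (28, 2, 3), (241, 0, 7), (50, 0, 5), (279, 0, 6), (255, 1, 4), (96, 3, 4), (31, 2, 5), (0, 2, 1), (196, 1, 4), (271,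 3, 7), (9, 2, 4), (196, 3, 4), (288, 1, 6), (3, 2, 6), (258, 0, 4), (198, 1, 6), (245, 1, 7), (171, 3, 5), (13, 2, 4), (27, 3, 5), (303, 0, 7), (301, 0, 6), (198, 3, 6), (48, 2, 5), (314, 1, 5), (31, 3, 5), (229, 1, 5), (50, 2, 5), (23, 3, 6), (51, 2, 5), (228, 1, 3), (52, 2, 6), (227, 1, 5), (132, 1, 6), (230, 1, 3), (54, 2, 5), (62, 2, 6), (195, 3, 7), (43, 0, 6), (0, 3, 1), (159, 0, 4), (59, 3, 5), (168, 1, 6), (34, 2, 6), (202, 3, 5), (170, 1, 6), (249, 1, 4), (231, 0, 5), (151, 0, 5), (229, 0, 5), (175, 3, 4), (314, 0, 5), (46, 2, 4), (277, 3, 3), (32, 1, 3), (137, 3, 6), (262, 0, 6), (128, 3, 6), (300, 3, 4), (236, 1, 4), (190, 2, 7), (306, 1, 7), (195, 1, 7), (193, 0, 5), (178, 2, 5), (177, 2, 5), (238, 0, 4), (180, 2, 7), (246, 1, 5), (33, 3, 7), (257, 0, 3), (27, 1, 5), (66, 1, 4), (46, 0, 4), (171, 2, 5), (2, 3, 6), (222, 3, 6), (284, 3, 6),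 (175, 2, 4), (75, 0, 5), (215, 1, 6), (211, 0, 6), (32, 3, 3), (261, 3, 5), (221, 1, 7), (76, 0, 6), (76, 1, 6), (235, 1, 4), (135, 3, 4), (311, 1, 6), (223, 2, 6), (32, 0, 3), (23, 1, 6), (217, 2, 5), (97, 0, 6), (157, 1, 5), (214, 2, 6), (139, 0, 4), (215, 2, 6), (98, 1, 6), (210, 2, 7), (111, 1, 6), (238, 3, 4), (44, 1, 7), (183, 1, 5), (262, 3, 6), (85, 3, 5), (300, 1, 4), (202, 2, 5), (178, 3, 5), (48, 3, 5), (196, 2, 4), (249, 0, 4), (47, 3, 5), (179, 1, 6), (192, 2, 5), (287, 3, 6), (85, 0, 5), (88, 1, 5), (232, 2, 6), (107, 3, 6), (103, 3, 6), (158, 0, 4), (144, 0, 2), (105, 3, 4), (101, 3, 2), (313, 1, 4), (263, 1, 5), (225, 2, 7), (295, 1, 6), (26, 0, 3), (228, 2, 3), (9, 1, 4), (230, 2, 3), (231, 2, 5), (145, 3, 5), (254, 2, 6), (253, 2, 6), (255, 2, 4), (248, 2, 6), (239, 3, 6), (249, 2, 4), (237, 0, 5), (171, 1, 5), (16, 3, 3), (191, 0, 7),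 (258, 3, 4), (207, 1, 5), (110, 1, 5), (163, 1, 5), (296, 0, 3), (286, 1, 4), (144, 1, 2), (257, 2, 3), (155, 1, 5), (198, 0, 6), (96, 0, 4), (261, 2, 5), (105, 0, 4), (86, 0, 7), (235, 3, 4), (265, 2, 5), (310, 3, 6), (190, 1, 7), (129, 0, 6), (164, 0, 5), (132, 0, 6), (180, 1, 7), (239, 0, 6), (87, 1, 5), (210, 1, 7), (238, 1, 4), (101, 0, 2), (243, 3, 5), (157, 3, 5), (270, 3, 6), (105, 1, 4), (74, 0, 5), (118, 3, 7), (61, 1, 5), (124, 0, 6), (277, 2, 3), (113, 0, 5), (216, 3, 5), (267, 1, 7), (293, 2, 7), (236, 0, 4), (288, 2, 6), (153, 3, 6), (180, 0, 7), (291, 2, 5), (112, 3, 2), (302, 2, 6), (301, 2, 6), (137, 0, 6), (296, 2, 3), (83, 1, 5), (192, 3, 5), (134, 3, 6), (146, 0, 6), (164, 3, 5), (311, 2, 6), (192, 0, 5), (34, 1, 6), (59, 0, 5), (48, 1, 5), (61, 3, 5), (305, 2, 6), (230, 0, 3), (313, 2, 4)]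

end Cfsg.Agent.Compute.J2
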