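import Cfsg.Agent.Compute.J2.GroupDefs
import Cfsg.Agent.Compute.J2.ConjData

/-!
Kernel checks: the reflections are conjugate, and the units are distinct.
-/

set_option autoImplicit false
set_option Elab.async false

namespace Cfsg.Agent.Compute.J2

/-- Reflection `i` is the conjugate of its parent by a generator. -/
noncomputable def conjRowOK (i : ℕ) : Bool :=
  let r := nth (0, 0, 0) conjTree i
  cond (Nat.beq i 0) true
    (Nat.ble (r.1 + 1) 315 && Nat.ble (r.2.1 + 1) 4 &&
      Nat.ble ((nth (0, 0, 0) conjTree r.1).2.2 + 1) r.2.2 &&
      (let p := reflCode (lineItem (nth 0 primIdx r.2.1))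
       let q := reflCode (lineItem r.1)
       lall (basesOf dblChain) (fun b =>
         Nat.beq (dblOps.img (reflCode (lineItem i)) b) (dblOps.img p (dblOps.img q (dblOps.img p b))))))

theorem conj_ok : allN 315 conjRowOK = true := by decide +kernel

theorem units_distinct :
    allN 120 (fun i => allN i (fun j => !(eqI (unitAt i) (unitAt j)))) = true := by
  decide +kernel

theorem primIdx_ok : allN 4 (fun g => Nat.ble (nth 0 primIdx g + 1) 315) = true := by decide +kernel

end Cfsg.Agent.Compute.J2
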