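import Cfsg.Agent.Compute.J2.CoverData
import Cfsg.Agent.Compute.J2.GroupDefs
import Cfsg.Agent.Compute.Classes

/-!
Bool-valued checks on the certificate of the orbital graph on 100 points.
-/

set_option autoImplicit false

namespace Cfsg.Agent.Compute.J2

noncomputable def qEntry (l : Level ℕ) (i : ℕ) : ℕ :=
  (nth ⟨0, quoOps.one, quoOps.one, 0, 0⟩ l.orb i).u

/-- Image of a point under the element with the given transversal indices. -/
noncomputable def gImg (c x : ℕ) : ℕ :=
  quoOps.img (qEntry quoLvl0 (c % 100))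
    (quoOps.img (qEntry quoLvl1 (c / 100 % 63))
      (quoOps.img (qEntry quoLvl2 (c / 6300 % 24)) (quoOps.img (qEntry quoLvl3 (c / 151200)) x)))

/-- An edge as a number. -/
def ecd (i j : ℕ) : ℕ := i * 100 + j

/-- All steps. -/
def allSteps : List CoverStep := coverSteps.flatten

/-- The bit set of the edges of all steps, both directions. -/
noncomputable def edgeMask : ℕ :=
  allSteps.foldr (fun s m => Nat.lor (Nat.shiftLeft 1 (ecd s.i s.j))
    (Nat.lor (Nat.shiftLeft 1 (ecd s.j s.i)) m)) 0

noncomputable def hasEdge (i j : ℕ) : Bool := Nat.testBit edgeMask (ecd i j)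

noncomputable def stepAt (p : ℕ) : CoverStep :=
  nth ⟨0, 0, 0, 0, 0, 0, 0, (0, 0, 0)⟩ (nth [] coverSteps (p / 50)) (p % 50)

/-- First end of a directed edge of an earlier step. -/
noncomputable def endA (p : ℕ) : ℕ :=
  cond (Nat.beq (p % 2) 0) (stepAt (p / 2)).i (stepAt (p / 2)).j

/-- Second end of a directed edge of an earlier step. -/
noncomputable def endB (p : ℕ) : ℕ :=
  cond (Nat.beq (p % 2) 0) (stepAt (p / 2)).j (stepAt (p / 2)).i

/-- Sum of triples. -/
def addV (a b : ℤ × ℤ × ℤ) : ℤ × ℤ × ℤ := (a.1 + b.1, a.2.1 + b.2.1, a.2.2 + b.2.2)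

/-- Value of a directed edge of an earlier step. -/
noncomputable def valAt (p : ℕ) : ℤ × ℤ × ℤ :=
  cond (Nat.beq (p % 2) 0) (stepAt (p / 2)).v
    (-1 - (stepAt (p / 2)).v.1, -(stepAt (p / 2)).v.2.1, -(stepAt (p / 2)).v.2.2)

/-- Equality of triples. -/
def beqV (a b : ℤ × ℤ × ℤ) : Bool :=
  decide (a.1 = b.1) && decide (a.2.1 = b.2.1) && decide (a.2.2 = b.2.2)

/-- The value of a base triangle. -/
def tauV (c : ℕ) : ℤ × ℤ × ℤ := cond (Nat.beq c 0) (0, 1, 0) (0, 0, 1)

/-- A triangle is an image of a base triangle. -/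
noncomputable def triOK (i j c k g : ℕ) : Bool :=
  Nat.beq (gImg g 0) i && Nat.beq (gImg g coverPt) j && Nat.beq (gImg g (coverBase.getD c 0)) k

/-- One step is justified by the earlier ones. -/
noncomputable def stepOK (q : ℕ) (s : CoverStep) : Bool :=
  Nat.ble (s.i + 1) 100 && Nat.ble (s.j + 1) 100 && Nat.beq (gImg s.g 0) s.i &&
    Nat.beq (gImg s.g coverPt) s.j &&
    cond (Nat.beq s.kind 0)
      (Nat.beq (coverPar.getD s.j 0) s.i && !(Nat.beq s.j 0) && beqV s.v (0, 0, 0))
      (Nat.ble s.kind 2 && triOK s.i s.j (s.kind - 1) s.k s.g && Nat.ble (s.p / 2 + 1) q &&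
        Nat.ble (s.q / 2 + 1) q && Nat.beq (endA s.p) s.j && Nat.beq (endB s.p) s.k &&
        Nat.beq (endA s.q) s.k && Nat.beq (endB s.q) s.i &&
        beqV (addV s.v (addV (valAt s.p) (valAt s.q))) (tauV (s.kind - 1)))

/-- One block of steps. -/
noncomputable def blockOK (b : ℕ) : Bool :=
  allN 50 (fun r => stepOK (b * 50 + r) (stepAt (b * 50 + r)))

/-- The edge set of a block is closed under the strong generators. -/
noncomputable def closedBlock (b : ℕ) : Bool :=
  allN 50 (fun r => lall quoLvl0.gens (fun g =>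
    hasEdge (quoOps.img g.1 (stepAt (b * 50 + r)).i) (quoOps.img g.1 (stepAt (b * 50 + r)).j) &&
    hasEdge (quoOps.img g.1 (stepAt (b * 50 + r)).j) (quoOps.img g.1 (stepAt (b * 50 + r)).i)))

/-- The tree: every point but 0 has its parent edge, and has depth at most two. -/
noncomputable def treeSteps : Bool :=
  allN 100 (fun j => Nat.beq j 0 ||
    (Nat.beq (coverPar.getD (coverPar.getD j 0) 0) 0 && Nat.ble (coverPar.getD j 0 + 1) 100 &&
      allN 100 (fun q => !(Nat.beq (stepAt q).j j) || !(Nat.beq (stepAt q).kind 0) ||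
        Nat.beq (stepAt q).i (coverPar.getD j 0)) &&
      hasEdge (coverPar.getD j 0) j &&
      !(allN 100 (fun q => !(Nat.beq (stepAt q).j j) || !(Nat.beq (stepAt q).kind 0)))))

/-- The two triangles giving the relations. -/
noncomputable def coverRelOK (d : ℕ × ℕ × ℕ × ℕ × ℕ × ℕ) (v : ℤ × ℤ × ℤ) : Bool :=
  match d with
  | (c, k, g, p, q, r) =>
    Nat.ble c 1 && triOK (endA p) (endB p) c k g && Nat.ble (p / 2 + 1) 1800 &&
      Nat.ble (q / 2 + 1) 1800 && Nat.ble (r / 2 + 1) 1800 && Nat.beq (endA q) (endB p) &&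
      Nat.beq (endB q) k && Nat.beq (endA r) k && Nat.beq (endB r) (endA p) &&
      beqV (addV (valAt p) (addV (valAt q) (valAt r))) (addV v (tauV c))

/-- The involution, the base triangles and the base edge. -/
noncomputable def baseOK : Bool :=
  Nat.beq (gImg coverSwap 0) coverPt && Nat.beq (gImg coverSwap coverPt) 0 &&
    lall (basesOf quoChain) (fun b => Nat.beq (gImg coverSwap (gImg coverSwap b)) b) &&
    hasEdge 0 coverPt &&
    allN 2 (fun c => Nat.ble (coverBase.getD c 0 + 1) 100 &&
      hasEdge coverPt (coverBase.getD c 0) && hasEdge (coverBase.getD c 0) 0) &&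
    Nat.beq coverSteps.length 36 && lall coverSteps (fun l => Nat.beq l.length 50)

noncomputable def lAt (n : ℕ) : ℕ := nth 0 coverL n

/-- The edge stabiliser: listed distinct elements, each a commutator of two of them. -/
noncomputable def edgeStabOK : Bool :=
  Nat.beq coverL.length 168 &&
  allN 168 (fun n => Nat.beq (gImg (lAt n) 0) 0 && Nat.beq (gImg (lAt n) coverPt) coverPt &&
    lall (basesOf quoChain) (fun b =>
      Nat.beq (gImg (lAt (coverComm.getD n (0, 0)).1) (gImg (lAt (coverComm.getD n (0, 0)).2) b))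
        (gImg (lAt n) (gImg (lAt (coverComm.getD n (0, 0)).2)
          (gImg (lAt (coverComm.getD n (0, 0)).1) b)))) &&
    Nat.ble ((coverComm.getD n (0, 0)).1 + 1) 168 && Nat.ble ((coverComm.getD n (0, 0)).2 + 1) 168 &&
    allN n (fun m => !(lall (basesOf quoChain) (fun b =>
      Nat.beq (gImg (lAt m) b) (gImg (lAt n) b)))))

/-- The neighbours of 0. -/
noncomputable def nbrCount : ℕ := ((List.range 100).filter fun j => hasEdge 0 j).length

/-- The values of the two words anticommute. -/
noncomputable def antiOK : Bool :=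
  dblOps.eqv (dblOps.mul (wordVal dblOps dblPrim coverAnti.1) (wordVal dblOps dblPrim coverAnti.2))
    (dblOps.mul dblCen
      (dblOps.mul (wordVal dblOps dblPrim coverAnti.2) (wordVal dblOps dblPrim coverAnti.1)))

end Cfsg.Agent.Compute.J2
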