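import Cfsg.Agent.Compute.Chunk
import Cfsg.Agent.Compute.J2.CoverDefs

/-!
Kernel verification of the certificate of the orbital graph.
-/

set_option autoImplicit false
set_option Elab.async false

namespace Cfsg.Agent.Compute.J2

theorem cover_steps_0 : chunkN 36 blockOK 6 0 = true := by decide +kernel
theorem cover_steps_1 : chunkN 36 blockOK 6 1 = true := by decide +kernel
theorem cover_steps_2 : chunkN 36 blockOK 6 2 = true := by decide +kernel
theorem cover_steps_3 : chunkN 36 blockOK 6 3 = true := by decide +kernel
theorem cover_steps_4 : chunkN 36 blockOK 6 4 = true := by decide +kernel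
theorem cover_steps_5 : chunkN 36 blockOK 6 5 = true := by decide +kernel

theorem cover_steps : allN 36 blockOK = true :=
  allN_of_chunks 6 6 (by decide +kernel) fun k hk =>
    match k, hk with
    | 0, _ => cover_steps_0
    | 1, _ => cover_steps_1
    | 2, _ => cover_steps_2
    | 3, _ => cover_steps_3
    | 4, _ => cover_steps_4
    | 5, _ => cover_steps_5
    | j + 6, hj => absurd hj (by omega)

theorem cover_closed_0 : chunkN 36 closedBlock 6 0 = true := by decide +kernel
theorem cover_closed_1 : chunkN 36 closedBlock 6 1 = true := by decide +kernel
theorem cover_closed_2 : chunkN 36 closedBlock 6 2 = true := by decide +kernel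
theorem cover_closed_3 : chunkN 36 closedBlock 6 3 = true := by decide +kernel
theorem cover_closed_4 : chunkN 36 closedBlock 6 4 = true := by decide +kernel
theorem cover_closed_5 : chunkN 36 closedBlock 6 5 = true := by decide +kernel

theorem cover_closed : allN 36 closedBlock = true :=
  allN_of_chunks 6 6 (by decide +kernel) fun k hk =>
    match k, hk with
    | 0, _ => cover_closed_0
    | 1, _ => cover_closed_1
    | 2, _ => cover_closed_2
    | 3, _ => cover_closed_3
    | 4, _ => cover_closed_4
    | 5, _ => cover_closed_5
    | j + 6, hj => absurd hj (by omega)

theorem cover_tree : treeSteps = true := by decide +kernel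
theorem cover_base : baseOK = true := by decide +kernel
theorem cover_relA : coverRelOK coverRelA (3, 1, 1) = true := by decide +kernel
theorem cover_relB : coverRelOK coverRelB (0, 2, -2) = true := by decide +kernel
theorem cover_edgeStab : edgeStabOK = true := by decide +kernel
theorem cover_nbr : nbrCount = 36 := by decide +kernel
theorem cover_anti : antiOK = true := by decide +kernel

end Cfsg.Agent.Compute.J2
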