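import Cfsg.Agent.Compute.J2.EnumCheck

/-!
Completeness of the list of minimal vectors of the icosian Leech lattice.
-/

set_option autoImplicit false

namespace Cfsg.Agent.Compute.J2

open Quaternion
open Cfsg.Spor (tau sig)

theorem sq_dbl (x : Ico) :
    ((x.dbl.1.mul x.dbl.1).add (x.dbl.2.1.mul x.dbl.2.1)).add
      ((x.dbl.2.2.1.mul x.dbl.2.2.1).add (x.dbl.2.2.2.mul x.dbl.2.2.2)) =
    ((nrm x).add (nrm x)).add ((nrm x).add (nrm x)) := by
  obtain ⟨⟨a, b⟩, ⟨c, d⟩, ⟨e, f⟩, ⟨g, h⟩⟩ := x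
  simp only [Ico.dbl, nrm, Ico.mul, Ico.conj, Zt.add, Zt.sub, Zt.neg, Zt.mul, Zt.muT, Zt.mk.injEq]
  constructor <;> ring

theorem mul_conj (x : Ico) : x.mul x.conj = ⟨nrm x, ⟨0, 0⟩, ⟨0, 0⟩, ⟨0, 0⟩⟩ := by
  obtain ⟨⟨a, b⟩, ⟨c, d⟩, ⟨e, f⟩, ⟨g, h⟩⟩ := x
  simp only [nrm, Ico.mul, Ico.conj, Zt.add, Zt.sub, Zt.neg, Zt.mul, Zt.muT, Zt.mk.injEq,
    Ico.mk.injEq, true_and, and_assoc]
  refine ⟨?_, ?_, ?_, ?_, ?_, ?_⟩ <;> ring

/-- The trace form of an icosian. -/
noncomputable def tf (x : Ico) : ℤ :=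
  qf x.dbl.1 + qf x.dbl.2.1 + qf x.dbl.2.2.1 + qf x.dbl.2.2.2

theorem tf_eq (x : Ico) : tf x = 8 * (nrm x).a + 4 * (nrm x).b := by
  obtain ⟨⟨a, b⟩, ⟨c, d⟩, ⟨e, f⟩, ⟨g, h⟩⟩ := x
  simp only [tf, qf, Ico.dbl, nrm, Ico.mul, Ico.conj, Zt.add, Zt.sub, Zt.neg, Zt.mul, Zt.muT]
  ring

theorem qf_nonneg (z : Zt) : 0 ≤ qf z := by
  unfold qf; nlinarith [sq_nonneg (z.a + z.b), sq_nonneg z.a, sq_nonneg z.b]

theorem qf_zero {z : Zt} (h : qf z = 0) : z = ⟨0, 0⟩ := by
  obtain ⟨a, b⟩ := z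
  simp only [qf] at h
  have hb : b = 0 := by nlinarith [sq_nonneg (a + b), sq_nonneg a, sq_nonneg b]
  subst hb
  have ha : a = 0 := by nlinarith [sq_nonneg a]
  subst ha; rfl

theorem tf_nonneg (x : Ico) : 0 ≤ tf x :=
  add_nonneg (add_nonneg (add_nonneg (qf_nonneg _) (qf_nonneg _)) (qf_nonneg _)) (qf_nonneg _)

theorem dbl_zero : Ico.zero.dbl = (⟨0, 0⟩, ⟨0, 0⟩, ⟨0, 0⟩, ⟨0, 0⟩) := by decide +kernel

theorem eq_zero_of_tf {x : Ico} (h : tf x = 0) : x = Ico.zero := by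
  have h1 := qf_nonneg x.dbl.1
  have h2 := qf_nonneg x.dbl.2.1
  have h3 := qf_nonneg x.dbl.2.2.1
  have h4 := qf_nonneg x.dbl.2.2.2
  unfold tf at h
  refine dbl_injective ?_
  rw [dbl_zero]
  exact Prod.ext (qf_zero (by omega)) (Prod.ext (qf_zero (by omega))
    (Prod.ext (qf_zero (by omega)) (qf_zero (by omega))))

theorem mem_box {z : Zt} (h : qf z ≤ 32) : z ∈ boxPairs := by
  obtain ⟨a, b⟩ := z
  simp only [qf] at h
  have ha : a * a ≤ 19 := by nlinarith [sq_nonneg (3 * b + a)]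
  have hb : b * b ≤ 12 := by nlinarith [sq_nonneg (2 * a + b)]
  obtain ⟨_, _⟩ : -4 ≤ a ∧ a ≤ 4 := ⟨by nlinarith, by nlinarith⟩
  obtain ⟨_, _⟩ : -3 ≤ b ∧ b ≤ 3 := ⟨by nlinarith, by nlinarith⟩
  interval_cases a <;> interval_cases b <;>
    first
      | (exfalso; omega)
      | simp [boxPairs]

theorem nrm_nonneg (x : Ico) {t : ℝ} (ht : t * t = t + 1) : 0 ≤ evT t (nrm x) := by
  have h := congrArg (evT t) (sq_dbl x)
  simp only [evT_add, evT_mul ht] at h
  nlinarith [mul_self_nonneg (evT t x.dbl.1), mul_self_nonneg (evT t x.dbl.2.1),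
    mul_self_nonneg (evT t x.dbl.2.2.1), mul_self_nonneg (evT t x.dbl.2.2.2)]

theorem nIdx_lt {n : Zt} (h : n ∈ norms) : Nat.ble (nIdx n + 1) 9 = true := by
  simp only [norms, List.mem_cons, List.not_mem_nil, or_false] at h
  rcases h with rfl | rfl | rfl | rfl | rfl | rfl | rfl | rfl | rfl <;> decide +kernel

/-- Bounds in both real embeddings determine the possible norms. -/
theorem norm_mem {n : Zt} (h0 : ∀ t : ℝ, t * t = t + 1 → 0 ≤ evT t n ∧ evT t n ≤ 4) :
    n ∈ norms := by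
  obtain ⟨a, b⟩ := n
  have hs : Real.sqrt 5 * Real.sqrt 5 = 5 := Real.mul_self_sqrt (by norm_num)
  have h1 := h0 tau tau_sq
  have h2 := h0 (1 - tau) (by linear_combination tau_sq)
  have hlo : (223 : ℝ) / 100 < Real.sqrt 5 := by nlinarith [Real.sqrt_nonneg 5]
  have hhi : Real.sqrt 5 < (224 : ℝ) / 100 := by nlinarith [Real.sqrt_nonneg 5]
  simp only [evT, tau] at h1 h2
  have hb1 : (b : ℝ) < 2 := by
    by_contra hc
    push Not at hc
    nlinarith [mul_le_mul hc hlo.le (by norm_num) (by linarith)]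
  have hb2 : (-2 : ℝ) < b := by
    by_contra hc
    push Not at hc
    nlinarith [mul_le_mul (show (2 : ℝ) ≤ -b by linarith) hlo.le (by norm_num) (by linarith)]
  have hb1' : b < 2 := by exact_mod_cast hb1
  have hb2' : -2 < b := by exact_mod_cast hb2
  interval_cases b
  · have ha1 : (1 : ℝ) < a := by push_cast at h1 h2; linarith
    have ha2 : (a : ℝ) < 4 := by push_cast at h1 h2; linarith
    have : 1 < a := by exact_mod_cast ha1
    have : a < 4 := by exact_mod_cast ha2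
    interval_cases a <;> simp [norms]
  · have ha1 : (-1 : ℝ) < a := by push_cast at h1 h2; linarith
    have ha2 : (a : ℝ) < 5 := by push_cast at h1 h2; linarith
    have : -1 < a := by exact_mod_cast ha1
    have : a < 5 := by exact_mod_cast ha2
    interval_cases a <;> simp [norms]
  · have ha1 : (0 : ℝ) < a := by push_cast at h1 h2; linarith
    have ha2 : (a : ℝ) < 3 := by push_cast at h1 h2; linarith
    have : 0 < a := by exact_mod_cast ha1
    have : a < 3 := by exact_mod_cast ha2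
    interval_cases a <;> simp [norms]

theorem covered_of_small {x : Ico} (ht : tf x ≤ 32) (hn : nrm x ∈ norms) : covered x = true := by
  have h1 := qf_nonneg x.dbl.1
  have h2 := qf_nonneg x.dbl.2.1
  have h3 := qf_nonneg x.dbl.2.2.1
  have h4 := qf_nonneg x.dbl.2.2.2
  unfold tf at ht
  have hs := (lall_iff _ _).1 search_ok _ (mem_box (z := x.dbl.2.2.1) (by omega))
  simp only [searchFrom, smallNorm, forceZ_eq, forceT_eq, forceI_eq, lall_iff] at hs
  have hs := hs _ (mem_box (z := x.dbl.2.2.2) (by omega))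
  have e2 : x.dbl.2.2.2.muT = x.x2 := by
    obtain ⟨⟨a, b⟩, ⟨c, d⟩, ⟨e, f⟩, ⟨g, h⟩⟩ := x
    simp only [Ico.dbl, Zt.add, Zt.muT, Zt.mk.injEq]; omega
  have e3 : x.dbl.2.2.1.muT.neg = x.x3 := by
    obtain ⟨⟨a, b⟩, ⟨c, d⟩, ⟨e, f⟩, ⟨g, h⟩⟩ := x
    simp only [Ico.dbl, Zt.add, Zt.neg, Zt.muT, Zt.mk.injEq]; omega
  rw [e2, e3] at hs
  have hr : leZ 0 (32 - qf x.dbl.2.2.1 - qf x.dbl.2.2.2) = true :=
    decide_eq_true (by omega)
  rw [hr] at hs
  simp only [cond_true, lall_iff] at hs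
  have hs := hs _ (mem_box (z := x.dbl.1) (by omega))
  have d0 : x.dbl.1.sub (x.x2.add x.x3.muT) = x.x0.add x.x0 := by
    simp only [Ico.dbl, Zt.add, Zt.sub, Zt.mk.injEq]; omega
  have d1 : x.dbl.2.1.sub (x.x3.sub x.x2.muT) = x.x1.add x.x1 := by
    simp only [Ico.dbl, Zt.add, Zt.sub, Zt.mk.injEq]; omega
  have even2 : ∀ z : Zt, evenZt (z.add z) = true := fun z => by
    simp only [evenZt, Bool.and_eq_true, evenZ_iff, Zt.add]; omega
  have half2 : ∀ z : Zt, (z.add z).half = z := fun z => by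
    obtain ⟨a, b⟩ := z; simp only [Zt.half, Zt.add, Zt.mk.injEq]; omega
  have g0 : leZ 0 (32 - qf x.dbl.2.2.1 - qf x.dbl.2.2.2 - qf x.dbl.1) = true :=
    decide_eq_true (by omega)
  rw [d0, g0, even2] at hs
  simp only [cond_true, lall_iff] at hs
  have hs := hs _ (mem_box (z := x.dbl.2.1) (by omega))
  have g1 : leZ (qf x.dbl.2.1) (32 - qf x.dbl.2.2.1 - qf x.dbl.2.2.2 - qf x.dbl.1) = true :=
    decide_eq_true (by omega)
  have g2 : Option.isSome (lfind norms (fun m => eqZt (((x.dbl.1.mul x.dbl.1).add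
      (x.dbl.2.1.mul x.dbl.2.1)).add ((x.dbl.2.2.1.mul x.dbl.2.2.1).add
      (x.dbl.2.2.2.mul x.dbl.2.2.2))) ((m.add m).add (m.add m)))) = true := by
    cases hf : lfind norms (fun m => eqZt (((x.dbl.1.mul x.dbl.1).add
      (x.dbl.2.1.mul x.dbl.2.1)).add ((x.dbl.2.2.1.mul x.dbl.2.2.1).add
      (x.dbl.2.2.2.mul x.dbl.2.2.2))) ((m.add m).add (m.add m))) with
    | some m => rfl
    | none =>
      have := lfind_none hf hn
      rw [sq_dbl, (eqZt_iff _ _).2 rfl] at this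
      exact absurd this (by decide)
  rw [d1, g1, g2, even2, half2, half2] at hs
  simp only [cond_true] at hs
  exact hs

theorem covered_spec {x : Ico} (h : covered x = true) :
    ∃ e ∈ bucket (nrm x) x, decodeI e = x ∧
      ∃ i < 120, ∃ j < 52, (unitAt i).mul (repAt j) = x := by
  obtain ⟨e, he⟩ := Option.isSome_iff_exists.1 h
  obtain ⟨hm, hc⟩ := lfind_some he
  simp only [Bool.and_eq_true, Nat.ble_eq, eqI_iff] at hc
  exact ⟨e, hm, hc.1, _, hc.2.1.1, _, hc.2.1.2, hc.2.2⟩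

theorem unit_data_len : unitData.length = 120 := by decide +kernel
theorem rep_data_len : repData.length = 52 := by decide +kernel

theorem unitAt_conj {i : ℕ} (hi : i < 120) : E (unitAt i) * E (unitAt i).conj = 1 := by
  have hm : nth 0 unitData i ∈ unitData := nth_mem _ _ _ (unit_data_len ▸ hi)
  have := (lall_iff _ _).1 units_ok _ hm
  rw [eqI_iff] at this
  rw [← E_mul, unitAt, this, E_one]

theorem repAt_mem {j : ℕ} (hj : j < 52) : nth 0 repData j ∈ repData :=
  nth_mem _ _ _ (rep_data_len ▸ hj)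

theorem conj_mul_unit {i : ℕ} (hi : i < 120) : E (unitAt i).conj * E (unitAt i) = 1 :=
  mul_eq_one_comm.1 (unitAt_conj hi)

theorem nrm_unit_mul {i : ℕ} (hi : i < 120) (x : Ico) :
    nrm ((unitAt i).conj.mul x) = nrm x := by
  have h := congrArg E (mul_conj x)
  have h' := congrArg E (mul_conj ((unitAt i).conj.mul x))
  rw [E_mul, E_conj, E_mul] at h'
  rw [E_mul, E_conj] at h
  have hc : ∀ n : Zt, E ⟨n, ⟨0, 0⟩, ⟨0, 0⟩, ⟨0, 0⟩⟩ = evT tau n • (1 : ℍ[ℝ]) := fun n => by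
    simp [E, evA, evT]
  rw [star_mul, mul_assoc, ← mul_assoc (E x), h, hc, hc, smul_mul_assoc, one_mul, mul_smul_comm,
    ← E_conj (unitAt i).conj] at h'
  have hu : E (unitAt i).conj * E (unitAt i).conj.conj = 1 := by
    rw [E_conj (unitAt i).conj, E_conj, star_star, ← E_conj]
    exact conj_mul_unit hi
  rw [hu] at h'
  exact evT_tau_inj (by simpa using (congrArg (fun q : ℍ[ℝ] => q.re) h').symm)

/-- Residues modulo two agree when the difference is even. -/
theorem cls_congr {x y : Ico} (h : (x.sub y).even = true) :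
    clsHi x = clsHi y ∧ clsLo x = clsLo y := by
  have hp : ∀ a b : ℤ, (a - b) % 2 = 0 → parZ a = parZ b := by
    intro a b h
    show a.natAbs % 2 = b.natAbs % 2
    omega
  simp only [Ico.even, Bool.and_eq_true, evenZ_iff, Ico.sub, Zt.sub] at h
  obtain ⟨⟨⟨⟨⟨⟨⟨a0, b0⟩, a1⟩, b1⟩, a2⟩, b2⟩, a3⟩, b3⟩ := h
  exact ⟨by simp only [clsHi, hp _ _ a2, hp _ _ b2, hp _ _ a3, hp _ _ b3],
    by simp only [clsLo, hp _ _ a0, hp _ _ b0, hp _ _ a1, hp _ _ b1]⟩

theorem bucket_congr (n : Zt) {x y : Ico} (h : (x.sub y).even = true) :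
    bucket n x = bucket n y := by
  rw [bucket, bucket, (cls_congr h).1, (cls_congr h).2]

/-- A difference which is twice an icosian is even. -/
theorem even_of_E {x y z : Ico} (h : E x = E y + (E z + E z)) : (x.sub y).even = true := by
  have : x.sub y = z.add z := E_injective (by rw [E_sub, E_add, h, add_sub_cancel_left])
  rw [this]; exact even_add_self z

theorem four_bits {a b c d a' b' c' d' : ℕ} (h : a + 2 * b + 4 * c + 8 * d = a' + 2 * b' + 4 * c' + 8 * d')
    (ha : a < 2) (hb : b < 2) (hc : c < 2) (hd : d < 2) (ha' : a' < 2) (hb' : b' < 2) (hc' : c' < 2)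
    (hd' : d' < 2) : a = a' ∧ b = b' ∧ c = c' ∧ d = d' := by
  interval_cases a <;> interval_cases a' <;> (try omega) <;> interval_cases b <;>
    interval_cases b' <;> (try omega) <;> interval_cases c <;> interval_cases c' <;> omega

/-- Residues of multiples of h. -/
theorem exists_k1 (x b : Ico) (y : Ico) (h : E y = E x + E b * E cH) (n : Zt) :
    ∃ j ∈ k1Data, bucket n (x.add (decodeI j)) = bucket n y := by
  let m := parZ b.x0.a + 2 * parZ b.x0.b + 4 * parZ b.x1.a + 8 * parZ b.x1.b +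
    16 * parZ b.x2.a + 32 * parZ b.x2.b + 64 * parZ b.x3.a + 128 * parZ b.x3.b
  have hl : ∀ a : ℤ, parZ a < 2 := fun a => Nat.mod_lt _ (by norm_num)
  have hm : m < 256 := by
    have := hl b.x0.a; have := hl b.x0.b; have := hl b.x1.a; have := hl b.x1.b
    have := hl b.x2.a; have := hl b.x2.b; have := hl b.x3.a; have := hl b.x3.b
    omega
  have hk := (allN_iff _ _).1 k1_ok m hm
  simp only [k1OK, forceI_eq] at hk
  obtain ⟨j, hj⟩ := Option.isSome_iff_exists.1 hk
  obtain ⟨hjm, hc⟩ := lfind_some hj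
  simp only [Bool.and_eq_true, Nat.beq_eq] at hc
  have hbit : (b.sub (bitsI m)).even = true := by
    have hpz : ∀ a : ℤ, parZ a = a.natAbs % 2 := fun _ => rfl
    simp only [Ico.even, Bool.and_eq_true, evenZ_iff, Ico.sub, Zt.sub, bitsI, getP_eq, m, hpz]
    omega
  obtain ⟨z, hz⟩ : ∃ z, E b = E (bitsI m) + (E z + E z) :=
    ⟨(b.sub (bitsI m)).half, by rw [← E_half hbit, E_sub, add_sub_cancel]⟩
  have h1 : (y.sub (x.add ((bitsI m).mul cH))).even = true :=
    even_of_E (z := z.mul cH) (by rw [E_add, E_mul, E_mul, h, hz, add_mul, add_mul]; abel)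
  refine ⟨j, hjm, ?_⟩
  rw [bucket_congr n h1]
  have hp : ∀ a b c : ℤ, parZ b = parZ c → parZ (a + b) = parZ (a + c) := by
    intro a b c h
    change b.natAbs % 2 = c.natAbs % 2 at h
    show (a + b).natAbs % 2 = (a + c).natAbs % 2
    omega
  obtain ⟨p1, p2, p3, p4⟩ := four_bits hc.1 (hl _) (hl _) (hl _) (hl _) (hl _) (hl _) (hl _) (hl _)
  obtain ⟨q1, q2, q3, q4⟩ := four_bits hc.2 (hl _) (hl _) (hl _) (hl _) (hl _) (hl _) (hl _) (hl _)
  have e1 : clsHi (x.add (decodeI j)) = clsHi (x.add ((bitsI m).mul cH)) := by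
    simp only [clsHi, Ico.add, Zt.add, hp _ _ _ p1, hp _ _ _ p2, hp _ _ _ p3, hp _ _ _ p4]
  have e2 : clsLo (x.add (decodeI j)) = clsLo (x.add ((bitsI m).mul cH)) := by
    simp only [clsLo, Ico.add, Zt.add, hp _ _ _ q1, hp _ _ _ q2, hp _ _ _ q3, hp _ _ _ q4]
  rw [bucket, bucket, e1, e2]

/-- The coordinates of a minimal vector. -/
theorem minimal_parts {v : Vec} (hq : qipC v v = ⟨⟨4, 0⟩, ⟨0, 0⟩, ⟨0, 0⟩, ⟨0, 0⟩⟩) :
    ((nrm v.x).add (nrm v.y)).add (nrm v.z) = ⟨4, 0⟩ ∧ covered v.x = true ∧ covered v.y = true ∧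
      covered v.z = true := by
  simp only [qipC, mul_conj, Ico.add, Ico.mk.injEq] at hq
  have hs := hq.1
  refine ⟨hs, ?_⟩
  have hs' := hs
  simp only [Zt.add, Zt.mk.injEq] at hs'
  have ht : tf v.x + tf v.y + tf v.z = 32 := by rw [tf_eq, tf_eq, tf_eq]; omega
  have t1 := tf_nonneg v.x; have t2 := tf_nonneg v.y; have t3 := tf_nonneg v.z
  have hmem : ∀ x, x = v.x ∨ x = v.y ∨ x = v.z → nrm x ∈ norms := by
    intro x hx
    refine norm_mem fun t h => ⟨nrm_nonneg x h, ?_⟩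
    have e := congrArg (evT t) hs
    simp only [evT_add] at e
    have e4 : evT t (⟨4, 0⟩ : Zt) = 4 := by simp [evT]
    have := nrm_nonneg v.x h; have := nrm_nonneg v.y h; have := nrm_nonneg v.z h
    rcases hx with rfl | rfl | rfl <;> linarith
  exact ⟨covered_of_small (by omega) (hmem _ (Or.inl rfl)),
    covered_of_small (by omega) (hmem _ (Or.inr (Or.inl rfl))),
    covered_of_small (by omega) (hmem _ (Or.inr (Or.inr rfl)))⟩

theorem tripleOK_line {v : Vec} (hv : inL v = true) (h : tripleOK v = true) :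
    ∃ k ∈ lineData, decodeV k = v := by
  simp only [tripleOK, hv, Bool.not_true, Bool.false_or] at h
  obtain ⟨k, hk⟩ := Option.isSome_iff_exists.1 h
  exact ⟨k, (lfind_some hk).1, (eqV_iff _ _).1 (lfind_some hk).2⟩

/-- The last coordinate is determined by the first two modulo 2. -/
theorem restOK_line {v : Vec} (hv : inL v = true)
    (hq : qipC v v = ⟨⟨4, 0⟩, ⟨0, 0⟩, ⟨0, 0⟩, ⟨0, 0⟩⟩) (h : restOK v.x v.y = true) :
    ∃ k ∈ lineData, decodeV k = v := by
  obtain ⟨hs, -, -, hz⟩ := minimal_parts hq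
  obtain ⟨e, he, hd, -⟩ := covered_spec hz
  have hn : ((⟨4, 0⟩ : Zt).sub (nrm v.x)).sub (nrm v.y) = nrm v.z := by
    rw [← hs]
    cases nrm v.x; cases nrm v.y; cases nrm v.z
    simp only [Zt.add, Zt.sub, Zt.mk.injEq]; omega
  obtain ⟨d, b, c, hc⟩ := exists_comb hv
  have hx : E v.x = E d * E cHb - E c * E cH := by
    rw [← hc]; simp [comb, Vec.add, Vec.smul, g1, g2, g3, E_add, E_mul, E_zero, E_neg]; abel
  have hy : E v.y = E d * E cHb + E b * E cH - E c * E cH := by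
    rw [← hc]; simp [comb, Vec.add, Vec.smul, g1, g2, g3, E_add, E_mul, E_zero, E_neg]; abel
  have hz' : E v.z = E d * E cHb + E b * E cH := by
    rw [← hc]; simp [comb, Vec.add, Vec.smul, g1, g2, g3, E_add, E_mul, E_zero, E_neg]
  have he2 : (v.z.sub (v.y.add (v.x.mul cP))).even = true := by
    have p1 := E_half cP_left
    have p2 := E_half cP_right
    rw [E_mul] at p1
    rw [E_sub, E_mul] at p2
    refine even_of_E (z := ((c.mul cH).add (c.mul ((cH.mul cP).sub cH).half)).sub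
      (d.mul (cHb.mul cP).half)) ?_
    have p2' : E cH * E cP = E cH + (E ((cH.mul cP).sub cH).half + E ((cH.mul cP).sub cH).half) :=
      by rw [← p2]; abel
    simp only [E_add, E_sub, E_mul, hx, hy, hz', sub_mul, mul_assoc, p1, p2', mul_add]
    abel
  simp only [restOK, forceI_eq, lall_iff, hn] at h
  rw [bucket_congr (nrm v.z) he2] at he
  have := h e he
  rw [hd] at this
  exact tripleOK_line hv this

theorem eq_zero_of_nrm {x : Ico} (h : nrm x = ⟨0, 0⟩) : x = Ico.zero :=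
  eq_zero_of_tf (by rw [tf_eq, h]; rfl)

theorem qipC_smul_unit {i : ℕ} (hi : i < 120) (v : Vec) :
    qipC v v = ⟨⟨4, 0⟩, ⟨0, 0⟩, ⟨0, 0⟩, ⟨0, 0⟩⟩ →
      qipC (Vec.smul (unitAt i).conj v) (Vec.smul (unitAt i).conj v) =
        ⟨⟨4, 0⟩, ⟨0, 0⟩, ⟨0, 0⟩, ⟨0, 0⟩⟩ := by
  intro h
  simp only [qipC, mul_conj, Vec.smul, nrm_unit_mul hi] at h ⊢
  exact h

/-- Every minimal vector is a unit multiple of a listed one. -/
theorem exists_line {v : Vec} (hv : inL v = true)
    (hq : qipC v v = ⟨⟨4, 0⟩, ⟨0, 0⟩, ⟨0, 0⟩, ⟨0, 0⟩⟩) :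
    ∃ i < 120, ∃ k ∈ lineData, v = Vec.smul (unitAt i) (decodeV k) := by
  suffices H : ∀ x, x = v.x ∨ (v.x = Ico.zero ∧ x = v.y) ∨
      (v.x = Ico.zero ∧ v.y = Ico.zero ∧ x = v.z) → x ≠ Ico.zero →
      ∃ i < 120, ∃ k ∈ lineData, v = Vec.smul (unitAt i) (decodeV k) by
    by_cases h0 : v.x = Ico.zero
    · by_cases h1 : v.y = Ico.zero
      · refine H v.z (Or.inr (Or.inr ⟨h0, h1, rfl⟩)) fun h2 => ?_
        have := congrArg (fun q => q.x0.a) hq
        rw [show v = ⟨Ico.zero, Ico.zero, Ico.zero⟩ by cases v; simp_all] at this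
        revert this; decide +kernel
      · exact H v.y (Or.inr (Or.inl ⟨h0, rfl⟩)) h1
    · exact H v.x (Or.inl rfl) h0
  intro x hx hne
  obtain ⟨-, cx, cy, cz⟩ := minimal_parts hq
  have hcx : covered x = true := by rcases hx with rfl | ⟨-, rfl⟩ | ⟨-, -, rfl⟩ <;> assumption
  obtain ⟨-, -, -, i, hi, j, hj, hij⟩ := covered_spec hcx
  let w := Vec.smul (unitAt i).conj v
  have hw : inL w = true := inL_smul _ hv
  have hwq := qipC_smul_unit hi v hq
  have hfix : (unitAt i).conj.mul x = repAt j := E_injective (by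
    rw [E_mul, ← hij, E_mul, ← mul_assoc, conj_mul_unit hi, one_mul])
  have hback : v = Vec.smul (unitAt i) w := EV_injective (by
    funext t; simp only [w, EV_smul, ← mul_assoc, unitAt_conj hi, one_mul])
  suffices ∃ k ∈ lineData, decodeV k = w by
    obtain ⟨k, hk, hkw⟩ := this
    exact ⟨i, hi, k, hk, hkw ▸ hback⟩
  have hz0 : (unitAt i).conj.mul Ico.zero = Ico.zero := E_injective (by
    rw [E_mul, E_zero, mul_zero])
  have hr0 : eqI (repAt j) Ico.zero = false := by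
    rw [Bool.eq_false_iff]; intro e; rw [eqI_iff] at e
    exact hne (E_injective (by rw [← hij, e, E_mul, E_zero, mul_zero]))
  obtain ⟨hs, -, cy', -⟩ := minimal_parts hwq
  rcases hx with rfl | ⟨h0, rfl⟩ | ⟨h0, h1, rfl⟩
  · have hA := (lall_iff _ _).1 caseA_ok _ (repAt_mem hj)
    rw [repAt] at hfix hr0
    simp only [caseA, forceI_eq, hr0, Bool.false_or, lall_iff] at hA
    have hwx : w.x = decodeI (nth 0 repData j) := hfix
    rw [← hwx] at hA
    obtain ⟨e, he, hd, -⟩ := covered_spec cy'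
    have hmy : nrm w.y ∈ norms ∧ ((⟨4, 0⟩ : Zt).sub (nrm w.x)).sub (nrm w.y) ∈ norms := by
      obtain ⟨-, -, -, -⟩ := minimal_parts hwq
      have hb : ∀ t : ℝ, t * t = t + 1 → evT t (nrm w.x) + evT t (nrm w.y) + evT t (nrm w.z) = 4 := by
        intro t h
        have e := congrArg (evT t) hs
        rw [evT_add, evT_add, show evT t (⟨4, 0⟩ : Zt) = 4 by simp [evT]] at e
        exact e
      refine ⟨norm_mem fun t h => ⟨nrm_nonneg _ h, ?_⟩, norm_mem fun t h => ?_⟩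
      · have := hb t h; have := nrm_nonneg w.x h; have := nrm_nonneg w.z h; linarith
      · have := hb t h; have := nrm_nonneg w.x h; have := nrm_nonneg w.y h
        have := nrm_nonneg w.z h
        simp only [evT_sub, show evT t (⟨4, 0⟩ : Zt) = 4 by simp [evT]]
        constructor <;> linarith
    have hA1 := hA _ hmy.1
    rw [nIdx_lt hmy.2] at hA1
    simp only [cond_true, lall_iff] at hA1
    obtain ⟨-, ⟨_, hb, eb⟩, -⟩ := (EV_mem_iff w).2 hw
    obtain ⟨b, rfl⟩ := mem_icosians_iff.1 hb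
    simp only [EV, Fin.isValue, Matrix.cons_val_zero, Matrix.cons_val_one] at eb
    obtain ⟨k, hk, hkb⟩ := exists_k1 w.x b.neg w.y
      (by rw [E_neg, E_cH, neg_mul, ← eb]; abel) (nrm w.y)
    rw [← hkb] at he
    have := hA1 k hk e he
    rw [hd] at this
    exact restOK_line hw hwq this
  · have hB := (lall_iff _ _).1 caseBC_ok _ (repAt_mem hj)
    rw [repAt] at hfix hr0
    simp only [caseBC, hr0, Bool.false_or, Bool.and_eq_true] at hB
    refine restOK_line hw hwq ?_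
    rw [show w.x = Ico.zero from (congrArg _ h0).trans hz0, show w.y = _ from hfix]
    exact hB.1
  · have hB := (lall_iff _ _).1 caseBC_ok _ (repAt_mem hj)
    rw [repAt] at hfix hr0
    simp only [caseBC, hr0, Bool.false_or, Bool.and_eq_true] at hB
    refine tripleOK_line hw ?_
    rw [show w = ⟨Ico.zero, Ico.zero, decodeI (nth 0 repData j)⟩ by
      simp only [w, Vec.smul, h0, h1, hz0, hfix]]
    exact hB.2

theorem line_facts {k : ℕ} (hk : k ∈ lineData) : inL (decodeV k) = true ∧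
    qipC (decodeV k) (decodeV k) = ⟨⟨4, 0⟩, ⟨0, 0⟩, ⟨0, 0⟩, ⟨0, 0⟩⟩ := by
  have := (lall_iff _ _).1 lines_ok k hk
  simp only [lineOK, forceV_eq, Bool.and_eq_true, eqI_iff] at this
  exact this

end Cfsg.Agent.Compute.J2
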