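import Cfsg.Agent.Compute.J2.Lattice

/-!
Continuations that make the kernel reduce coordinates to literals before going on.
-/

set_option autoImplicit false

namespace Cfsg.Agent.Compute.J2

/-- Pass the literal value of `n` on. -/
noncomputable def forceN (n : ℕ) (k : ℕ → Bool) : Bool :=
  Nat.rec (motive := fun _ => Bool) (k 0) (fun m _ => k (Nat.succ m)) n

@[simp] theorem forceN_eq (n : ℕ) (k : ℕ → Bool) : forceN n k = k n := by cases n <;> rfl

/-- Pass the literal value of `z` on. -/
noncomputable def forceZ (z : ℤ) (k : ℤ → Bool) : Bool :=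
  Int.rec (motive := fun _ => Bool) (fun n => forceN n (fun m => k (Int.ofNat m)))
    (fun n => forceN n (fun m => k (Int.negSucc m))) z

@[simp] theorem forceZ_eq (z : ℤ) (k : ℤ → Bool) : forceZ z k = k z := by
  cases z <;> simp [forceZ]

noncomputable def forceT (z : Zt) (k : Zt → Bool) : Bool :=
  forceZ z.a (fun a => forceZ z.b (fun b => k ⟨a, b⟩))

@[simp] theorem forceT_eq (z : Zt) (k : Zt → Bool) : forceT z k = k z := by simp [forceT]

noncomputable def forceI (x : Ico) (k : Ico → Bool) : Bool :=
  forceT x.x0 (fun a => forceT x.x1 (fun b => forceT x.x2 (fun c => forceT x.x3 (fun d =>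
    k ⟨a, b, c, d⟩))))

@[simp] theorem forceI_eq (x : Ico) (k : Ico → Bool) : forceI x k = k x := by simp [forceI]

noncomputable def forceV (v : Vec) (k : Vec → Bool) : Bool :=
  forceI v.x (fun a => forceI v.y (fun b => forceI v.z (fun c => k ⟨a, b, c⟩)))

@[simp] theorem forceV_eq (v : Vec) (k : Vec → Bool) : forceV v k = k v := by simp [forceV]

end Cfsg.Agent.Compute.J2
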