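import Cfsg.Agent.Compute.J2.Lattice
import Cfsg.Agent.Compute.J2.EnumData
import Cfsg.Agent.Compute.J2.Force

/-!
Bool-valued search functions for short icosians and minimal vectors of the icosian Leech lattice.
-/

set_option autoImplicit false

namespace Cfsg.Agent.Compute.J2

noncomputable def eqZt (x y : Zt) : Bool := decide (x.a = y.a) && decide (x.b = y.b)
noncomputable def eqI (x y : Ico) : Bool :=
  eqZt x.x0 y.x0 && eqZt x.x1 y.x1 && eqZt x.x2 y.x2 && eqZt x.x3 y.x3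
noncomputable def eqV (v w : Vec) : Bool := eqI v.x w.x && eqI v.y w.y && eqI v.z w.z

theorem eqZt_iff (x y : Zt) : eqZt x y = true ↔ x = y := by
  cases x; cases y; simp [eqZt]

theorem eqI_iff (x y : Ico) : eqI x y = true ↔ x = y := by
  cases x; cases y; simp [eqI, eqZt_iff, and_assoc]

theorem eqV_iff (v w : Vec) : eqV v w = true ↔ v = w := by
  cases v; cases w; simp [eqV, eqI_iff, and_assoc]

noncomputable def digit (k i : ℕ) : ℤ := Int.subNatNat (getP 5 k i) 16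

noncomputable def decodeI (k : ℕ) : Ico :=
  ⟨⟨digit k 0, digit k 1⟩, ⟨digit k 2, digit k 3⟩, ⟨digit k 4, digit k 5⟩, ⟨digit k 6, digit k 7⟩⟩

noncomputable def decodeV (k : ℕ) : Vec :=
  ⟨decodeI k, decodeI (Nat.shiftRight k 40), decodeI (Nat.shiftRight k 80)⟩

noncomputable def hintU (e : ℕ) : ℕ := Nat.land (Nat.shiftRight e 40) 127
noncomputable def hintR (e : ℕ) : ℕ := Nat.shiftRight e 47

noncomputable def parZ (a : ℤ) : ℕ := Nat.mod a.natAbs 2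

/-- Residue modulo 2, high and low half. -/
noncomputable def clsHi (x : Ico) : ℕ :=
  parZ x.x2.a + 2 * parZ x.x2.b + 4 * parZ x.x3.a + 8 * parZ x.x3.b
noncomputable def clsLo (x : Ico) : ℕ :=
  parZ x.x0.a + 2 * parZ x.x0.b + 4 * parZ x.x1.a + 8 * parZ x.x1.b

/-- The possible norms. -/
def norms : List Zt :=
  [⟨0, 0⟩, ⟨1, 0⟩, ⟨1, 1⟩, ⟨2, -1⟩, ⟨2, 0⟩, ⟨2, 1⟩, ⟨3, -1⟩, ⟨3, 0⟩, ⟨4, 0⟩]

def buckets : List (List (List (List ℕ))) :=
  [bucket0, bucket1, bucket2, bucket3, bucket4, bucket5, bucket6, bucket7, bucket8]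

/-- Position of a norm in the list. -/
noncomputable def nIdx (n : Zt) : ℕ :=
  List.rec 0 (fun m _ ih => cond (eqZt m n) 0 (Nat.succ ih)) norms

noncomputable def bucket (n : Zt) (x : Ico) : List ℕ :=
  nth [] (nth [] (nth [] buckets (nIdx n)) (clsHi x)) (clsLo x)

noncomputable def nrm (x : Ico) : Zt := (x.mul x.conj).x0

noncomputable def unitAt (i : ℕ) : Ico := decodeI (nth 0 unitData i)
noncomputable def repAt (i : ℕ) : Ico := decodeI (nth 0 repData i)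

/-- `x` occurs in its bucket, with a valid factorisation as unit times representative. -/
noncomputable def covered (x : Ico) : Bool :=
  Option.isSome (lfind (bucket (nrm x) x) (fun e => eqI (decodeI e) x &&
    (Nat.ble (hintU e + 1) 120 && Nat.ble (hintR e + 1) 52 &&
      eqI ((unitAt (hintU e)).mul (repAt (hintR e))) x)))

/-- The trace form on one component. -/
noncomputable def qf (z : Zt) : ℤ := 2 * z.a * z.a + 2 * z.a * z.b + 3 * z.b * z.b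

/-- Pairs of small trace form. -/
def boxPairs : List Zt := [⟨-4, 0⟩, ⟨-4, 1⟩, ⟨-4, 2⟩, ⟨-3, -1⟩, ⟨-3, 0⟩, ⟨-3, 1⟩, ⟨-3, 2⟩, ⟨-3, 3⟩,
  ⟨-2, -2⟩, ⟨-2, -1⟩, ⟨-2, 0⟩, ⟨-2, 1⟩, ⟨-2, 2⟩, ⟨-2, 3⟩,
  ⟨-1, -2⟩, ⟨-1, -1⟩, ⟨-1, 0⟩, ⟨-1, 1⟩, ⟨-1, 2⟩, ⟨-1, 3⟩,
  ⟨0, -3⟩, ⟨0, -2⟩, ⟨0, -1⟩, ⟨0, 0⟩, ⟨0, 1⟩, ⟨0, 2⟩, ⟨0, 3⟩,
  ⟨1, -3⟩, ⟨1, -2⟩, ⟨1, -1⟩, ⟨1, 0⟩, ⟨1, 1⟩, ⟨1, 2⟩,
  ⟨2, -3⟩, ⟨2, -2⟩, ⟨2, -1⟩, ⟨2, 0⟩, ⟨2, 1⟩, ⟨2, 2⟩,
  ⟨3, -3⟩, ⟨3, -2⟩, ⟨3, -1⟩, ⟨3, 0⟩, ⟨3, 1⟩, ⟨4, -2⟩, ⟨4, -1⟩, ⟨4, 0⟩]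

noncomputable def evenZt (z : Zt) : Bool := evenZ z.a && evenZ z.b

noncomputable def leZ (a b : ℤ) : Bool := decide (a ≤ b)

/-- The sum of squares is four times an admissible norm. -/
noncomputable def smallNorm (q0 q1 q2 q3 : Zt) : Bool :=
  forceT (((q0.mul q0).add (q1.mul q1)).add ((q2.mul q2).add (q3.mul q3))) fun s =>
    Option.isSome (lfind norms (fun m => eqZt s ((m.add m).add (m.add m))))

/-- All icosians of trace at most 32 and admissible norm are covered. -/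
noncomputable def searchFrom (q2 : Zt) : Bool :=
  lall boxPairs (fun q3 =>
    forceZ (32 - qf q2 - qf q3) fun r1 =>
    cond (leZ 0 r1)
      (forceT q3.muT fun x2 => forceT q2.muT.neg fun x3 =>
       forceT (x2.add x3.muT) fun c0 => forceT (x3.sub x2.muT) fun c1 =>
       lall boxPairs (fun q0 => cond (evenZt (q0.sub c0))
         (forceZ (r1 - qf q0) fun r0 => cond (leZ 0 r0)
           (lall boxPairs (fun q1 => cond (evenZt (q1.sub c1))
             (cond (leZ (qf q1) r0) (cond (smallNorm q0 q1 q2 q3)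
               (forceI ⟨(q0.sub c0).half, (q1.sub c1).half, x2, x3⟩ covered) true) true) true))
           true) true))
      true)

/-- The idempotent used to determine the last coordinate. -/
noncomputable def cP : Ico := ⟨⟨0, 0⟩, ⟨1, 0⟩, ⟨1, 1⟩, ⟨1, 1⟩⟩

noncomputable def inLines (v : Vec) : Bool :=
  Option.isSome (lfind lineData (fun k => eqV (decodeV k) v))

noncomputable def tripleOK (v : Vec) : Bool := !inL v || inLines v

noncomputable def restOK (r0 r1 : Ico) : Bool :=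
  lall (bucket (((⟨4, 0⟩ : Zt).sub (nrm r0)).sub (nrm r1)) (r1.add (r0.mul cP)))
    (fun e => forceI (decodeI e) fun r2 => tripleOK ⟨r0, r1, r2⟩)

noncomputable def caseA (k : ℕ) : Bool :=
  forceI (decodeI k) fun r0 => eqI r0 Ico.zero || lall norms (fun n1 =>
    cond (Nat.ble (nIdx (((⟨4, 0⟩ : Zt).sub (nrm r0)).sub n1) + 1) 9)
      (lall k1Data (fun j => lall (bucket n1 (r0.add (decodeI j)))
        (fun e => forceI (decodeI e) (restOK r0)))) true)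

noncomputable def caseBC (k : ℕ) : Bool :=
  let r := decodeI k
  eqI r Ico.zero || (restOK Ico.zero r && tripleOK ⟨Ico.zero, Ico.zero, r⟩)

/-- The binary vector with given code. -/
noncomputable def bitsI (m : ℕ) : Ico :=
  ⟨⟨getP 1 m 0, getP 1 m 1⟩, ⟨getP 1 m 2, getP 1 m 3⟩, ⟨getP 1 m 4, getP 1 m 5⟩,
    ⟨getP 1 m 6, getP 1 m 7⟩⟩

noncomputable def k1OK (m : ℕ) : Bool :=
  forceI ((bitsI m).mul cH) fun y => Option.isSome (lfind k1Data (fun j =>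
    Nat.beq (clsHi (decodeI j)) (clsHi y) && Nat.beq (clsLo (decodeI j)) (clsLo y)))

noncomputable def lineOK (k : ℕ) : Bool :=
  forceV (decodeV k) fun v => inL v && eqI (qipC v v) ⟨⟨4, 0⟩, ⟨0, 0⟩, ⟨0, 0⟩, ⟨0, 0⟩⟩

end Cfsg.Agent.Compute.J2
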