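import Cfsg.Agent.Compute.Chunk
import Cfsg.Agent.Compute.J2.EnumDefs

/-!
Kernel verification of the enumeration of minimal vectors of the icosian Leech lattice.
-/

set_option autoImplicit false
set_option Elab.async false

namespace Cfsg.Agent.Compute.J2

theorem search_ok_0 : chunkL boxPairs searchFrom 1 0 = true := by decide +kernel
theorem search_ok_1 : chunkL boxPairs searchFrom 1 1 = true := by decide +kernel
theorem search_ok_2 : chunkL boxPairs searchFrom 1 2 = true := by decide +kernel
theorem search_ok_3 : chunkL boxPairs searchFrom 1 3 = true := by decide +kernel
theorem search_ok_4 : chunkL boxPairs searchFrom 1 4 = true := by decide +kernel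
theorem search_ok_5 : chunkL boxPairs searchFrom 1 5 = true := by decide +kernel
theorem search_ok_6 : chunkL boxPairs searchFrom 1 6 = true := by decide +kernel
theorem search_ok_7 : chunkL boxPairs searchFrom 1 7 = true := by decide +kernel
theorem search_ok_8 : chunkL boxPairs searchFrom 1 8 = true := by decide +kernel
theorem search_ok_9 : chunkL boxPairs searchFrom 1 9 = true := by decide +kernel
theorem search_ok_10 : chunkL boxPairs searchFrom 1 10 = true := by decide +kernel
theorem search_ok_11 : chunkL boxPairs searchFrom 1 11 = true := by decide +kernel
theorem search_ok_12 : chunkL boxPairs searchFrom 1 12 = true := by decide +kernel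
theorem search_ok_13 : chunkL boxPairs searchFrom 1 13 = true := by decide +kernel
theorem search_ok_14 : chunkL boxPairs searchFrom 1 14 = true := by decide +kernel
theorem search_ok_15 : chunkL boxPairs searchFrom 1 15 = true := by decide +kernel
theorem search_ok_16 : chunkL boxPairs searchFrom 1 16 = true := by decide +kernel
theorem search_ok_17 : chunkL boxPairs searchFrom 1 17 = true := by decide +kernel
theorem search_ok_18 : chunkL boxPairs searchFrom 1 18 = true := by decide +kernel
theorem search_ok_19 : chunkL boxPairs searchFrom 1 19 = true := by decide +kernel
theorem search_ok_20 : chunkL boxPairs searchFrom 1 20 = true := by decide +kernel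
theorem search_ok_21 : chunkL boxPairs searchFrom 1 21 = true := by decide +kernel
theorem search_ok_22 : chunkL boxPairs searchFrom 1 22 = true := by decide +kernel

end Cfsg.Agent.Compute.J2
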