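import Cfsg.Agent.Compute.Chunk
import Cfsg.Agent.Compute.J2.EnumCheckA

/-!
Kernel verification of the enumeration of minimal vectors of the icosian Leech lattice.
-/

set_option autoImplicit false
set_option Elab.async false

namespace Cfsg.Agent.Compute.J2

theorem search_ok_23 : chunkL boxPairs searchFrom 1 23 = true := by decide +kernel
theorem search_ok_24 : chunkL boxPairs searchFrom 1 24 = true := by decide +kernel
theorem search_ok_25 : chunkL boxPairs searchFrom 1 25 = true := by decide +kernel
theorem search_ok_26 : chunkL boxPairs searchFrom 1 26 = true := by decide +kernel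
theorem search_ok_27 : chunkL boxPairs searchFrom 1 27 = true := by decide +kernel
theorem search_ok_28 : chunkL boxPairs searchFrom 1 28 = true := by decide +kernel
theorem search_ok_29 : chunkL boxPairs searchFrom 1 29 = true := by decide +kernel
theorem search_ok_30 : chunkL boxPairs searchFrom 1 30 = true := by decide +kernel
theorem search_ok_31 : chunkL boxPairs searchFrom 1 31 = true := by decide +kernel
theorem search_ok_32 : chunkL boxPairs searchFrom 1 32 = true := by decide +kernel
theorem search_ok_33 : chunkL boxPairs searchFrom 1 33 = true := by decide +kernel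
theorem search_ok_34 : chunkL boxPairs searchFrom 1 34 = true := by decide +kernel
theorem search_ok_35 : chunkL boxPairs searchFrom 1 35 = true := by decide +kernel
theorem search_ok_36 : chunkL boxPairs searchFrom 1 36 = true := by decide +kernel
theorem search_ok_37 : chunkL boxPairs searchFrom 1 37 = true := by decide +kernel
theorem search_ok_38 : chunkL boxPairs searchFrom 1 38 = true := by decide +kernel
theorem search_ok_39 : chunkL boxPairs searchFrom 1 39 = true := by decide +kernel
theorem search_ok_40 : chunkL boxPairs searchFrom 1 40 = true := by decide +kernel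
theorem search_ok_41 : chunkL boxPairs searchFrom 1 41 = true := by decide +kernel
theorem search_ok_42 : chunkL boxPairs searchFrom 1 42 = true := by decide +kernel
theorem search_ok_43 : chunkL boxPairs searchFrom 1 43 = true := by decide +kernel
theorem search_ok_44 : chunkL boxPairs searchFrom 1 44 = true := by decide +kernel
theorem search_ok_45 : chunkL boxPairs searchFrom 1 45 = true := by decide +kernel
theorem search_ok_46 : chunkL boxPairs searchFrom 1 46 = true := by decide +kernel

theorem search_ok : lall boxPairs searchFrom = true :=
  lall_of_chunks 1 47 (by decide +kernel) fun k hk =>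
    match k, hk with
    | 0, _ => search_ok_0
    | 1, _ => search_ok_1
    | 2, _ => search_ok_2
    | 3, _ => search_ok_3
    | 4, _ => search_ok_4
    | 5, _ => search_ok_5
    | 6, _ => search_ok_6
    | 7, _ => search_ok_7
    | 8, _ => search_ok_8
    | 9, _ => search_ok_9
    | 10, _ => search_ok_10
    | 11, _ => search_ok_11
    | 12, _ => search_ok_12
    | 13, _ => search_ok_13
    | 14, _ => search_ok_14
    | 15, _ => search_ok_15
    | 16, _ => search_ok_16
    | 17, _ => search_ok_17
    | 18, _ => search_ok_18
    | 19, _ => search_ok_19
    | 20, _ => search_ok_20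
    | 21, _ => search_ok_21
    | 22, _ => search_ok_22
    | 23, _ => search_ok_23
    | 24, _ => search_ok_24
    | 25, _ => search_ok_25
    | 26, _ => search_ok_26
    | 27, _ => search_ok_27
    | 28, _ => search_ok_28
    | 29, _ => search_ok_29
    | 30, _ => search_ok_30
    | 31, _ => search_ok_31
    | 32, _ => search_ok_32
    | 33, _ => search_ok_33
    | 34, _ => search_ok_34
    | 35, _ => search_ok_35
    | 36, _ => search_ok_36
    | 37, _ => search_ok_37
    | 38, _ => search_ok_38
    | 39, _ => search_ok_39
    | 40, _ => search_ok_40
    | 41, _ => search_ok_41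
    | 42, _ => search_ok_42
    | 43, _ => search_ok_43
    | 44, _ => search_ok_44
    | 45, _ => search_ok_45
    | 46, _ => search_ok_46
    | j + 47, hj => absurd hj (by omega)

theorem caseA_ok_0 : chunkL repData caseA 8 0 = true := by decide +kernel
theorem caseA_ok_1 : chunkL repData caseA 8 1 = true := by decide +kernel
theorem caseA_ok_2 : chunkL repData caseA 8 2 = true := by decide +kernel
theorem caseA_ok_3 : chunkL repData caseA 8 3 = true := by decide +kernel
theorem caseA_ok_4 : chunkL repData caseA 8 4 = true := by decide +kernel
theorem caseA_ok_5 : chunkL repData caseA 8 5 = true := by decide +kernel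
theorem caseA_ok_6 : chunkL repData caseA 8 6 = true := by decide +kernel

theorem caseA_ok : lall repData caseA = true :=
  lall_of_chunks 8 7 (by decide +kernel) fun k hk =>
    match k, hk with
    | 0, _ => caseA_ok_0
    | 1, _ => caseA_ok_1
    | 2, _ => caseA_ok_2
    | 3, _ => caseA_ok_3
    | 4, _ => caseA_ok_4
    | 5, _ => caseA_ok_5
    | 6, _ => caseA_ok_6
    | j + 7, hj => absurd hj (by omega)

theorem caseBC_ok : lall repData caseBC = true := by decide +kernel
theorem units_ok :
    lall unitData (fun k => eqI ((decodeI k).mul (decodeI k).conj) Ico.one) = true := by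
  decide +kernel
theorem k1_ok_0 : chunkN 256 k1OK 64 0 = true := by decide +kernel
theorem k1_ok_1 : chunkN 256 k1OK 64 1 = true := by decide +kernel
theorem k1_ok_2 : chunkN 256 k1OK 64 2 = true := by decide +kernel
theorem k1_ok_3 : chunkN 256 k1OK 64 3 = true := by decide +kernel

theorem k1_ok : allN 256 k1OK = true :=
  allN_of_chunks 64 4 (by decide +kernel) fun k hk =>
    match k, hk with
    | 0, _ => k1_ok_0
    | 1, _ => k1_ok_1
    | 2, _ => k1_ok_2
    | 3, _ => k1_ok_3
    | j + 4, hj => absurd hj (by omega)

theorem lines_ok_0 : chunkL lineData lineOK 45 0 = true := by decide +kernel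
theorem lines_ok_1 : chunkL lineData lineOK 45 1 = true := by decide +kernel
theorem lines_ok_2 : chunkL lineData lineOK 45 2 = true := by decide +kernel
theorem lines_ok_3 : chunkL lineData lineOK 45 3 = true := by decide +kernel
theorem lines_ok_4 : chunkL lineData lineOK 45 4 = true := by decide +kernel
theorem lines_ok_5 : chunkL lineData lineOK 45 5 = true := by decide +kernel
theorem lines_ok_6 : chunkL lineData lineOK 45 6 = true := by decide +kernel

theorem lines_ok : lall lineData lineOK = true :=
  lall_of_chunks 45 7 (by decide +kernel) fun k hk =>
    match k, hk with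
    | 0, _ => lines_ok_0
    | 1, _ => lines_ok_1
    | 2, _ => lines_ok_2
    | 3, _ => lines_ok_3
    | 4, _ => lines_ok_4
    | 5, _ => lines_ok_5
    | 6, _ => lines_ok_6
    | j + 7, hj => absurd hj (by omega)

theorem cP_left : (cHb.mul cP).even = true := by decide +kernel
theorem cP_right : ((cH.mul cP).sub cH).even = true := by decide +kernel

end Cfsg.Agent.Compute.J2
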