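import Cfsg.Agent.Compute.J2.Model
import Cfsg.Agent.Compute.J2.ConjCheck

/-!
Minimal vectors, conjugacy of reflections, element orders of J2.
-/

set_option autoImplicit false

namespace Cfsg.Agent.Compute.J2

open Quaternion
open Cfsg.Spor (icoLeech twoJ2 IsIcoReflection J2 qip)

attribute [local irreducible] packP mulMat refCode decodeV matDen toMat nth dblCen dblChain quoChain
  classTable dblPrim quoPrim dblSound quoSound dblOps quoOps lineData reflPerms unitData

theorem refl_mem_two (i : Fin 315) : reflPerm (line i) ∈ twoJ2 :=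
  Subgroup.subset_closure (isReflection_reflPerm (line_mem i))

/-- Reflection `i` inside 2J2. -/
noncomputable def refl2 (i : Fin 315) : twoJ2 := ⟨_, refl_mem_two i⟩

theorem equiv2_refl2 (i : Fin 315) :
    (equiv2 (refl2 i)).1 = dblSound.den (code i) := by
  rw [refl2, equiv2_refl i (refl_mem_two i)]

theorem reflPerm_line_injective : Function.Injective fun i : Fin 315 => reflPerm (line i) := by
  intro i j h
  refine code_perm_inj ?_
  rw [← equiv2_refl2, ← equiv2_refl2, show refl2 i = refl2 j from Subtype.ext h]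

theorem ncard_reflections : {f : Equiv.Perm icoLeech | IsIcoReflection f}.ncard = 315 := by
  have : {f : Equiv.Perm icoLeech | IsIcoReflection f} =
      Set.range fun i : Fin 315 => reflPerm (line i) := by
    ext f
    constructor
    · intro hf
      obtain ⟨k, hk, rfl⟩ := (isReflection_iff f).1 hf
      obtain ⟨i, rfl⟩ := exists_line_idx hk
      exact ⟨i, rfl⟩
    · rintro ⟨i, rfl⟩; exact isReflection_reflPerm (line_mem i)
  rw [this, Set.ncard_range_of_injective reflPerm_line_injective, Nat.card_fin]

theorem unitAt_injective {i j : ℕ} (hi : i < 120) (hj : j < 120) (h : unitAt i = unitAt j) :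
    i = j := by
  have key : ∀ a b, a < 120 → b < a → unitAt a ≠ unitAt b := by
    intro a b ha hb e
    have := (allN_iff _ _).1 ((allN_iff _ _).1 units_distinct a ha) b hb
    rw [(eqI_iff _ _).2 e] at this
    simp at this
  rcases lt_trichotomy i j with hl | he | hl
  · exact absurd h.symm (key j i hj hl)
  · exact he
  · exact absurd h (key i j hi hl)

theorem ncard_minimal :
    {r : Fin 3 → ℍ[ℝ] | r ∈ icoLeech ∧ qip r r = 4}.ncard = 37800 := by
  have : {r : Fin 3 → ℍ[ℝ] | r ∈ icoLeech ∧ qip r r = 4} =
      Set.range fun p : Fin 120 × Fin 315 =>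
        EV (Vec.smul (unitAt p.1) (decodeV (line p.2))) := by
    ext r
    constructor
    · rintro ⟨hr, hq⟩
      obtain ⟨v, hv, rfl⟩ := exists_EV hr
      obtain ⟨i, hi, k, hk, rfl⟩ := exists_line hv ((qip_four_iff v).1 hq)
      obtain ⟨j, rfl⟩ := exists_line_idx hk
      exact ⟨(⟨i, hi⟩, j), rfl⟩
    · rintro ⟨⟨i, j⟩, rfl⟩
      refine ⟨(EV_mem_iff _).2 (inL_smul _ (line_facts (line_mem j)).1), ?_⟩
      have hl := line_norm (line_mem j)
      have hu : E (unitAt i) * star (E (unitAt i)) = 1 := by rw [← E_conj]; exact unitAt_conj i.2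
      calc qip (EV (Vec.smul (unitAt i) (decodeV (line j))))
            (EV (Vec.smul (unitAt i) (decodeV (line j))))
          = E (unitAt i) * qip (EV (decodeV (line j))) (EV (decodeV (line j))) *
              star (E (unitAt i)) := by
            simp only [EV_smul, qip, Fin.sum_univ_three, star_mul, mul_add, add_mul, mul_assoc]
        _ = 4 := by
            rw [hl, four_eq_smul, mul_smul_comm, mul_one, smul_mul_assoc, hu]
  rw [this, Set.ncard_range_of_injective, Nat.card_prod, Nat.card_fin, Nat.card_fin]
  rintro ⟨i, j⟩ ⟨i', j'⟩ h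
  simp only [EV_smul] at h
  have hj : j = j' := reflPerm_line_injective (Equiv.ext fun x => Subtype.ext (by
    show (reflPerm (line j) x).1 = (reflPerm (line j') x).1
    rw [reflPerm_apply (line_mem j), reflPerm_apply (line_mem j'),
      ← qrefl_smul (EV (decodeV (line j))) x.1 (star_mul_unit i.2), h,
      qrefl_smul _ _ (star_mul_unit i'.2)]))
  subst hj
  refine Prod.ext (Fin.ext (unitAt_injective i.2 i'.2 (E_injective ?_))) rfl
  by_contra hne
  have hz : EV (decodeV (line j)) = 0 := by
    funext t
    have ht := congrFun h t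
    rw [← sub_eq_zero, ← sub_mul] at ht
    exact (mul_eq_zero.1 ht).resolve_left (sub_ne_zero.2 hne)
  have hl := line_norm (line_mem j)
  rw [hz] at hl
  have := congrArg (fun q : ℍ[ℝ] => q.re) (hl.trans four_eq_smul)
  simp [qip] at this

theorem code_sq (p : Fin 315) : dblSound.den (code p) * dblSound.den (code p) = 1 := by
  have hs := (allN_iff _ _).1 sift_ok p p.2
  simp only [siftRefl, forceV_eq, forceN_eq, Bool.and_eq_true] at hs
  have hc : code p = ((lineItem p).2,
      mulMat 10 6 11 (frameN true (reflC (decodeV (lineItem p).1) g1)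
        (reflC (decodeV (lineItem p).1) g2) (reflC (decodeV (lineItem p).1) g3)) (giCode true),
      mulMat 10 6 11 (frameN false (reflC (decodeV (lineItem p).1) g1)
        (reflC (decodeV (lineItem p).1) g2) (reflC (decodeV (lineItem p).1) g3)) (giCode false)) := by
    simp only [code, reflCode, refCode]
  rw [hc]
  exact eq_inv_iff_mul_eq_one.1 (dblSound.okInv_sound hs.1).2.2

/-- Every reflection is conjugate to the first one. -/
theorem exists_conj_zero (i : Fin 315) : ∃ g : twoJ2, g * refl2 0 * g⁻¹ = refl2 i := by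
  have key : ∀ d, ∀ i : Fin 315, (nth (0, 0, 0) conjTree i).2.2 ≤ d →
      ∃ g : twoJ2, g * refl2 0 * g⁻¹ = refl2 i := by
    intro d
    induction d with
    | zero =>
      intro i hd
      by_cases h0 : i = 0
      · exact ⟨1, by simp [h0]⟩
      · have h := (allN_iff _ _).1 conj_ok i i.2
        have hb : Nat.beq (i : ℕ) 0 = false := by
          rw [Bool.eq_false_iff]; intro e; exact h0 (Fin.ext (Nat.eq_of_beq_eq_true e))
        simp only [conjRowOK, hb, cond_false, Bool.and_eq_true, Nat.ble_eq] at h
        omega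
    | succ d ih =>
      intro i hd
      by_cases h0 : i = 0
      · exact ⟨1, by simp [h0]⟩
      · have h := (allN_iff _ _).1 conj_ok i i.2
        have hb : Nat.beq (i : ℕ) 0 = false := by
          rw [Bool.eq_false_iff]; intro e; exact h0 (Fin.ext (Nat.eq_of_beq_eq_true e))
        simp only [conjRowOK, hb, cond_false, Bool.and_eq_true, Nat.ble_eq] at h
        obtain ⟨⟨⟨h1, h2⟩, h3⟩, h4⟩ := h
        let j : Fin 315 := ⟨(nth (0, 0, 0) conjTree i).1, h1⟩
        obtain ⟨g, hg⟩ := ih j (by show (nth (0, 0, 0) conjTree j.1).2.2 ≤ d; simp only [j]; omega)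
        have hp := (allN_iff _ _).1 primIdx_ok _ h2
        rw [Nat.ble_eq] at hp
        let p : Fin 315 := ⟨nth 0 primIdx (nth (0, 0, 0) conjTree i).2.1, hp⟩
        refine ⟨refl2 p * g, ?_⟩
        have hpp : refl2 p * refl2 p = 1 := by
          apply equiv2.injective
          apply Subtype.ext
          rw [map_mul, map_one, Subgroup.coe_mul, Subgroup.coe_one, equiv2_refl2]
          exact code_sq p
        rw [mul_inv_rev, inv_eq_of_mul_eq_one_right hpp,
          show refl2 p * g * refl2 0 * (g⁻¹ * refl2 p) = refl2 p * (g * refl2 0 * g⁻¹) * refl2 p by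
            group, hg]
        apply equiv2.injective
        apply Subtype.ext
        rw [map_mul, map_mul, Subgroup.coe_mul, Subgroup.coe_mul, equiv2_refl2, equiv2_refl2,
          equiv2_refl2]
        have oc := (code_facts i).1
        have op := (code_facts p).1
        have oj := (code_facts j).1
        refine (eq_of_bases dblSound dblChain_ok
          (mul_mem (mul_mem (code_facts p).2 (code_facts j).2) (code_facts p).2) (code_facts i).2
          fun b hb => ?_)
        have h5 := Nat.eq_of_beq_eq_true ((lall_iff _ _).1 h4 b hb)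
        rw [dblSound.act_mul, dblSound.act_mul, ← dblSound.img_eq op, ← dblSound.img_eq oj,
          ← dblSound.img_eq op, ← dblSound.img_eq oc]
        exact h5.symm
  exact key _ i le_rfl

theorem exists_noncomm : ∃ a b : J2, a * b ≠ b * a := by
  by_contra hc
  push Not at hc
  have hce : Subgroup.centralizer ({rep 1} : Set quoGrp) = ⊤ := by
    rw [eq_top_iff]; intro x _
    refine Subgroup.mem_centralizer_singleton_iff.2 (equivJ2.symm.injective ?_)
    rw [map_mul, map_mul]; exact hc _ _
  have h := card_cent_rep 1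
  rw [hce, Subgroup.card_top, card_quoGrp] at h
  revert h
  show 604800 = (row 1).2.2.2.2 → False
  intro h
  have hr : (row 1).2.2.2.2 = 240 ∨ (row 1).2.2.2.2 = 1920 := by
    unfold row
    decide +kernel
  omega

theorem orderOf_eq_rep (g : quoGrp) (i : Fin 21) (h : IsConj (rep i) g) :
    orderOf g = (row i).2.1 := by
  obtain ⟨c, rfl⟩ := isConj_iff.1 h
  rw [← orderOf_rep i]
  exact orderOf_injective (MulAut.conj c).toMonoidHom (MulEquiv.injective _) (rep i)

theorem row_orders : (∀ i : Fin 21, (row i).2.1 ∈ [1, 2, 3, 4, 5, 6, 7, 8, 10, 12, 15]) ∧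
    ∀ k : Fin 11, ∃ i : Fin 21, (row i).2.1 = nth 0 [1, 2, 3, 4, 5, 6, 7, 8, 10, 12, 15] k := by
  decide +kernel

/-- The element orders of J2. -/
theorem range_orderOf_J2 : Set.range (orderOf : J2 → ℕ) =
    {n | n ∈ [1, 2, 3, 4, 5, 6, 7, 8, 10, 12, 15]} := by
  have he : (orderOf : J2 → ℕ) = orderOf ∘ equivJ2 :=
    funext fun g => (MulEquiv.orderOf_eq equivJ2 g).symm
  rw [he, equivJ2.surjective.range_comp]
  ext n
  constructor
  · rintro ⟨g, rfl⟩
    obtain ⟨i, hi⟩ := exists_isConj_rep g
    rw [orderOf_eq_rep g i hi]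
    exact row_orders.1 i
  · intro hn
    obtain ⟨k, hk, rfl⟩ := List.getElem_of_mem hn
    obtain ⟨i, hi⟩ := row_orders.2 ⟨k, hk⟩
    exact ⟨rep i, (orderOf_rep i).trans (hi.trans (nth_eq_getElem _ _ _ hk))⟩

end Cfsg.Agent.Compute.J2
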