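import Cfsg.Agent.Compute.J2.GroupDefs
import Cfsg.Agent.Compute.J2.FusionData

/-!
Kernel verification of the fusion certificate for J2.
-/

set_option autoImplicit false
set_option Elab.async false

namespace Cfsg.Agent.Compute.J2

theorem fusion_ok : checkFusion quoOps quoChain (2 ^ 7) fusionCert = true := by decide +kernel

end Cfsg.Agent.Compute.J2
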