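import Cfsg.Prelude.Def_Spor_J2

/-!
The icosian ring in coordinates: a free module over ℤ[τ] with basis 1, i, ω, iω.
-/

set_option autoImplicit false

namespace Cfsg.Agent.Compute.J2

open Quaternion
open Cfsg.Spor (tau sig qI icosians icoH)

/-- `a + b τ` with τ² = τ + 1. -/
structure Zt where
  a : ℤ
  b : ℤ
deriving DecidableEq

noncomputable def Zt.add (x y : Zt) : Zt := ⟨x.a + y.a, x.b + y.b⟩
noncomputable def Zt.neg (x : Zt) : Zt := ⟨-x.a, -x.b⟩
noncomputable def Zt.sub (x y : Zt) : Zt := ⟨x.a - y.a, x.b - y.b⟩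
noncomputable def Zt.mul (x y : Zt) : Zt :=
  ⟨x.a * y.a + x.b * y.b, x.a * y.b + x.b * y.a + x.b * y.b⟩

/-- `(τ - 1) * x`. -/
noncomputable def Zt.muT (x : Zt) : Zt := ⟨x.b - x.a, x.a⟩

/-- Coordinates in the basis 1, i, ω, iω. -/
structure Ico where
  x0 : Zt
  x1 : Zt
  x2 : Zt
  x3 : Zt
deriving DecidableEq

noncomputable def Ico.zero : Ico := ⟨⟨0, 0⟩, ⟨0, 0⟩, ⟨0, 0⟩, ⟨0, 0⟩⟩
noncomputable def Ico.one : Ico := ⟨⟨1, 0⟩, ⟨0, 0⟩, ⟨0, 0⟩, ⟨0, 0⟩⟩
noncomputable def Ico.add (x y : Ico) : Ico :=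
  ⟨x.x0.add y.x0, x.x1.add y.x1, x.x2.add y.x2, x.x3.add y.x3⟩
noncomputable def Ico.sub (x y : Ico) : Ico :=
  ⟨x.x0.sub y.x0, x.x1.sub y.x1, x.x2.sub y.x2, x.x3.sub y.x3⟩
noncomputable def Ico.neg (x : Ico) : Ico := ⟨x.x0.neg, x.x1.neg, x.x2.neg, x.x3.neg⟩

/-- The product of icosians in coordinates. -/
noncomputable def Ico.mul (x y : Ico) : Ico :=
  let p21 := x.x2.mul y.x1; let p22 := x.x2.mul y.x2; let p23 := x.x2.mul y.x3
  let p31 := x.x3.mul y.x1; let p32 := x.x3.mul y.x2; let p33 := x.x3.mul y.x3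
  let p11 := x.x1.mul y.x1; let p13 := x.x1.mul y.x3
  ⟨((((x.x0.mul y.x0).sub p11).add p21.muT).sub p22).sub (p31.add p33),
   ((((x.x0.mul y.x1).add (x.x1.mul y.x0)).add p21).add (p23.add p31.muT)).sub p32,
   (((x.x0.mul y.x2).sub p13).add ((x.x2.mul y.x0).add p22)).add (p23.muT.add p31),
   ((((x.x0.mul y.x3).add (x.x1.mul y.x2)).add (x.x3.mul y.x0)).add (p32.add p33.muT)).sub p21⟩

/-- Quaternion conjugation in coordinates. -/
noncomputable def Ico.conj (x : Ico) : Ico :=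
  ⟨x.x0.add (x.x2.add x.x3.muT), x.x1.neg, x.x2.neg, x.x3.neg⟩

/-- Image of `a + b τ` in a ring. -/
def evT {R : Type*} [Ring R] (t : R) (x : Zt) : R := (x.a : R) + (x.b : R) * t

section EvT

variable {R : Type*} [CommRing R] {t : R} (ht : t * t = t + 1)

theorem evT_add (x y : Zt) : evT t (x.add y) = evT t x + evT t y := by
  simp only [evT, Zt.add]; push_cast; ring

theorem evT_neg (x : Zt) : evT t x.neg = -evT t x := by
  simp only [evT, Zt.neg]; push_cast; ring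

theorem evT_sub (x y : Zt) : evT t (x.sub y) = evT t x - evT t y := by
  simp only [evT, Zt.sub]; push_cast; ring

include ht in
theorem evT_mul (x y : Zt) : evT t (x.mul y) = evT t x * evT t y := by
  simp only [evT, Zt.mul]; push_cast
  linear_combination -((x.b : R) * (y.b : R)) * ht

include ht in
theorem evT_muT (x : Zt) : evT t x.muT = (t - 1) * evT t x := by
  simp only [evT, Zt.muT]; push_cast
  linear_combination -(x.b : R) * ht

end EvT

/-- Image of a coordinate vector in an algebra. -/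
def evA {R A : Type*} [CommRing R] [Ring A] [Algebra R A] (t : R) (I W : A) (x : Ico) : A :=
  evT t x.x0 • (1 : A) + evT t x.x1 • I + evT t x.x2 • W + evT t x.x3 • (I * W)

section EvA

variable {R A : Type*} [CommRing R] [Ring A] [Algebra R A] {t : R} (ht : t * t = t + 1) {I W : A}
  (hI : I * I = -1) (hW : W * W = W - 1) (hWI : W * I = (t - 1) • (1 : A) + I - I * W)

theorem evA_add (x y : Ico) : evA t I W (x.add y) = evA t I W x + evA t I W y := by
  simp only [evA, Ico.add, evT_add]; module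

theorem evA_sub (x y : Ico) : evA t I W (x.sub y) = evA t I W x - evA t I W y := by
  simp only [evA, Ico.sub, evT_sub]; module

theorem evA_neg (x : Ico) : evA t I W x.neg = -evA t I W x := by
  simp only [evA, Ico.neg, evT_neg]; module

include hI hW hWI ht in
theorem evA_mul (x y : Ico) : evA t I W (x.mul y) = evA t I W x * evA t I W y := by
  have h13 : I * (I * W) = -W := by rw [← mul_assoc, hI, neg_one_mul]
  have h23 : W * (I * W) = (t - 1) • W + I := by
    rw [← mul_assoc, hWI, sub_mul, add_mul, smul_one_mul, mul_assoc I W W, hW, mul_sub, mul_one]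
    module
  have h31 : I * W * I = (t - 1) • I + W - 1 := by
    rw [mul_assoc, hWI, mul_sub, mul_add, mul_smul_comm, mul_one, h13, hI]
    module
  have h32 : I * W * W = I * W - I := by rw [mul_assoc, hW, mul_sub, mul_one]
  have h33 : I * W * (I * W) = (t - 1) • (I * W) - 1 := by
    rw [mul_assoc, h23, mul_add, mul_smul_comm, hI]
    module
  simp only [evA, add_mul, mul_add, smul_mul_smul_comm, one_mul, mul_one, hI, hW, hWI, h13, h23,
    h31, h32, h33]
  simp only [Ico.mul, evT_add, evT_sub, evT_mul ht, evT_muT ht]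
  module

end EvA

/-! ### The quaternion model -/

theorem tau_sq : tau * tau = tau + 1 := by
  have h : Real.sqrt 5 * Real.sqrt 5 = 5 := Real.mul_self_sqrt (by norm_num)
  unfold tau; linear_combination h / 4

theorem sig_eq : sig = 1 - tau := by unfold sig tau; ring

/-- ω = (1 + σ i + τ k)/2. -/
noncomputable def qW : ℍ[ℝ] := ⟨1 / 2, sig / 2, 0, tau / 2⟩

@[simp] theorem qI_re : qI.re = 0 := rfl
@[simp] theorem qI_imI : qI.imI = 1 := rfl
@[simp] theorem qI_imJ : qI.imJ = 0 := rfl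
@[simp] theorem qI_imK : qI.imK = 0 := rfl
@[simp] theorem qW_re : qW.re = 1 / 2 := rfl
@[simp] theorem qW_imI : qW.imI = sig / 2 := rfl
@[simp] theorem qW_imJ : qW.imJ = 0 := rfl
@[simp] theorem qW_imK : qW.imK = tau / 2 := rfl

theorem qI_sq : qI * qI = -1 := by
  ext <;> simp

theorem qW_sq : qW * qW = qW - 1 := by
  ext <;> simp [sig_eq] <;> nlinarith [tau_sq]

theorem qW_qI : qW * qI = (tau - 1) • (1 : ℍ[ℝ]) + qI - qI * qW := by
  ext <;> simp [sig_eq] <;> ring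

/-- The icosian with given coordinates. -/
noncomputable def E (x : Ico) : ℍ[ℝ] := evA tau qI qW x

theorem E_add (x y : Ico) : E (x.add y) = E x + E y := evA_add x y
theorem E_sub (x y : Ico) : E (x.sub y) = E x - E y := evA_sub x y
theorem E_neg (x : Ico) : E x.neg = -E x := evA_neg x
theorem E_mul (x y : Ico) : E (x.mul y) = E x * E y := evA_mul tau_sq qI_sq qW_sq qW_qI x y

theorem E_zero : E Ico.zero = 0 := by simp [E, evA, evT, Ico.zero]
theorem E_one : E Ico.one = 1 := by simp [E, evA, evT, Ico.one]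

/-- Doubled quaternion components. -/
noncomputable def Ico.dbl (x : Ico) : Zt × Zt × Zt × Zt :=
  ((x.x0.add x.x0).add (x.x2.add x.x3.muT), ((x.x1.add x.x1).sub x.x2.muT).add x.x3,
    (x.x3.add x.x3.muT).neg, x.x2.add x.x2.muT)

theorem E_dbl (x : Ico) : 2 * (E x).re = evT tau x.dbl.1 ∧ 2 * (E x).imI = evT tau x.dbl.2.1 ∧
    2 * (E x).imJ = evT tau x.dbl.2.2.1 ∧ 2 * (E x).imK = evT tau x.dbl.2.2.2 := by
  simp only [Ico.dbl, evT_add, evT_sub, evT_neg, evT_muT tau_sq, E, evA]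
  refine ⟨?_, ?_, ?_, ?_⟩ <;> simp [sig_eq] <;> ring

theorem evT_tau_eq_zero {x : Zt} (h : evT tau x = 0) : x = ⟨0, 0⟩ := by
  have irr : Irrational (Real.sqrt 5) := by
    simpa using Nat.Prime.irrational_sqrt (show Nat.Prime 5 by norm_num)
  have h2 : ((2 * x.a + x.b : ℤ) : ℝ) + (x.b : ℤ) * Real.sqrt 5 = 0 := by
    simp only [evT, tau] at h; push_cast; linarith
  by_cases hb : x.b = 0
  · rw [hb] at h2
    have : x.a = 0 := by
      have : ((2 * x.a : ℤ) : ℝ) = 0 := by push_cast at h2 ⊢; simpa using h2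
      have h3 : (2 * x.a : ℤ) = 0 := by exact_mod_cast this
      omega
    cases x; simp_all
  · exact absurd h2 (((irr.intCast_mul hb).intCast_add _).ne_zero)

theorem evT_tau_inj {x y : Zt} (h : evT tau x = evT tau y) : x = y := by
  have := evT_tau_eq_zero (x := x.sub y) (by rw [evT_sub, h, sub_self])
  simp only [Zt.sub, Zt.mk.injEq] at this
  obtain ⟨a, b⟩ := x; obtain ⟨c, d⟩ := y
  simp only [Zt.mk.injEq]; simp only at this; omega

theorem dbl_injective : Function.Injective Ico.dbl := by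
  intro x y h
  obtain ⟨⟨_, _⟩, ⟨_, _⟩, ⟨_, _⟩, ⟨_, _⟩⟩ := x
  obtain ⟨⟨_, _⟩, ⟨_, _⟩, ⟨_, _⟩, ⟨_, _⟩⟩ := y
  simp only [Ico.dbl, Zt.add, Zt.sub, Zt.neg, Zt.muT, Prod.mk.injEq, Zt.mk.injEq] at h
  simp only [Ico.mk.injEq, Zt.mk.injEq]
  omega

theorem E_injective : Function.Injective E := by
  intro x y h
  obtain ⟨a0, a1, a2, a3⟩ := E_dbl x
  obtain ⟨b0, b1, b2, b3⟩ := E_dbl y
  rw [h] at a0 a1 a2 a3
  refine dbl_injective (Prod.ext (evT_tau_inj (a0.symm.trans b0)) (Prod.ext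
    (evT_tau_inj (a1.symm.trans b1)) (Prod.ext (evT_tau_inj (a2.symm.trans b2))
    (evT_tau_inj (a3.symm.trans b3)))))

theorem E_conj (x : Ico) : E x.conj = star (E x) := by
  simp only [E, evA, Ico.conj, evT_add, evT_neg, evT_muT tau_sq]
  ext <;> simp [sig_eq] <;> ring

theorem E_mem (x : Ico) : E x ∈ icosians := by
  have hI : qI ∈ icosians := Subring.subset_closure (Or.inl rfl)
  have hW : qW ∈ icosians := Subring.subset_closure (Or.inr rfl)
  have ht : tau • (1 : ℍ[ℝ]) ∈ icosians := by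
    have : tau • (1 : ℍ[ℝ]) = qW * qI + qI * qW - qI + 1 := by rw [qW_qI]; module
    rw [this]
    exact add_mem (sub_mem (add_mem (mul_mem hW hI) (mul_mem hI hW)) hI) (one_mem _)
  have hz : ∀ (z : Zt) {q : ℍ[ℝ]}, q ∈ icosians → evT tau z • q ∈ icosians := by
    intro z q hq
    have : evT tau z • q = z.a • q + z.b • (tau • (1 : ℍ[ℝ]) * q) := by
      rw [smul_one_mul, evT, add_smul, mul_smul, Int.cast_smul_eq_zsmul, Int.cast_smul_eq_zsmul]
    rw [this]
    exact add_mem (zsmul_mem hq _) (zsmul_mem (mul_mem ht hq) _)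
  exact add_mem (add_mem (add_mem (hz _ (one_mem _)) (hz _ hI)) (hz _ hW)) (hz _ (mul_mem hI hW))

theorem mem_icosians_iff {q : ℍ[ℝ]} : q ∈ icosians ↔ ∃ x, E x = q := by
  refine ⟨fun h => ?_, fun ⟨x, hx⟩ => hx ▸ E_mem x⟩
  refine Subring.closure_induction ?_ ⟨_, E_zero⟩ ⟨_, E_one⟩ ?_ ?_ ?_ h
  · rintro y (rfl | rfl)
    · exact ⟨⟨⟨0, 0⟩, ⟨1, 0⟩, ⟨0, 0⟩, ⟨0, 0⟩⟩, by simp [E, evA, evT]⟩
    · exact ⟨⟨⟨0, 0⟩, ⟨0, 0⟩, ⟨1, 0⟩, ⟨0, 0⟩⟩, (show E _ = qW by simp [E, evA, evT])⟩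
  · rintro _ _ _ _ ⟨a, rfl⟩ ⟨b, rfl⟩; exact ⟨_, E_add a b⟩
  · rintro _ _ ⟨a, rfl⟩; exact ⟨_, E_neg a⟩
  · rintro _ _ _ _ ⟨a, rfl⟩ ⟨b, rfl⟩; exact ⟨_, E_mul a b⟩

end Cfsg.Agent.Compute.J2
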