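import Mathlib

/-!
Groups with the element orders {1, 2, 3, 4, 5, 6, 7, 8, 10, 12, 15}: the symmetric group of degree 8
and the extensions of powers of the six-dimensional binary module by the alternating group of degree 8.
-/

set_option autoImplicit false

namespace Cfsg.Agent.Compute.J2.IsoSpectral

/-- The list of element orders. -/
abbrev orders : List ℕ := [1, 2, 3, 4, 5, 6, 7, 8, 10, 12, 15]

abbrev P8 : Type := Equiv.Perm (Fin 8)

/-- The order of a permutation from its partition. -/
theorem orderOf_eq_lcm (σ : P8) : orderOf σ = σ.partition.parts.lcm := by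
  rw [← Equiv.Perm.lcm_cycleType, Equiv.Perm.parts_partition, Multiset.lcm_add]
  have h : (Multiset.replicate (Fintype.card (Fin 8) - σ.support.card) 1).lcm ∣ 1 :=
    Multiset.lcm_dvd.2 fun b hb => by rw [Multiset.eq_of_mem_replicate hb]
  rw [Nat.dvd_one.1 h, lcm_one_right]
  simp

/-- All compositions of `n`, with enough fuel. -/
def comps : ℕ → ℕ → List (List ℕ)
  | 0, n => if n = 0 then [[]] else []
  | fuel + 1, n =>
    (if n = 0 then [[]] else []) ++
      (List.range n).flatMap fun k => (comps fuel (n - (k + 1))).map ((k + 1) :: ·)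

theorem mem_comps : ∀ (fuel : ℕ) (l : List ℕ), l.length ≤ fuel → (∀ x ∈ l, 0 < x) →
    l ∈ comps fuel l.sum := by
  intro fuel
  induction fuel with
  | zero =>
    intro l hl _
    obtain rfl : l = [] := List.length_eq_zero_iff.1 (by omega)
    simp [comps]
  | succ f ih =>
    intro l hl hp
    cases l with
    | nil => simp [comps]
    | cons a t =>
      have ha := hp a List.mem_cons_self
      simp only [comps, List.mem_append, List.mem_flatMap, List.mem_map, List.mem_range,
        List.sum_cons]
      refine Or.inr ⟨a - 1, by omega, t, ?_, by congr 1; omega⟩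
      rw [show a + t.sum - (a - 1 + 1) = t.sum by omega]
      exact ih t (by simpa using hl) fun x hx => hp x (List.mem_cons_of_mem _ hx)

theorem partition_case (P : Multiset ℕ → Prop)
    (h : ∀ l ∈ comps 8 8, P (↑l : Multiset ℕ)) (p : Nat.Partition 8) : P p.parts := by
  obtain ⟨parts, hpos, hsum⟩ := p
  induction parts using Quotient.inductionOn with
  | h l =>
    have hs : l.sum = 8 := by simpa using hsum
    have hlen : ∀ l : List ℕ, (∀ x ∈ l, 0 < x) → l.length ≤ l.sum := by
      intro l
      induction l with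
      | nil => simp
      | cons a t ih =>
        intro hp
        have := hp a List.mem_cons_self
        have := ih fun x hx => hp x (List.mem_cons_of_mem _ hx)
        simp only [List.length_cons, List.sum_cons]; omega
    refine h l ?_
    have := mem_comps 8 l (hs ▸ hlen l fun x hx => hpos hx) fun x hx => hpos hx
    rwa [hs] at this

theorem partition_orders (p : Nat.Partition 8) : p.parts.lcm ∈ orders :=
  partition_case (fun m => m.lcm ∈ orders) (by decide +kernel) p

theorem partition_even (p : Nat.Partition 8) (h : Multiset.card p.parts % 2 = 0) :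
    p.parts.lcm ∈ [1, 2, 3, 4, 5, 6, 7, 15] :=
  partition_case (fun m => Multiset.card m % 2 = 0 → m.lcm ∈ [1, 2, 3, 4, 5, 6, 7, 15])
    (by decide +kernel) p h

theorem partition_seven (p : Nat.Partition 8) (h : p.parts.lcm = 7) :
    p.parts.filter (2 ≤ ·) = {7} :=
  partition_case (fun m => m.lcm = 7 → m.filter (2 ≤ ·) = {7}) (by decide +kernel) p h

theorem partition_fifteen (p : Nat.Partition 8) (h : p.parts.lcm = 15) :
    p.parts.filter (2 ≤ ·) = {5, 3} :=
  partition_case (fun m => m.lcm = 15 → m.filter (2 ≤ ·) = {5, 3}) (by decide +kernel) p h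

theorem cycleType_eq_filter (σ : P8) : σ.cycleType = σ.partition.parts.filter (2 ≤ ·) :=
  (Equiv.Perm.filter_parts_partition_eq_cycleType).symm

theorem orderOf_even {σ : P8} (h : Equiv.Perm.sign σ = 1) :
    orderOf σ ∈ [1, 2, 3, 4, 5, 6, 7, 15] := by
  rw [orderOf_eq_lcm]
  refine partition_even _ ?_
  rw [Equiv.Perm.sign_of_cycleType] at h
  have he : Even (σ.cycleType.sum + Multiset.card σ.cycleType) := by
    rcases Nat.even_or_odd (σ.cycleType.sum + Multiset.card σ.cycleType) with he | ho
    · exact he
    · rw [ho.neg_one_pow] at h; exact absurd h (by decide)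
  rw [Equiv.Perm.parts_partition, Multiset.card_add, Multiset.card_replicate, Fintype.card_fin]
  have hs : σ.cycleType.sum = σ.support.card := σ.sum_cycleType
  have hle : σ.support.card ≤ 8 := le_trans (Finset.card_le_univ _) (by simp)
  obtain ⟨k, hk⟩ := he
  omega

theorem orderOf_mem (σ : P8) : orderOf σ ∈ orders := by
  rw [orderOf_eq_lcm]; exact partition_orders _

theorem orderOf_eq_of {σ : P8} {k : ℕ} (hk : 0 < k) (h1 : σ ^ k = 1)
    (h2 : ∀ m < k, 0 < m → σ ^ m ≠ 1) : orderOf σ = k :=
  (orderOf_eq_iff hk).2 ⟨h1, h2⟩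

def c2 : P8 := [0, 1].formPerm
def c22 : P8 := [0, 1].formPerm * [2, 3].formPerm
def c3 : P8 := [0, 1, 2].formPerm
def c4 : P8 := [0, 1, 2, 3].formPerm
def c42 : P8 := [0, 1, 2, 3].formPerm * [4, 5].formPerm
def c5 : P8 := [0, 1, 2, 3, 4].formPerm
def c6 : P8 := [0, 1, 2, 3, 4, 5].formPerm
def c322 : P8 := [0, 1, 2].formPerm * ([3, 4].formPerm * [5, 6].formPerm)
def c7 : P8 := [0, 1, 2, 3, 4, 5, 6].formPerm
def c8 : P8 := [0, 1, 2, 3, 4, 5, 6, 7].formPerm
def c52 : P8 := [0, 1, 2, 3, 4].formPerm * [5, 6].formPerm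
def c43 : P8 := [0, 1, 2, 3].formPerm * [4, 5, 6].formPerm
def c53 : P8 := [0, 1, 2, 3, 4].formPerm * [5, 6, 7].formPerm

theorem range_orderOf_P8 : Set.range (orderOf : P8 → ℕ) = {n | n ∈ orders} := by
  ext n
  constructor
  · rintro ⟨σ, rfl⟩; exact orderOf_mem σ
  · intro hn
    simp only [orders, Set.mem_ofPred_eq, List.mem_cons, List.not_mem_nil, or_false] at hn
    rcases hn with rfl | rfl | rfl | rfl | rfl | rfl | rfl | rfl | rfl | rfl | rfl
    · exact ⟨1, orderOf_one⟩
    · exact ⟨c2, orderOf_eq_of (by norm_num) (by decide +kernel) (by decide +kernel)⟩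
    · exact ⟨c3, orderOf_eq_of (by norm_num) (by decide +kernel) (by decide +kernel)⟩
    · exact ⟨c4, orderOf_eq_of (by norm_num) (by decide +kernel) (by decide +kernel)⟩
    · exact ⟨c5, orderOf_eq_of (by norm_num) (by decide +kernel) (by decide +kernel)⟩
    · exact ⟨c6, orderOf_eq_of (by norm_num) (by decide +kernel) (by decide +kernel)⟩
    · exact ⟨c7, orderOf_eq_of (by norm_num) (by decide +kernel) (by decide +kernel)⟩
    · exact ⟨c8, orderOf_eq_of (by norm_num) (by decide +kernel) (by decide +kernel)⟩
    · exact ⟨c52, orderOf_eq_of (by norm_num) (by decide +kernel) (by decide +kernel)⟩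
    · exact ⟨c43, orderOf_eq_of (by norm_num) (by decide +kernel) (by decide +kernel)⟩
    · exact ⟨c53, orderOf_eq_of (by norm_num) (by decide +kernel) (by decide +kernel)⟩

/-! ### Extensions -/

/-- The heart of the permutation module, as functions on pairs. -/
def heart : AddSubgroup (Fin 8 → Fin 8 → ZMod 2) where
  carrier := {w | ∃ f : Fin 8 → ZMod 2, ∑ i, f i = 0 ∧ ∀ i j, w i j = f i + f j}
  zero_mem' := ⟨0, by simp, by simp⟩
  add_mem' := by
    rintro u w ⟨f, hf, hu⟩ ⟨g, hg, hw⟩
    refine ⟨f + g, by simp [Finset.sum_add_distrib, hf, hg], fun i j => ?_⟩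
    simp only [Pi.add_apply, hu, hw]; ring
  neg_mem' := by
    rintro u ⟨f, hf, hu⟩
    refine ⟨-f, by simp [hf], fun i j => ?_⟩
    simp only [Pi.neg_apply, hu]; ring

abbrev A8 : Type := alternatingGroup (Fin 8)

/-- Action of a permutation on the heart. -/
def act (g : A8) (w : heart) : heart :=
  ⟨fun i j => w.1 (g.1⁻¹ i) (g.1⁻¹ j), by
    obtain ⟨f, hf, hw⟩ := w.2
    exact ⟨fun i => f (g.1⁻¹ i), (Equiv.sum_comp g.1⁻¹ f).trans hf, fun i j => hw _ _⟩⟩

theorem act_add (g : A8) (u w : heart) : act g (u + w) = act g u + act g w := rfl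

theorem act_one (w : heart) : act 1 w = w := rfl

theorem act_mul (g h : A8) (w : heart) : act (g * h) w = act g (act h w) := by
  apply Subtype.ext; funext i j
  show w.1 _ _ = w.1 _ _
  simp [mul_inv_rev]

/-- The module: `n` copies of the heart. -/
abbrev Mod (n : ℕ) : Type := Fin n → heart

/-- The diagonal action. -/
def actEquiv (n : ℕ) (g : A8) : Mod n ≃+ Mod n where
  toFun v k := act g (v k)
  invFun v k := act g⁻¹ (v k)
  left_inv v := by
    funext k
    show act g⁻¹ (act g (v k)) = v k
    rw [← act_mul, inv_mul_cancel, act_one]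
  right_inv v := by
    funext k
    show act g (act g⁻¹ (v k)) = v k
    rw [← act_mul, mul_inv_cancel, act_one]
  map_add' _ _ := rfl

/-- The action homomorphism. -/
def actHom (n : ℕ) : A8 →* MulAut (Multiplicative (Mod n)) where
  toFun g := AddEquiv.toMultiplicative (actEquiv n g)
  map_one' := rfl
  map_mul' g h := by
    apply MulEquiv.ext
    intro v
    exact congrArg Multiplicative.ofAdd (funext fun k => act_mul g h (v.toAdd k))

/-- The extension of the module by A8. -/
abbrev Ext (n : ℕ) : Type := SemidirectProduct (Multiplicative (Mod n)) A8 (actHom n)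

theorem pow_left (n : ℕ) (x : Ext n) (m : ℕ) (k : Fin n) (i j : Fin 8) :
    (((x ^ m).left.toAdd) k).1 i j =
      ∑ t ∈ Finset.range m, ((x.left.toAdd) k).1 ((x.right.1 ^ t)⁻¹ i) ((x.right.1 ^ t)⁻¹ j) := by
  induction m with
  | zero => simp
  | succ d ih =>
    rw [pow_succ, Finset.sum_range_succ, ← ih, SemidirectProduct.mul_left, toAdd_mul]
    have hr : (x ^ d).right = x.right ^ d :=
      map_pow (SemidirectProduct.rightHom (φ := actHom n)) x d
    rw [hr]
    rfl

theorem pow_right (n : ℕ) (x : Ext n) (m : ℕ) : (x ^ m).right = x.right ^ m :=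
  map_pow (SemidirectProduct.rightHom (φ := actHom n)) x m

theorem cycleType_c7 : c7.cycleType = {7} := by
  have h : orderOf c7 = 7 :=
    orderOf_eq_of (by norm_num) (by decide +kernel) (by decide +kernel)
  rw [orderOf_eq_lcm] at h
  rw [cycleType_eq_filter, partition_seven _ h]

theorem cycleType_c53 : c53.cycleType = {5, 3} := by
  have h : orderOf c53 = 15 :=
    orderOf_eq_of (by norm_num) (by decide +kernel) (by decide +kernel)
  rw [orderOf_eq_lcm] at h
  rw [cycleType_eq_filter, partition_fifteen _ h]

theorem two_eq_zero : (2 : ZMod 2) = 0 := rfl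

/-- Fixed vectors of elements of order 7 or 15 vanish. -/
theorem fixed_eq_zero {g : A8} (ho : orderOf g.1 = 7 ∨ orderOf g.1 = 15) {w : heart}
    (hw : act g w = w) : w = 0 := by
  obtain ⟨f, hf, hfw⟩ := w.2
  have hfix : ∀ i, f (g.1⁻¹ i) = f i := by
    have hc : ∀ i j, f (g.1⁻¹ i) + f (g.1⁻¹ j) = f i + f j := fun i j => by
      rw [← hfw, ← hfw]; exact congrFun (congrFun (congrArg Subtype.val hw) i) j
    intro i
    have hstep : ∀ k : ℕ, ∀ j, f ((g.1⁻¹ ^ k) j) = f j + (k : ZMod 2) * (f (g.1⁻¹ i) + f i) := by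
      intro k
      induction k with
      | zero => simp
      | succ d ih =>
        intro j
        rw [pow_succ', Equiv.Perm.mul_apply]
        have := hc ((g.1⁻¹ ^ d) j) i
        rw [Nat.cast_succ, add_mul, one_mul, ← add_assoc, ← ih j]
        linear_combination (norm := (ring_nf; simp [two_eq_zero])) this
    have h := hstep (orderOf g.1) i
    rw [inv_pow, pow_orderOf_eq_one] at h
    have hodd : ((orderOf g.1 : ℕ) : ZMod 2) = 1 := by
      rcases ho with e | e <;> rw [e] <;> decide
    rw [hodd, one_mul] at h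
    simp only [inv_one, Equiv.Perm.one_apply] at h
    linear_combination (norm := (ring_nf; simp [two_eq_zero])) h
  have key : ∀ τ : P8, τ.cycleType = g.1.cycleType →
      (∀ f : Fin 8 → ZMod 2, ∑ i, f i = 0 → (∀ i, f (τ i) = f i) → ∀ i, f i = f 0) →
      ∀ i, f i = f 0 := by
    intro τ hτ hcase
    obtain ⟨c, hcτ⟩ := isConj_iff.1 (Equiv.Perm.isConj_iff_cycleType_eq.2 hτ)
    have hall := hcase (fun i => f (c i)) ((Equiv.sum_comp c f).trans hf) fun i => by
      have e : c (τ i) = g.1 (c i) := by rw [← hcτ]; simp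
      show f (c (τ i)) = f (c i)
      rw [e, ← hfix (g.1 (c i)), show g.1⁻¹ (g.1 (c i)) = c i from g.1.symm_apply_apply _]
    intro i
    have h1 := hall (c⁻¹ i)
    have h2 := hall (c⁻¹ 0)
    simp only [show ∀ z, c (c⁻¹ z) = z from c.apply_symm_apply] at h1 h2
    rw [h1, h2]
  have hconst : ∀ i, f i = f 0 := by
    rcases ho with e | e <;> rw [orderOf_eq_lcm] at e
    · refine key c7 ?_ (by decide +kernel)
      rw [cycleType_c7, cycleType_eq_filter, partition_seven _ e]
    · refine key c53 ?_ (by decide +kernel)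
      rw [cycleType_c53, cycleType_eq_filter, partition_fifteen _ e]
  apply Subtype.ext; funext i j
  rw [hfw, hconst i, hconst j]
  exact CharTwo.add_self_eq_zero _

theorem left_sq (n : ℕ) (u : Multiplicative (Mod n)) : u * u = 1 := by
  apply Multiplicative.toAdd.injective
  funext k; apply Subtype.ext; funext i j
  show (u.toAdd k).1 i j + (u.toAdd k).1 i j = 0
  exact CharTwo.add_self_eq_zero _

theorem orderOf_ext (n : ℕ) (x : Ext n) : orderOf x = orderOf x.right.1 ∨
    (orderOf x = 2 * orderOf x.right.1 ∧ orderOf x.right.1 ≠ 7 ∧ orderOf x.right.1 ≠ 15) := by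
  have horder : orderOf x.right.1 = orderOf x.right := Subgroup.orderOf_coe _
  have hd : orderOf x.right ∣ orderOf x := orderOf_map_dvd (SemidirectProduct.rightHom (φ := actHom n)) x
  by_cases hone : x ^ orderOf x.right = 1
  · left
    rw [horder]
    exact Nat.dvd_antisymm (orderOf_dvd_of_pow_eq_one hone) hd
  · right
    have hr : (x ^ orderOf x.right).right = 1 := by rw [pow_right, pow_orderOf_eq_one]
    have hsq : x ^ (2 * orderOf x.right) = 1 := by
      rw [mul_comm, pow_mul, pow_two]
      refine SemidirectProduct.ext ?_ ?_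
      · rw [SemidirectProduct.mul_left, hr, map_one, MulAut.one_apply, left_sq]; rfl
      · rw [SemidirectProduct.mul_right, hr, one_mul]; rfl
    refine ⟨?_, ?_⟩
    · rw [horder]
      obtain ⟨c, hc⟩ := hd
      have hdv := orderOf_dvd_of_pow_eq_one hsq
      have hpos : 0 < orderOf x.right := orderOf_pos _
      rw [hc, mul_comm 2] at hdv
      have hc2 : c ∣ 2 := Nat.dvd_of_mul_dvd_mul_left hpos hdv
      have hne : c ≠ 1 := by
        rintro rfl
        rw [mul_one] at hc
        exact hone (hc ▸ pow_orderOf_eq_one x)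
      rcases (Nat.dvd_prime Nat.prime_two).1 hc2 with rfl | rfl
      · exact absurd rfl hne
      · rw [hc, mul_comm]
    · have hnot : ∀ q, q = 7 ∨ q = 15 → orderOf x.right.1 ≠ q := by
        intro q hq e
        apply hone
        have hfix : ∀ k, act x.right ((x ^ orderOf x.right).left.toAdd k) =
            (x ^ orderOf x.right).left.toAdd k := fun k => by
          have h := congrArg (fun y : Ext n => y.left.toAdd k)
            ((Commute.refl x).pow_right (orderOf x.right)).eq
          simp only [SemidirectProduct.mul_left, hr, map_one, MulAut.one_apply, toAdd_mul,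
            Pi.add_apply] at h
          have h' : x.left.toAdd k + act x.right ((x ^ orderOf x.right).left.toAdd k) =
              (x ^ orderOf x.right).left.toAdd k + x.left.toAdd k := h
          rw [add_comm] at h'
          exact add_right_cancel h'
        refine SemidirectProduct.ext ?_ hr
        apply Multiplicative.toAdd.injective
        funext k
        exact fixed_eq_zero (g := x.right) (by rcases hq with rfl | rfl <;> simp [e]) (hfix k)
      exact ⟨hnot 7 (Or.inl rfl), hnot 15 (Or.inr rfl)⟩

theorem orderOf_ext_mem (n : ℕ) (x : Ext n) : orderOf x ∈ orders := by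
  have he := orderOf_even (σ := x.right.1) x.right.2
  simp only [List.mem_cons, List.not_mem_nil, or_false] at he
  rcases orderOf_ext n x with h | ⟨h, h7, h15⟩
  · rw [h]
    rcases he with e | e | e | e | e | e | e | e <;> rw [e] <;> decide
  · rw [h]
    rcases he with e | e | e | e | e | e | e | e <;>
      first
        | exact absurd e h7
        | exact absurd e h15
        | (rw [e]; decide)

/-- Indicator of two points, an even function. -/
def pairFun (a b : Fin 8) : Fin 8 → ZMod 2 := fun i => if i = a ∨ i = b then 1 else 0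

def pairVec (a b : Fin 8) (h : ∑ i, pairFun a b i = 0) : heart :=
  ⟨fun i j => pairFun a b i + pairFun a b j, pairFun a b, h, fun _ _ => rfl⟩

/-- An element of twice the order of its image. -/
theorem exists_double {n : ℕ} (hn : 0 < n) (g : P8) (hg : Equiv.Perm.sign g = 1) (o : ℕ)
    (ho : orderOf g = o) (w : heart) (a b : Fin 8)
    (hw : ∑ t ∈ Finset.range o, w.1 ((g ^ t)⁻¹ a) ((g ^ t)⁻¹ b) = 1) :
    ∃ x : Ext n, orderOf x = 2 * o := by
  refine ⟨⟨Multiplicative.ofAdd (fun _ => w), ⟨g, hg⟩⟩, ?_⟩
  rcases orderOf_ext n ⟨Multiplicative.ofAdd (fun _ => w), ⟨g, hg⟩⟩ with h | h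
  · exfalso
    have hp := pow_left n ⟨Multiplicative.ofAdd (fun _ => w), ⟨g, hg⟩⟩ o ⟨0, hn⟩ a b
    have h1 : (⟨Multiplicative.ofAdd (fun _ => w), ⟨g, hg⟩⟩ : Ext n) ^ o = 1 := by
      rw [← ho]; exact h ▸ pow_orderOf_eq_one _
    rw [h1] at hp
    simp only [toAdd_ofAdd] at hp
    rw [hw] at hp
    exact absurd hp (by simp)
  · rw [h.1, ← ho]

theorem range_orderOf_ext {n : ℕ} (hn : 0 < n) :
    Set.range (orderOf : Ext n → ℕ) = {m | m ∈ orders} := by
  ext m
  refine ⟨?_, fun hm => ?_⟩
  · rintro ⟨x, rfl⟩; exact orderOf_ext_mem n x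
  · have base : ∀ g : P8, Equiv.Perm.sign g = 1 → ∃ x : Ext n, orderOf x = orderOf g := fun g hg =>
      ⟨SemidirectProduct.inr ⟨g, hg⟩, by
        rw [orderOf_injective _ SemidirectProduct.inr_injective, ← Subgroup.orderOf_coe]⟩
    simp only [orders, Set.mem_ofPred_eq, List.mem_cons, List.not_mem_nil, or_false] at hm
    rcases hm with rfl | rfl | rfl | rfl | rfl | rfl | rfl | rfl | rfl | rfl | rfl
    · exact ⟨1, orderOf_one⟩
    · obtain ⟨x, hx⟩ := base c22 (by decide +kernel)
      exact ⟨x, hx.trans (orderOf_eq_of (by norm_num) (by decide +kernel) (by decide +kernel))⟩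
    · obtain ⟨x, hx⟩ := base c3 (by decide +kernel)
      exact ⟨x, hx.trans (orderOf_eq_of (by norm_num) (by decide +kernel) (by decide +kernel))⟩
    · obtain ⟨x, hx⟩ := base c42 (by decide +kernel)
      exact ⟨x, hx.trans (orderOf_eq_of (by norm_num) (by decide +kernel) (by decide +kernel))⟩
    · obtain ⟨x, hx⟩ := base c5 (by decide +kernel)
      exact ⟨x, hx.trans (orderOf_eq_of (by norm_num) (by decide +kernel) (by decide +kernel))⟩
    · obtain ⟨x, hx⟩ := base c322 (by decide +kernel)
      exact ⟨x, hx.trans (orderOf_eq_of (by norm_num) (by decide +kernel) (by decide +kernel))⟩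
    · obtain ⟨x, hx⟩ := base c7 (by decide +kernel)
      exact ⟨x, hx.trans (orderOf_eq_of (by norm_num) (by decide +kernel) (by decide +kernel))⟩
    · exact exists_double hn c42 (by decide +kernel) 4
        (orderOf_eq_of (by norm_num) (by decide +kernel) (by decide +kernel))
        (pairVec 0 4 (by decide +kernel)) 0 4 (by decide +kernel)
    · exact exists_double hn c5 (by decide +kernel) 5
        (orderOf_eq_of (by norm_num) (by decide +kernel) (by decide +kernel))
        (pairVec 0 5 (by decide +kernel)) 0 6 (by decide +kernel)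
    · exact exists_double hn c322 (by decide +kernel) 6
        (orderOf_eq_of (by norm_num) (by decide +kernel) (by decide +kernel))
        (pairVec 0 3 (by decide +kernel)) 0 3 (by decide +kernel)
    · obtain ⟨x, hx⟩ := base c53 (by decide +kernel)
      exact ⟨x, hx.trans (orderOf_eq_of (by norm_num) (by decide +kernel) (by decide +kernel))⟩

theorem exists_large (N : ℕ) : ∃ (H : Type) (_ : Group H) (_ : Fintype H), N < Fintype.card H ∧
    Set.range (orderOf : H → ℕ) = {m | m ∈ orders} := by
  have : Finite (Ext (N + 1)) := Finite.of_equiv _ SemidirectProduct.equivProd.symm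
  letI := Fintype.ofFinite (Ext (N + 1))
  refine ⟨Ext (N + 1), inferInstance, inferInstance, ?_, range_orderOf_ext (Nat.succ_pos N)⟩
  have hc : Nat.card (Ext (N + 1)) = Nat.card heart ^ (N + 1) * Nat.card A8 := by
    rw [Nat.card_congr SemidirectProduct.equivProd, Nat.card_prod]
    congr 1
    show Nat.card (Mod (N + 1)) = _
    rw [Nat.card_pi, Finset.prod_const, Finset.card_univ, Fintype.card_fin]
  rw [← Nat.card_eq_fintype_card, hc]
  have h2 : 2 ≤ Nat.card heart := by
    have : Nontrivial heart := ⟨⟨0, pairVec 0 1 (by decide +kernel), fun e => by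
      have := congrFun (congrFun (congrArg Subtype.val e) 0) 2
      revert this; decide +kernel⟩⟩
    exact Finite.one_lt_card
  calc N < 2 ^ (N + 1) := (Nat.lt_two_pow_self).trans (Nat.pow_lt_pow_right one_lt_two (Nat.lt_succ_self N))
    _ ≤ Nat.card heart ^ (N + 1) := Nat.pow_le_pow_left h2 _
    _ ≤ _ := Nat.le_mul_of_pos_right _ Nat.card_pos

end Cfsg.Agent.Compute.J2.IsoSpectral
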