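import Cfsg.Agent.Compute.J2.Icosian
import Cfsg.Agent.Compute.MatRep

/-!
The icosian Leech lattice in coordinates: a free left module on three explicit vectors.
-/

set_option autoImplicit false

namespace Cfsg.Agent.Compute.J2

open Quaternion
open Cfsg.Spor (tau sig qI icosians icoH icoLeech leftIdeal qip qrefl)

/-- Parity test for an integer. -/
noncomputable def evenZ (a : ℤ) : Bool := Nat.beq (Nat.mod a.natAbs 2) 0

/-- All eight coordinates even. -/
noncomputable def Ico.even (x : Ico) : Bool :=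
  evenZ x.x0.a && evenZ x.x0.b && evenZ x.x1.a && evenZ x.x1.b &&
    evenZ x.x2.a && evenZ x.x2.b && evenZ x.x3.a && evenZ x.x3.b

noncomputable def Zt.half (x : Zt) : Zt := ⟨x.a / 2, x.b / 2⟩
noncomputable def Ico.half (x : Ico) : Ico := ⟨x.x0.half, x.x1.half, x.x2.half, x.x3.half⟩

theorem evenZ_iff (a : ℤ) : evenZ a = true ↔ a % 2 = 0 := by
  rw [evenZ, Nat.beq_eq]
  show a.natAbs % 2 = 0 ↔ _
  omega

theorem half_add_half {x : Ico} (h : x.even = true) : x.half.add x.half = x := by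
  obtain ⟨⟨_, _⟩, ⟨_, _⟩, ⟨_, _⟩, ⟨_, _⟩⟩ := x
  simp only [Ico.even, Bool.and_eq_true, evenZ_iff] at h
  simp only [Ico.half, Zt.half, Ico.add, Zt.add, Ico.mk.injEq, Zt.mk.injEq]
  omega

theorem even_add_self (x : Ico) : (x.add x).even = true := by
  simp only [Ico.even, Bool.and_eq_true, evenZ_iff, Ico.add, Zt.add]
  omega

theorem E_half {x : Ico} (h : x.even = true) : E x = E x.half + E x.half := by
  rw [← E_add, half_add_half h]

/-- h in coordinates. -/
noncomputable def cH : Ico := ⟨⟨2, -2⟩, ⟨1, 0⟩, ⟨-1, 1⟩, ⟨1, -1⟩⟩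

/-- The conjugate of h in coordinates. -/
noncomputable def cHb : Ico := ⟨⟨-1, 0⟩, ⟨-1, 0⟩, ⟨1, -1⟩, ⟨-1, 1⟩⟩

theorem cH_conj : cH.conj = cHb := by decide +kernel
theorem cH_norm : cH.mul cHb = Ico.one.add Ico.one := by decide +kernel
theorem cHb_norm : cHb.mul cH = Ico.one.add Ico.one := by decide +kernel

theorem E_cH : E cH = icoH := by
  have h5 : Real.sqrt 5 = 2 * tau - 1 := by unfold tau; ring
  have hs := tau_sq
  ext <;> simp [E, evA, evT, cH, icoH, sig_eq, h5] <;> nlinarith [hs]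

theorem E_cHb : E cHb = star icoH := by rw [← cH_conj, E_conj, E_cH]

theorem h_hb : E cH * E cHb = 2 := by
  rw [← E_mul, cH_norm, E_add, E_one]; norm_num

theorem hb_h : E cHb * E cH = 2 := by
  rw [← E_mul, cHb_norm, E_add, E_one]; norm_num

theorem two_ne_zeroQ : (2 : ℍ[ℝ]) ≠ 0 := by
  rw [← one_add_one_eq_two]
  intro e
  have := congrArg (fun q : ℍ[ℝ] => q.re) e
  simp at this

theorem mem_ideal_iff (a b : Ico) (hab : E a * E b = 2) (x : Ico) :
    E x ∈ leftIdeal (E a) ↔ (x.mul b).even = true := by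
  constructor
  · rintro ⟨q, hq, hx⟩
    obtain ⟨c, rfl⟩ := mem_icosians_iff.1 hq
    have : x.mul b = c.add c := E_injective (by
      rw [E_mul, hx, mul_assoc, hab, E_add, mul_two])
    rw [this]; exact even_add_self c
  · intro h
    refine ⟨_, E_mem (x.mul b).half, ?_⟩
    have h2 : E x * 2 = (E (x.mul b).half * E a) * 2 := by
      rw [mul_assoc]
      have h3 : E x * (E b * E a) = (E (x.mul b).half + E (x.mul b).half) * E a := by
        rw [← E_half h, E_mul, mul_assoc]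
      have hba : E b * E a = 2 := by
        have ha : E a ≠ 0 := by intro e; rw [e, zero_mul] at hab; exact two_ne_zeroQ hab.symm
        have hb : E b = (E a)⁻¹ * 2 := by rw [← hab, ← mul_assoc, inv_mul_cancel₀ ha, one_mul]
        rw [hb, mul_assoc, (Commute.ofNat_left 2 (E a)).eq, ← mul_assoc, inv_mul_cancel₀ ha,
          one_mul]
      rw [hba] at h3
      rw [h3, add_mul, mul_two, mul_add]
    exact mul_right_cancel₀ two_ne_zeroQ h2

/-- Coordinates of a vector in ℍ³. -/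
structure Vec where
  x : Ico
  y : Ico
  z : Ico
deriving DecidableEq

/-- The vector in ℍ³. -/
noncomputable def EV (v : Vec) : Fin 3 → ℍ[ℝ] := ![E v.x, E v.y, E v.z]

theorem EV_injective : Function.Injective EV := by
  intro v w h
  have h0 := E_injective (congrFun h 0)
  have h1 := E_injective (congrFun h 1)
  have h2 := E_injective (congrFun h 2)
  cases v; cases w; simp_all

noncomputable def Vec.add (v w : Vec) : Vec := ⟨v.x.add w.x, v.y.add w.y, v.z.add w.z⟩
noncomputable def Vec.sub (v w : Vec) : Vec := ⟨v.x.sub w.x, v.y.sub w.y, v.z.sub w.z⟩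
noncomputable def Vec.neg (v : Vec) : Vec := ⟨v.x.neg, v.y.neg, v.z.neg⟩
noncomputable def Vec.smul (a : Ico) (v : Vec) : Vec := ⟨a.mul v.x, a.mul v.y, a.mul v.z⟩
noncomputable def Vec.half (v : Vec) : Vec := ⟨v.x.half, v.y.half, v.z.half⟩

/-- Lattice membership in coordinates. -/
noncomputable def inL (v : Vec) : Bool :=
  ((v.x.sub v.y).mul cHb).even && ((v.y.sub v.z).mul cHb).even &&
    (((v.x.add v.y).add v.z).mul cH).even

/-- The Hermitian product in coordinates. -/
noncomputable def qipC (v r : Vec) : Ico :=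
  ((v.x.mul r.x.conj).add (v.y.mul r.y.conj)).add (v.z.mul r.z.conj)

/-- The reflection in coordinates. -/
noncomputable def reflC (r v : Vec) : Vec := v.sub (Vec.smul (qipC v r).half r)

theorem EV_add (v w : Vec) : EV (v.add w) = EV v + EV w := by
  funext t; fin_cases t <;> simp [EV, Vec.add, E_add]

theorem EV_sub (v w : Vec) : EV (v.sub w) = EV v - EV w := by
  funext t; fin_cases t <;> simp [EV, Vec.sub, E_sub]

theorem EV_neg (v : Vec) : EV v.neg = -EV v := by
  funext t; fin_cases t <;> simp [EV, Vec.neg, E_neg]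

theorem EV_smul (a : Ico) (v : Vec) : EV (Vec.smul a v) = fun t => E a * EV v t := by
  funext t; fin_cases t <;> simp [EV, Vec.smul, E_mul]

theorem qip_EV (v r : Vec) : qip (EV v) (EV r) = E (qipC v r) := by
  simp [qip, qipC, Fin.sum_univ_three, EV, E_add, E_mul, E_conj]

theorem EV_mem_iff (v : Vec) : EV v ∈ icoLeech ↔ inL v = true := by
  have hh : E cHb = star icoH := E_cHb
  simp only [inL, Bool.and_eq_true, ← mem_ideal_iff cH cHb h_hb, ← mem_ideal_iff cHb cH hb_h,
    E_sub, E_add, E_cH, hh]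
  simp only [icoLeech, Set.mem_setOf_eq, EV, Fin.isValue, Matrix.cons_val_zero, Matrix.cons_val_one,
    Matrix.cons_val]
  constructor
  · exact fun h => ⟨⟨h.2.1, h.2.2.1⟩, h.2.2.2⟩
  · refine fun h => ⟨?_, h.1.1, h.1.2, h.2⟩
    intro t; fin_cases t <;> exact E_mem _

theorem exists_EV {q : Fin 3 → ℍ[ℝ]} (h : q ∈ icoLeech) : ∃ v, inL v = true ∧ EV v = q := by
  obtain ⟨a, ha⟩ := mem_icosians_iff.1 (h.1 0)
  obtain ⟨b, hb⟩ := mem_icosians_iff.1 (h.1 1)
  obtain ⟨c, hc⟩ := mem_icosians_iff.1 (h.1 2)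
  have hq : EV ⟨a, b, c⟩ = q := by funext t; fin_cases t <;> simp [EV, ha, hb, hc]
  exact ⟨_, (EV_mem_iff _).1 (hq ▸ h), hq⟩

theorem inL_add {v w : Vec} (hv : inL v = true) (hw : inL w = true) : inL (v.add w) = true := by
  have key : ∀ (p q : ℍ[ℝ]) (r : ℍ[ℝ]), p ∈ leftIdeal r → q ∈ leftIdeal r →
      p + q ∈ leftIdeal r := by
    rintro _ _ r ⟨a, ha, rfl⟩ ⟨b, hb, rfl⟩; exact ⟨a + b, add_mem ha hb, (add_mul _ _ _).symm⟩
  rw [← EV_mem_iff] at hv hw ⊢
  rw [EV_add]
  refine ⟨fun t => add_mem (hv.1 t) (hw.1 t), ?_, ?_, ?_⟩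
  · convert key _ _ _ hv.2.1 hw.2.1 using 1; simp only [Pi.add_apply]; abel
  · convert key _ _ _ hv.2.2.1 hw.2.2.1 using 1; simp only [Pi.add_apply]; abel
  · convert key _ _ _ hv.2.2.2 hw.2.2.2 using 1; simp only [Pi.add_apply]; abel

theorem inL_smul (a : Ico) {v : Vec} (hv : inL v = true) : inL (Vec.smul a v) = true := by
  have key : ∀ (p : ℍ[ℝ]) (r : ℍ[ℝ]), p ∈ leftIdeal r → E a * p ∈ leftIdeal r := by
    rintro _ r ⟨b, hb, rfl⟩; exact ⟨E a * b, mul_mem (E_mem a) hb, (mul_assoc _ _ _).symm⟩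
  rw [← EV_mem_iff] at hv ⊢
  rw [EV_smul]
  refine ⟨fun t => mul_mem (E_mem a) (hv.1 t), ?_, ?_, ?_⟩
  · simp only [← mul_sub]; exact key _ _ hv.2.1
  · simp only [← mul_sub]; exact key _ _ hv.2.2.1
  · simp only [← mul_add]; exact key _ _ hv.2.2.2

/-- The three basis vectors. -/
noncomputable def g1 : Vec := ⟨cHb, cHb, cHb⟩
noncomputable def g2 : Vec := ⟨Ico.zero, cH, cH⟩
noncomputable def g3 : Vec := ⟨cH.neg, cH.neg, Ico.zero⟩

theorem g_mem : inL g1 = true ∧ inL g2 = true ∧ inL g3 = true := by decide +kernel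

/-- The combination with coefficients `d, b, c`. -/
noncomputable def comb (d b c : Ico) : Vec :=
  (((Vec.smul d g1).add (Vec.smul b g2))).add (Vec.smul c g3)

theorem exists_comb {v : Vec} (hv : inL v = true) : ∃ d b c, comb d b c = v := by
  obtain ⟨-, ⟨_, hb, eb⟩, ⟨_, hc, ec⟩, ⟨_, ha, ea⟩⟩ := (EV_mem_iff v).2 hv
  obtain ⟨b, rfl⟩ := mem_icosians_iff.1 hb
  obtain ⟨c, rfl⟩ := mem_icosians_iff.1 hc
  obtain ⟨a, rfl⟩ := mem_icosians_iff.1 ha
  simp only [EV, Fin.isValue, Matrix.cons_val_zero, Matrix.cons_val_one, Matrix.cons_val] at eb ec ea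
  rw [← E_cH] at eb ec
  rw [← E_cHb] at ea
  -- the congruences are `x - y = b h`, `y - z = c h`, `x + y + z = a h̄`
  refine ⟨a.add (((b.mul cH).sub v.x).mul cH), b.neg,
    c.neg, EV_injective ?_⟩
  have hy : E v.y = E v.x - E b * E cH := by rw [← eb]; abel
  have hz : E v.z = E v.x - E b * E cH - E c * E cH := by rw [← ec, ← eb]; abel
  simp only [comb, EV_add, EV_smul, E_add, E_mul, E_sub, E_neg]
  have hd : (E a + (E b * E cH - E v.x) * E cH) * E cHb = E v.x - E c * E cH := by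
    rw [add_mul, ← ea, mul_assoc, h_hb, mul_two, hy, hz]; abel
  funext t
  fin_cases t <;>
    simp [EV, g1, g2, g3, E_zero, E_neg, hd, hy, hz] <;>
    abel

end Cfsg.Agent.Compute.J2
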