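import Cfsg.Agent.Compute.J2.Enum

/-!
The group of left linear isometries of the icosian Leech lattice, and its faithful reduction modulo
the two primes above 11.
-/

set_option autoImplicit false

namespace Cfsg.Agent.Compute.J2

open Quaternion
open Cfsg.Spor (icoLeech qip)

abbrev M2 : Type := Matrix (Fin 2) (Fin 2) (ZMod 11)
abbrev M6 : Type := Matrix (Fin 6) (Fin 6) (ZMod 11)
abbrev M62 : Type := Matrix (Fin 6) (Fin 2) (ZMod 11)

/-- The two roots of t² = t + 1 modulo 11. -/
def rootT (s : Bool) : ZMod 11 := cond s 8 4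

def matI : M2 := !![0, 10; 1, 0]

/-- The reduction of ω. -/
def matW (s : Bool) : M2 := cond s !![5, 2; 6, 7] !![0, 9; 6, 1]

theorem rootT_sq (s : Bool) : rootT s * rootT s = rootT s + 1 := by cases s <;> decide +kernel
theorem matI_sq : matI * matI = -1 := by decide +kernel
theorem matW_sq (s : Bool) : matW s * matW s = matW s - 1 := by cases s <;> decide +kernel
theorem matW_matI (s : Bool) :
    matW s * matI = (rootT s - 1) • (1 : M2) + matI - matI * matW s := by
  cases s <;> decide +kernel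

/-- Transposed reduction of an icosian, an antihomomorphism. -/
def psi (s : Bool) (x : Ico) : M2 := (evA (rootT s) matI (matW s) x).transpose

theorem psi_add (s : Bool) (x y : Ico) : psi s (x.add y) = psi s x + psi s y := by
  rw [psi, evA_add, Matrix.transpose_add]; rfl

theorem psi_mul (s : Bool) (x y : Ico) : psi s (x.mul y) = psi s y * psi s x := by
  rw [psi, evA_mul (rootT_sq s) matI_sq (matW_sq s) (matW_matI s), Matrix.transpose_mul]; rfl

/-- The block index and inner index. -/
def blk (i : Fin 6) : Fin 3 := ⟨i / 2, by omega⟩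
def inn (i : Fin 6) : Fin 2 := ⟨i % 2, by omega⟩

def pick {α : Type} (t : Fin 3) (a b c : α) : α := ![a, b, c] t

/-- The index of entry `i` of block `t`. -/
def idx6 (t : Fin 3) (i : Fin 2) : Fin 6 := ⟨2 * t.1 + i.1, by omega⟩

theorem blk_idx6 : ∀ (t : Fin 3) (i : Fin 2), blk (idx6 t i) = t ∧ inn (idx6 t i) = i := by decide

/-- A lattice vector as a 6 × 2 column. -/
def col (s : Bool) (v : Vec) : M62 :=
  fun i j => psi s (pick (blk i) v.x v.y v.z) (inn i) j

/-- Three vectors as a 6 × 6 matrix. -/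
def frame (s : Bool) (u v w : Vec) : M6 :=
  fun i k => col s (pick (blk k) u v w) i (inn k)

theorem col_add (s : Bool) (v w : Vec) : col s (v.add w) = col s v + col s w := by
  funext i j
  rw [Matrix.add_apply]
  simp only [col, Vec.add]
  generalize blk i = t
  fin_cases t <;> simp [pick, psi_add]

theorem col_smul (s : Bool) (a : Ico) (v : Vec) : col s (Vec.smul a v) = col s v * psi s a := by
  funext i j
  rw [Matrix.mul_apply]
  simp only [col, Vec.smul]
  generalize blk i = t
  fin_cases t <;> simp [pick, psi_mul, Matrix.mul_apply]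

theorem col_comb (s : Bool) (u v w : Vec) (a b c : Ico) :
    col s (((Vec.smul a u).add (Vec.smul b v)).add (Vec.smul c w)) =
      frame s u v w * col s ⟨a, b, c⟩ := by
  rw [col_add, col_add, col_smul, col_smul, col_smul]
  funext i j
  simp only [Matrix.add_apply, Matrix.mul_apply, Fin.sum_univ_two, Fin.sum_univ_six]
  simp only [frame, col]
  simp [blk, inn, pick]
  ring

/-- Columns determine the frame. -/
theorem frame_eq (s : Bool) (M : M6) (u v w u' v' w' : Vec) (hu : col s u' = M * col s u)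
    (hv : col s v' = M * col s v) (hw : col s w' = M * col s w) :
    frame s u' v' w' = M * frame s u v w := by
  funext i k
  simp only [frame, Matrix.mul_apply]
  generalize blk k = t
  fin_cases t <;> simp [pick, hu, hv, hw, Matrix.mul_apply]

/-- The frame of the basis. -/
noncomputable def baseFrame (s : Bool) : M6 := frame s g1 g2 g3

/-- The four linear forms inverting the reduction. -/
theorem psi_eq_zero {s : Bool} {a b c d : ZMod 11}
    (h : a • (1 : M2) + b • matI + c • matW s + d • (matI * matW s) = 0) :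
    a = 0 ∧ b = 0 ∧ c = 0 ∧ d = 0 := by
  have h00 := congrFun (congrFun h 0) 0
  have h01 := congrFun (congrFun h 0) 1
  have h10 := congrFun (congrFun h 1) 0
  have h11 := congrFun (congrFun h 1) 1
  have hT : matI * matW s = cond s !![5, 4; 5, 2] !![5, 10; 0, 9] := by cases s <;> decide +kernel
  rw [hT] at h00 h01 h10 h11
  cases s
  · simp [matI, matW] at h00 h01 h10 h11
    refine ⟨?_, ?_, ?_, ?_⟩
    · linear_combination (norm := (ring_nf; reduce_mod_char)) 8 * h00 + 10 * h01 + 10 * h10 + 4 * h11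
    · linear_combination (norm := (ring_nf; reduce_mod_char)) 1 * h00 + 7 * h01 + 8 * h10 + 10 * h11
    · linear_combination (norm := (ring_nf; reduce_mod_char)) 9 * h00 + 8 * h01 + 8 * h10 + 2 * h11
    · linear_combination (norm := (ring_nf; reduce_mod_char)) 3 * h00 + 9 * h01 + 9 * h10 + 8 * h11
  · simp [matI, matW] at h00 h01 h10 h11
    refine ⟨?_, ?_, ?_, ?_⟩
    · linear_combination (norm := (ring_nf; reduce_mod_char)) 4 * h00 + 7 * h01 + 7 * h10 + 8 * h11
    · linear_combination (norm := (ring_nf; reduce_mod_char)) 4 * h00 + 3 * h01 + 4 * h10 + 7 * h11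
    · linear_combination (norm := (ring_nf; reduce_mod_char)) 10 * h00 + 4 * h01 + 4 * h10 + 1 * h11
    · linear_combination (norm := (ring_nf; reduce_mod_char)) 7 * h00 + 10 * h01 + 10 * h10 + 4 * h11

/-- Both reductions equal means congruence modulo 11. -/
theorem congr_of_psi {x y : Ico} (h : ∀ s, psi s x = psi s y) :
    ∃ e : Ico, ∀ q : Zt × Zt, q = ((x.sub y).x0, e.x0) ∨ q = ((x.sub y).x1, e.x1) ∨
      q = ((x.sub y).x2, e.x2) ∨ q = ((x.sub y).x3, e.x3) → q.1.a = 11 * q.2.a ∧ q.1.b = 11 * q.2.b := by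
  have hz : ∀ s, evT (rootT s) (x.sub y).x0 = 0 ∧ evT (rootT s) (x.sub y).x1 = 0 ∧
      evT (rootT s) (x.sub y).x2 = 0 ∧ evT (rootT s) (x.sub y).x3 = 0 := fun s => by
    refine psi_eq_zero (s := s) ?_
    show evA (rootT s) matI (matW s) (x.sub y) = 0
    rw [evA_sub, sub_eq_zero]
    exact Matrix.transpose_injective (h s)
  have key : ∀ z : Zt, evT (rootT true) z = 0 → evT (rootT false) z = 0 →
      (z.a = 11 * (z.a / 11) ∧ z.b = 11 * (z.b / 11)) := by
    intro z h8 h4
    simp only [evT, rootT, cond_true, cond_false] at h8 h4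
    have h1 : ((z.a + z.b * 8 : ℤ) : ZMod 11) = 0 := by push_cast; exact h8
    have h2 : ((z.a + z.b * 4 : ℤ) : ZMod 11) = 0 := by push_cast; exact h4
    rw [ZMod.intCast_zmod_eq_zero_iff_dvd] at h1 h2
    push_cast at h1 h2
    omega
  refine ⟨⟨⟨(x.sub y).x0.a / 11, (x.sub y).x0.b / 11⟩, ⟨(x.sub y).x1.a / 11, (x.sub y).x1.b / 11⟩,
    ⟨(x.sub y).x2.a / 11, (x.sub y).x2.b / 11⟩, ⟨(x.sub y).x3.a / 11, (x.sub y).x3.b / 11⟩⟩, ?_⟩
  obtain ⟨t0, t1, t2, t3⟩ := hz true
  obtain ⟨f0, f1, f2, f3⟩ := hz false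
  rintro q (rfl | rfl | rfl | rfl)
  · exact key _ t0 f0
  · exact key _ t1 f1
  · exact key _ t2 f2
  · exact key _ t3 f3

/-- Congruent short icosians are equal. -/
theorem eq_of_psi {x y : Ico} (h : ∀ s, psi s x = psi s y) (hx : tf x + tf y ≤ 120) : x = y := by
  obtain ⟨e, he⟩ := congr_of_psi h
  have h0 := he _ (Or.inl rfl)
  have h1 := he _ (Or.inr (Or.inl rfl))
  have h2 := he _ (Or.inr (Or.inr (Or.inl rfl)))
  have h3 := he _ (Or.inr (Or.inr (Or.inr rfl)))
  simp only at h0 h1 h2 h3
  have hpar : ∀ u v : Zt, qf (u.sub v) ≤ 2 * qf u + 2 * qf v := by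
    intro u v
    have := qf_nonneg (u.add v)
    simp only [qf, Zt.add, Zt.sub] at this ⊢
    nlinarith
  have hd : (x.sub y).dbl = (x.dbl.1.sub y.dbl.1, x.dbl.2.1.sub y.dbl.2.1,
      x.dbl.2.2.1.sub y.dbl.2.2.1, x.dbl.2.2.2.sub y.dbl.2.2.2) := by
    simp only [Ico.dbl, Ico.sub, Zt.add, Zt.sub, Zt.neg, Zt.muT, Prod.mk.injEq, Zt.mk.injEq]
    omega
  have hb : tf (x.sub y) ≤ 240 := by
    have := hpar x.dbl.1 y.dbl.1; have := hpar x.dbl.2.1 y.dbl.2.1
    have := hpar x.dbl.2.2.1 y.dbl.2.2.1; have := hpar x.dbl.2.2.2 y.dbl.2.2.2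
    unfold tf at hx ⊢
    rw [hd]; dsimp only; omega
  have hsc : tf (x.sub y) = 121 * tf e := by
    simp only [tf, qf, Ico.dbl, Zt.add, Zt.sub, Zt.neg, Zt.muT, h0.1, h0.2, h1.1, h1.2, h2.1, h2.2,
      h3.1, h3.2]
    ring
  have hn := tf_eq e
  have := tf_nonneg e
  have he0 : tf (x.sub y) = 0 := by omega
  have hz := eq_zero_of_tf he0
  apply E_injective
  rw [← sub_eq_zero, ← E_sub, hz, E_zero]

/-! ### The isometry group -/

/-- Coordinates of a lattice vector. -/
noncomputable def co (x : icoLeech) : Vec := Classical.choose (exists_EV x.2)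

theorem co_spec (x : icoLeech) : inL (co x) = true ∧ EV (co x) = x :=
  Classical.choose_spec (exists_EV x.2)

/-- The lattice vector with given coordinates. -/
noncomputable def mkL (v : Vec) (h : inL v = true) : icoLeech := ⟨EV v, (EV_mem_iff v).2 h⟩

theorem co_mkL (v : Vec) (h : inL v = true) : co (mkL v h) = v :=
  EV_injective (co_spec (mkL v h)).2

theorem co_injective : Function.Injective co := fun x y h =>
  Subtype.ext (by rw [← (co_spec x).2, h, (co_spec y).2])

theorem mkL_co (x : icoLeech) : mkL (co x) (co_spec x).1 = x := co_injective (co_mkL _ _)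

/-- Left linear isometries of the lattice. -/
def linGrp : Subgroup (Equiv.Perm icoLeech) where
  carrier := {f | (∀ (x y z : icoLeech) (a : Ico), co z = (Vec.smul a (co x)).add (co y) →
      co (f z) = (Vec.smul a (co (f x))).add (co (f y))) ∧
    ∀ x y : icoLeech, qipC (co (f x)) (co (f y)) = qipC (co x) (co y)}
  one_mem' := ⟨fun _ _ _ _ h => h, fun _ _ => rfl⟩
  mul_mem' := by
    intro f g hf hg
    exact ⟨fun x y z a h => hf.1 _ _ _ a (hg.1 x y z a h),
      fun x y => (hf.2 _ _).trans (hg.2 x y)⟩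
  inv_mem' := by
    intro f hf
    refine ⟨fun x y z a h => ?_, fun x y => ?_⟩
    · have hm : inL ((Vec.smul a (co (f⁻¹ x))).add (co (f⁻¹ y))) = true :=
        inL_add (inL_smul _ (co_spec _).1) (co_spec _).1
      have hw := hf.1 (f⁻¹ x) (f⁻¹ y) (mkL _ hm) a (co_mkL _ hm)
      simp only [show ∀ w, f (f⁻¹ w) = w from f.apply_symm_apply] at hw
      rw [← h] at hw
      rw [← co_injective hw, show ∀ w, f⁻¹ (f w) = w from f.symm_apply_apply, co_mkL]
    · have := hf.2 (f⁻¹ x) (f⁻¹ y)
      simpa only [show ∀ w, f (f⁻¹ w) = w from f.apply_symm_apply] using this.symm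

theorem g1_mem : inL g1 = true := g_mem.1
theorem g2_mem : inL g2 = true := g_mem.2.1
theorem g3_mem : inL g3 = true := g_mem.2.2

/-- Images of the basis. -/
noncomputable def im1 (f : Equiv.Perm icoLeech) : Vec := co (f (mkL g1 g1_mem))
noncomputable def im2 (f : Equiv.Perm icoLeech) : Vec := co (f (mkL g2 g2_mem))
noncomputable def im3 (f : Equiv.Perm icoLeech) : Vec := co (f (mkL g3 g3_mem))

theorem vec_add_zero (v : Vec) : v.add ⟨Ico.zero, Ico.zero, Ico.zero⟩ = v := by
  apply EV_injective; rw [EV_add]; funext t; fin_cases t <;> simp [EV, E_zero]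

theorem inL_zero : inL ⟨Ico.zero, Ico.zero, Ico.zero⟩ = true := by decide +kernel

theorem co_zero {f : Equiv.Perm icoLeech} (hf : f ∈ linGrp) :
    co (f (mkL _ inL_zero)) = ⟨Ico.zero, Ico.zero, Ico.zero⟩ := by
  have h := hf.1 (mkL _ inL_zero) (mkL _ inL_zero) (mkL _ inL_zero) Ico.one (by
    rw [co_mkL]; exact (vec_add_zero _).symm.trans (by decide +kernel))
  apply EV_injective
  have := congrArg EV h
  simp only [EV_add, EV_smul, E_one, one_mul] at this
  have h0 : EV (co (f (mkL _ inL_zero))) = 0 := by simpa using this.symm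
  rw [h0]; funext t; fin_cases t <;> simp [EV, E_zero]

/-- A left linear map is determined by the images of the basis. -/
theorem apply_comb {f : Equiv.Perm icoLeech} (hf : f ∈ linGrp) (d b c : Ico) (z : icoLeech)
    (hz : co z = comb d b c) :
    co (f z) = ((Vec.smul d (im1 f)).add (Vec.smul b (im2 f))).add (Vec.smul c (im3 f)) := by
  have hm1 : inL ((Vec.smul c g3).add ⟨Ico.zero, Ico.zero, Ico.zero⟩) = true :=
    inL_add (inL_smul _ g3_mem) inL_zero
  have hm2 : inL ((Vec.smul b g2).add ((Vec.smul c g3).add ⟨Ico.zero, Ico.zero, Ico.zero⟩)) = true :=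
    inL_add (inL_smul _ g2_mem) hm1
  have e1 := hf.1 (mkL g3 g3_mem) (mkL _ inL_zero) (mkL _ hm1) c (by simp only [co_mkL])
  have e2 := hf.1 (mkL g2 g2_mem) (mkL _ hm1) (mkL _ hm2) b (by simp only [co_mkL])
  have e3 := hf.1 (mkL g1 g1_mem) (mkL _ hm2) z d (by
    simp only [co_mkL, hz, comb]; apply EV_injective; simp only [EV_add]
    funext t; fin_cases t <;> simp [EV, E_zero] <;> abel)
  rw [e3, e2, e1, co_zero hf]
  apply EV_injective; simp only [EV_add, im1, im2, im3]
  funext t; fin_cases t <;> simp [EV, E_zero] <;> abel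

/-- Reduction of a map. -/
noncomputable def redM (s : Bool) (GI : M6) (f : Equiv.Perm icoLeech) : M6 :=
  frame s (im1 f) (im2 f) (im3 f) * GI

/-- Columns transform by the reduced matrix. -/
theorem col_apply {s : Bool} {GI : M6} (hGI : GI * baseFrame s = 1) {f : Equiv.Perm icoLeech}
    (hf : f ∈ linGrp) (z : icoLeech) : col s (co (f z)) = redM s GI f * col s (co z) := by
  obtain ⟨d, b, c, hc⟩ := exists_comb (co_spec z).1
  rw [apply_comb hf d b c z hc.symm, col_comb, ← hc, comb, col_comb, redM, Matrix.mul_assoc,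
    ← Matrix.mul_assoc GI, show GI * frame s g1 g2 g3 = 1 from hGI, Matrix.one_mul]

/-- The reduction as a homomorphism. -/
noncomputable def redHom (s : Bool) (GI : M6) (hGI : GI * baseFrame s = 1) : linGrp →* M6 where
  toFun f := redM s GI f.1
  map_one' := by
    show frame s (co (mkL g1 g1_mem)) (co (mkL g2 g2_mem)) (co (mkL g3 g3_mem)) * GI = 1
    rw [co_mkL, co_mkL, co_mkL]
    exact mul_eq_one_comm.1 hGI
  map_mul' f g := by
    show frame s _ _ _ * GI = redM s GI f.1 * (frame s _ _ _ * GI)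
    rw [frame_eq s (redM s GI f.1) (im1 g.1) (im2 g.1) (im3 g.1), Matrix.mul_assoc]
    · exact col_apply hGI f.2 _
    · exact col_apply hGI f.2 _
    · exact col_apply hGI f.2 _

theorem tf_im {f : Equiv.Perm icoLeech} (hf : f ∈ linGrp) {v : Vec} (hv : inL v = true) :
    tf (co (f (mkL v hv))).x + tf (co (f (mkL v hv))).y + tf (co (f (mkL v hv))).z =
      8 * (qipC v v).x0.a + 4 * (qipC v v).x0.b := by
  have h := hf.2 (mkL v hv) (mkL v hv)
  rw [co_mkL] at h
  rw [← h, tf_eq, tf_eq, tf_eq]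
  simp only [qipC, mul_conj, Ico.add, Zt.add]
  ring

theorem tf_bound : (8 * (qipC g1 g1).x0.a + 4 * (qipC g1 g1).x0.b ≤ 60) ∧
    (8 * (qipC g2 g2).x0.a + 4 * (qipC g2 g2).x0.b ≤ 60) ∧
    (8 * (qipC g3 g3).x0.a + 4 * (qipC g3 g3).x0.b ≤ 60) := by decide +kernel

/-- The two reductions together are faithful. -/
theorem eq_of_red {GI : Bool → M6} (hGI : ∀ s, GI s * baseFrame s = 1) {f g : linGrp}
    (h : ∀ s, redHom s (GI s) (hGI s) f = redHom s (GI s) (hGI s) g) : f = g := by
  have him : ∀ (v : Vec) (hv : inL v = true), 8 * (qipC v v).x0.a + 4 * (qipC v v).x0.b ≤ 60 →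
      co (f.1 (mkL v hv)) = co (g.1 (mkL v hv)) := by
    intro v hv hb
    have hc : ∀ s, col s (co (f.1 (mkL v hv))) = col s (co (g.1 (mkL v hv))) := fun s => by
      rw [col_apply (hGI s) f.2, col_apply (hGI s) g.2]
      exact congrArg (· * _) (h s)
    have p : ∀ t : Fin 3, ∀ s, psi s (pick t (co (f.1 (mkL v hv))).x (co (f.1 (mkL v hv))).y
        (co (f.1 (mkL v hv))).z) = psi s (pick t (co (g.1 (mkL v hv))).x (co (g.1 (mkL v hv))).y
        (co (g.1 (mkL v hv))).z) := by
      intro t s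
      funext i j
      have := congrFun (congrFun (hc s) (idx6 t i)) j
      simpa only [col, (blk_idx6 t i).1, (blk_idx6 t i).2] using this
    have tb := tf_im f.2 hv
    have tb' := tf_im g.2 hv
    have n1 := tf_nonneg (co (f.1 (mkL v hv))).x; have n2 := tf_nonneg (co (f.1 (mkL v hv))).y
    have n3 := tf_nonneg (co (f.1 (mkL v hv))).z; have m1 := tf_nonneg (co (g.1 (mkL v hv))).x
    have m2 := tf_nonneg (co (g.1 (mkL v hv))).y; have m3 := tf_nonneg (co (g.1 (mkL v hv))).z
    have e1 := eq_of_psi (p 0) (by simp only [pick, Matrix.cons_val_zero]; omega)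
    have e2 := eq_of_psi (p 1) (by simp only [pick, Matrix.cons_val_one, Matrix.cons_val_zero]; omega)
    have e3 := eq_of_psi (p 2) (by simp [pick]; omega)
    simp [pick] at e1 e2 e3
    revert e1 e2 e3
    generalize co (f.1 (mkL v hv)) = a
    generalize co (g.1 (mkL v hv)) = b
    rintro h1 h2 h3
    cases a; cases b; simp_all
  apply Subtype.ext
  refine Equiv.ext fun z => co_injective ?_
  obtain ⟨d, b, c, hc⟩ := exists_comb (co_spec z).1
  rw [apply_comb f.2 d b c z hc.symm, apply_comb g.2 d b c z hc.symm]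
  rw [show im1 f.1 = im1 g.1 from him _ _ tf_bound.1, show im2 f.1 = im2 g.1 from him _ _ tf_bound.2.1,
    show im3 f.1 = im3 g.1 from him _ _ tf_bound.2.2]

end Cfsg.Agent.Compute.J2
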