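import Cfsg.Agent.Compute.J2.ReflCheck

/-!
The reflections of the icosian Leech lattice: one for each listed line, and their reductions.
-/

set_option autoImplicit false

namespace Cfsg.Agent.Compute.J2

open Quaternion
open Cfsg.Spor (icoLeech qip qrefl IsIcoReflection twoJ2)

theorem four_eq_smul : (4 : ℍ[ℝ]) = (4 : ℝ) • (1 : ℍ[ℝ]) := by
  rw [show (4 : ℍ[ℝ]) = 1 + 1 + 1 + 1 by norm_num]; module

/-- Left linearity of a quaternionic reflection. -/
theorem qrefl_lin (r x y : Fin 3 → ℍ[ℝ]) (a : ℍ[ℝ]) :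
    qrefl r (fun t => a * x t + y t) = fun t => a * qrefl r x t + qrefl r y t := by
  have h : qip (fun t => a * x t + y t) r = a * qip x r + qip y r := by
    simp only [qip, Fin.sum_univ_three, add_mul, mul_add, mul_assoc]; abel
  funext t
  simp only [qrefl, h, smul_add, add_mul, mul_sub, smul_mul_assoc, mul_smul_comm, mul_assoc]
  abel

theorem qrefl_qip (r x : Fin 3 → ℍ[ℝ]) (hr : qip r r = 4) : qip (qrefl r x) r = -qip x r := by
  have h : qip (qrefl r x) r = qip x r - ((1 / 2 : ℝ) • qip x r) * qip r r := by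
    simp only [qip, qrefl, Fin.sum_univ_three, sub_mul, mul_add, mul_assoc]; abel
  rw [h, hr, smul_mul_assoc]
  have : qip x r * (4 : ℍ[ℝ]) = (4 : ℝ) • qip x r := by
    rw [four_eq_smul, mul_smul_comm, mul_one]
  rw [this]; module

theorem qrefl_qrefl (r x : Fin 3 → ℍ[ℝ]) (hr : qip r r = 4) : qrefl r (qrefl r x) = x := by
  funext t
  rw [qrefl, qrefl_qip r x hr, qrefl, smul_neg, neg_mul]
  abel

theorem qip_qrefl (r x y : Fin 3 → ℍ[ℝ]) (hr : qip r r = 4) :
    qip (qrefl r x) (qrefl r y) = qip x y := by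
  have h : qip (qrefl r x) (qrefl r y) =
      qip (qrefl r x) y - qip (qrefl r x) r * star ((1 / 2 : ℝ) • qip y r) := by
    simp only [qip, qrefl, Fin.sum_univ_three, star_sub, star_mul, mul_sub, sub_mul, add_mul,
      mul_assoc]
    abel
  have h2 : qip (qrefl r x) y = qip x y - ((1 / 2 : ℝ) • qip x r) * qip r y := by
    simp only [qip, qrefl, Fin.sum_univ_three, sub_mul, mul_add, mul_assoc]; abel
  have hs : qip r y = star (qip y r) := by
    simp [qip, Fin.sum_univ_three, star_mul]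
  rw [h, h2, qrefl_qip r x hr, hs, Quaternion.star_smul, smul_mul_assoc, neg_mul, mul_smul_comm]
  module

/-- Unit multiples give the same reflection. -/
theorem qrefl_smul (r x : Fin 3 → ℍ[ℝ]) {u : ℍ[ℝ]} (hu : star u * u = 1) :
    qrefl (fun t => u * r t) x = qrefl r x := by
  have h : qip x (fun t => u * r t) = qip x r * star u := by
    simp [qip, Fin.sum_univ_three, star_mul, add_mul, mul_assoc]
  funext t
  simp only [qrefl, h, smul_mul_assoc, mul_assoc]
  rw [← mul_assoc (star u) u, hu, one_mul]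

theorem E_four : E ⟨⟨4, 0⟩, ⟨0, 0⟩, ⟨0, 0⟩, ⟨0, 0⟩⟩ = 4 := by
  rw [four_eq_smul]
  simp [E, evA, evT]

theorem qip_four_iff (v : Vec) :
    qip (EV v) (EV v) = 4 ↔ qipC v v = ⟨⟨4, 0⟩, ⟨0, 0⟩, ⟨0, 0⟩, ⟨0, 0⟩⟩ := by
  rw [qip_EV, ← E_four]
  exact ⟨fun h => E_injective h, fun h => by rw [h]⟩

theorem line_norm {k : ℕ} (hk : k ∈ lineData) : qip (EV (decodeV k)) (EV (decodeV k)) = 4 :=
  (qip_four_iff _).2 (line_facts hk).2

theorem EV_reflC {r g : Vec} (h : (qipC g r).even = true) :
    EV (reflC r g) = qrefl (EV r) (EV g) := by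
  funext t
  have hq : (1 / 2 : ℝ) • qip (EV g) (EV r) = E (qipC g r).half := by
    rw [qip_EV, E_half h, smul_add, ← add_smul]; norm_num
  simp only [reflC, EV_sub, EV_smul, Pi.sub_apply, qrefl, hq]

theorem qrefl_basis {k : ℕ} (hk : k ∈ lineData) {g : Vec} (hg : g ∈ [g1, g2, g3]) :
    inL (reflC (decodeV k) g) = true ∧
      EV (reflC (decodeV k) g) = qrefl (EV (decodeV k)) (EV g) := by
  have h := (lall_iff _ _).1 refl_ok k hk
  simp only [reflOK, forceV_eq, forceI_eq, lall_iff, Bool.and_eq_true] at h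
  exact ⟨(h g hg).2, EV_reflC (h g hg).1⟩

theorem qrefl_mem {k : ℕ} (hk : k ∈ lineData) {x : Fin 3 → ℍ[ℝ]} (hx : x ∈ icoLeech) :
    qrefl (EV (decodeV k)) x ∈ icoLeech := by
  obtain ⟨v, hv, rfl⟩ := exists_EV hx
  obtain ⟨d, b, c, rfl⟩ := exists_comb hv
  obtain ⟨m1, e1⟩ := qrefl_basis hk (g := g1) (by simp)
  obtain ⟨m2, e2⟩ := qrefl_basis hk (g := g2) (by simp)
  obtain ⟨m3, e3⟩ := qrefl_basis hk (g := g3) (by simp)
  have z0 : qrefl (EV (decodeV k)) (fun _ => 0) = fun _ => (0 : ℍ[ℝ]) := by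
    funext t; simp [qrefl, qip]
  have : qrefl (EV (decodeV k)) (EV (comb d b c)) =
      EV (((Vec.smul d (reflC (decodeV k) g1)).add (Vec.smul b (reflC (decodeV k) g2))).add
        (Vec.smul c (reflC (decodeV k) g3))) := by
    have ex : EV (comb d b c) = fun t => E d * EV g1 t + (fun t => E b * EV g2 t + (fun t =>
        E c * EV g3 t + (fun _ => (0 : ℍ[ℝ])) t) t) t := by
      simp only [comb, EV_add, EV_smul]; funext t; simp only [Pi.add_apply, add_zero]; abel
    rw [ex, qrefl_lin, qrefl_lin, qrefl_lin, z0]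
    simp only [EV_add, EV_smul, e1, e2, e3]
    funext t; simp only [Pi.add_apply, add_zero]; abel
  rw [this, EV_mem_iff]
  exact inL_add (inL_add (inL_smul _ m1) (inL_smul _ m2)) (inL_smul _ m3)

/-- The reflection in a listed vector. -/
noncomputable def reflPerm (k : ℕ) : Equiv.Perm icoLeech :=
  if hk : k ∈ lineData then
    Function.Involutive.toPerm (fun x => ⟨qrefl (EV (decodeV k)) x.1, qrefl_mem hk x.2⟩)
      (fun x => Subtype.ext (qrefl_qrefl _ _ (line_norm hk)))
  else 1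

theorem reflPerm_apply {k : ℕ} (hk : k ∈ lineData) (x : icoLeech) :
    (reflPerm k x).1 = qrefl (EV (decodeV k)) x.1 := by
  rw [reflPerm, dif_pos hk]; rfl

theorem isReflection_reflPerm {k : ℕ} (hk : k ∈ lineData) : IsIcoReflection (reflPerm k) :=
  ⟨mkL _ (line_facts hk).1, line_norm hk, fun x => reflPerm_apply hk x⟩

theorem star_mul_unit {i : ℕ} (hi : i < 120) : star (E (unitAt i)) * E (unitAt i) = 1 := by
  rw [← E_conj]; exact conj_mul_unit hi

/-- The reflections are exactly the listed ones. -/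
theorem isReflection_iff (f : Equiv.Perm icoLeech) :
    IsIcoReflection f ↔ ∃ k ∈ lineData, f = reflPerm k := by
  refine ⟨?_, fun ⟨k, hk, e⟩ => e ▸ isReflection_reflPerm hk⟩
  rintro ⟨r, hr, hf⟩
  obtain ⟨v, hv, hvr⟩ := exists_EV r.2
  rw [← hvr] at hr hf
  obtain ⟨i, hi, k, hk, rfl⟩ := exists_line hv ((qip_four_iff v).1 hr)
  refine ⟨k, hk, Equiv.ext fun x => Subtype.ext ?_⟩
  rw [hf, reflPerm_apply hk, EV_smul, qrefl_smul _ _ (star_mul_unit hi)]

theorem reflPerm_mem_lin {k : ℕ} (hk : k ∈ lineData) : reflPerm k ∈ linGrp := by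
  refine ⟨fun x y z a h => ?_, fun x y => ?_⟩
  · apply EV_injective
    have hz := congrArg EV h
    simp only [EV_add, EV_smul, (co_spec _).2] at hz ⊢
    rw [reflPerm_apply hk, reflPerm_apply hk, reflPerm_apply hk, hz]
    exact qrefl_lin _ _ _ _
  · apply E_injective
    rw [← qip_EV, ← qip_EV, (co_spec _).2, (co_spec _).2, (co_spec _).2, (co_spec _).2,
      reflPerm_apply hk, reflPerm_apply hk]
    exact qip_qrefl _ _ _ (line_norm hk)

theorem twoJ2_le_lin : twoJ2 ≤ linGrp := by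
  refine (Subgroup.closure_le _).2 fun f hf => ?_
  obtain ⟨k, hk, rfl⟩ := (isReflection_iff f).1 hf
  exact reflPerm_mem_lin hk

/-! ### Packed reductions -/

/-- The inverse frame as a matrix. -/
noncomputable def GI (s : Bool) : M6 := toMat 10 6 11 (giCode s)

theorem natCast_toNat_emod (z : ℤ) : (((z % 11).toNat : ℕ) : ZMod 11) = (z : ZMod 11) := by
  have h : ((((z % 11).toNat : ℕ) : ℤ) : ZMod 11) = ((z % 11 : ℤ) : ZMod 11) := by
    rw [Int.toNat_of_nonneg (Int.emod_nonneg z (by norm_num))]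
  rw [Int.cast_natCast] at h
  rw [h, ZMod.intCast_eq_intCast_iff']
  simp

theorem nth_cons {α : Type} (d a : α) (l : List α) (k : ℕ) :
    nth d (a :: l) k = if k = 0 then a else nth d l (k - 1) := by
  cases k <;> rfl

theorem nth_nil {α : Type} (d : α) (k : ℕ) : nth d [] k = d := rfl

theorem beq_decide (a b : ℕ) : Nat.beq a b = decide (a = b) := by
  rw [Bool.eq_iff_iff, Nat.beq_eq, decide_eq_true_iff]

theorem psiN_eq (s : Bool) (x : Ico) (a b : Fin 2) : (psiN s x a b : ZMod 11) = psi s x a b := by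
  rw [psiN, natCast_toNat_emod]
  have hT : matI * matW s = cond s !![5, 4; 5, 2] !![5, 10; 0, 9] := by cases s <;> decide +kernel
  simp only [psi, Matrix.transpose_apply, evA, hT, evT]
  fin_cases a <;> fin_cases b <;> cases s <;>
    simp [tabI, tabW, tabIW, nth_cons, nth_nil, beq_decide, phiZ, rootN, rootT, matI, matW] <;> ring

theorem colN_eq (s : Bool) (v : Vec) (i : Fin 6) (j : Fin 2) :
    (colN s v i j : ZMod 11) = col s v i j := by
  rw [colN, col]
  have h := psiN_eq s
  have h1 : pickN (Nat.div i 2) v.x v.y v.z = pick (blk i) v.x v.y v.z := by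
    fin_cases i <;> rfl
  rw [h1]
  exact h _ (inn i) j

theorem toMat_frameN (s : Bool) (u v w : Vec) :
    MatCanon 10 6 11 (frameN s u v w) ∧ toMat 10 6 11 (frameN s u v w) = frame s u v w := by
  let f : ℕ → ℕ := fun n =>
    colN s (pickN (Nat.div (Nat.mod n 6) 2) u v w) (Nat.div n 6) (Nat.mod (Nat.mod n 6) 2)
  obtain ⟨h1, h2⟩ := matCanon_pack (w := 10) (n := 6) (q := 11) (by norm_num) f fun k _ => by
    show Int.toNat (_ % 11) < 11
    omega
  refine ⟨h1, Matrix.ext fun i k => ?_⟩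
  show toMat 10 6 11 (packP 10 f (6 * 6)) i k = _
  rw [h2]
  have hd := idx_div i k
  show ((colN s (pickN (((i : ℕ) * 6 + k) % 6 / 2) u v w) (((i : ℕ) * 6 + k) / 6)
    (((i : ℕ) * 6 + k) % 6 % 2) : ℕ) : ZMod 11) = _
  rw [hd.1, hd.2, frame]
  have h3 : pickN ((k : ℕ) / 2) u v w = pick (blk k) u v w := by fin_cases k <;> rfl
  rw [h3]
  exact colN_eq s _ i (inn k)

theorem gi_canon (s : Bool) : MatCanon 10 6 11 (giCode s) := by
  have h := gi_valid
  rw [Bool.and_eq_true] at h
  cases s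
  · simp only [validMat, Bool.and_eq_true, allN_iff, Nat.ble_eq, Nat.beq_eq,
      Nat.add_one_le_iff] at h
    exact h.2
  · simp only [validMat, Bool.and_eq_true, allN_iff, Nat.ble_eq, Nat.beq_eq,
      Nat.add_one_le_iff] at h
    exact h.1

theorem GI_base (s : Bool) : GI s * baseFrame s = 1 := by
  have h := gi_mul
  rw [Bool.and_eq_true, Nat.beq_eq, Nat.beq_eq] at h
  have e : mulMat 10 6 11 (giCode s) (frameN s g1 g2 g3) = oneMat 10 6 := by
    cases s; exacts [h.2, h.1]
  rw [GI, baseFrame, ← (toMat_frameN s g1 g2 g3).2,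
    ← (matCanon_mul (by norm_num) (by norm_num) (by norm_num) (gi_canon s).1
      (toMat_frameN s g1 g2 g3).1.1).2, e, (matCanon_one (by norm_num) (by norm_num)).2]

/-- The packed code of a reflection represents its reduction. -/
theorem refCode_spec (s : Bool) {k : ℕ} (hk : k ∈ lineData) :
    MatCanon 10 6 11 (refCode s (decodeV k)) ∧ toMat 10 6 11 (refCode s (decodeV k)) =
      redHom s (GI s) (GI_base s) ⟨reflPerm k, reflPerm_mem_lin hk⟩ := by
  have h := matCanon_mul (w := 10) (n := 6) (q := 11) (by norm_num) (by norm_num) (by norm_num)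
    (toMat_frameN s (reflC (decodeV k) g1) (reflC (decodeV k) g2) (reflC (decodeV k) g3)).1.1
    (gi_canon s).1
  refine ⟨h.1, ?_⟩
  show toMat 10 6 11 (mulMat 10 6 11 _ (giCode s)) = redM s (GI s) (reflPerm k)
  rw [h.2, (toMat_frameN s _ _ _).2, redM]
  have key : ∀ (g : Vec) (hg : inL g = true), g ∈ [g1, g2, g3] →
      co (reflPerm k (mkL g hg)) = reflC (decodeV k) g := by
    intro g hg hm
    apply EV_injective
    rw [(co_spec _).2, reflPerm_apply hk, (qrefl_basis hk hm).2]
    rfl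
  rw [im1, im2, im3, key g1 _ (by simp), key g2 _ (by simp), key g3 _ (by simp)]
  rfl

end Cfsg.Agent.Compute.J2
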