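import Cfsg.Agent.Compute.Chunk
import Cfsg.Agent.Compute.J2.GroupDefs

/-!
Kernel verification that the 315 reflections lie in the certified group.
-/

set_option autoImplicit false
set_option Elab.async false

namespace Cfsg.Agent.Compute.J2

theorem sift_ok_0 : chunkN 315 siftRefl 21 0 = true := by decide +kernel
theorem sift_ok_1 : chunkN 315 siftRefl 21 1 = true := by decide +kernel
theorem sift_ok_2 : chunkN 315 siftRefl 21 2 = true := by decide +kernel
theorem sift_ok_3 : chunkN 315 siftRefl 21 3 = true := by decide +kernel
theorem sift_ok_4 : chunkN 315 siftRefl 21 4 = true := by decide +kernel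
theorem sift_ok_5 : chunkN 315 siftRefl 21 5 = true := by decide +kernel
theorem sift_ok_6 : chunkN 315 siftRefl 21 6 = true := by decide +kernel
theorem sift_ok_7 : chunkN 315 siftRefl 21 7 = true := by decide +kernel
theorem sift_ok_8 : chunkN 315 siftRefl 21 8 = true := by decide +kernel
theorem sift_ok_9 : chunkN 315 siftRefl 21 9 = true := by decide +kernel
theorem sift_ok_10 : chunkN 315 siftRefl 21 10 = true := by decide +kernel
theorem sift_ok_11 : chunkN 315 siftRefl 21 11 = true := by decide +kernel
theorem sift_ok_12 : chunkN 315 siftRefl 21 12 = true := by decide +kernel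
theorem sift_ok_13 : chunkN 315 siftRefl 21 13 = true := by decide +kernel
theorem sift_ok_14 : chunkN 315 siftRefl 21 14 = true := by decide +kernel

theorem sift_ok : allN 315 siftRefl = true :=
  allN_of_chunks 21 15 (by decide +kernel) fun k hk =>
    match k, hk with
    | 0, _ => sift_ok_0
    | 1, _ => sift_ok_1
    | 2, _ => sift_ok_2
    | 3, _ => sift_ok_3
    | 4, _ => sift_ok_4
    | 5, _ => sift_ok_5
    | 6, _ => sift_ok_6
    | 7, _ => sift_ok_7
    | 8, _ => sift_ok_8
    | 9, _ => sift_ok_9
    | 10, _ => sift_ok_10
    | 11, _ => sift_ok_11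
    | 12, _ => sift_ok_12
    | 13, _ => sift_ok_13
    | 14, _ => sift_ok_14
    | j + 15, hj => absurd hj (by omega)


theorem refl_distinct : allN 315 (fun i => allN i (fun j =>
    !(Nat.beq (nth 0 (reflPerms.map Prod.fst) i) (nth 0 (reflPerms.map Prod.fst) j)))) = true := by
  decide +kernel

end Cfsg.Agent.Compute.J2
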