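import Cfsg.Agent.Compute.J2.Quotient
import Cfsg.Agent.Compute.J2.Reflection
import Cfsg.Agent.Compute.J2.SiftCheck

/-!
The reflection group 2J2 of the icosian Leech lattice is the certified group of codes; J2 is its
simple quotient on 100 points.
-/

set_option autoImplicit false
set_option maxHeartbeats 800000

namespace Cfsg.Agent.Compute.J2

open Quaternion
open Cfsg.Spor (icoLeech twoJ2 IsIcoReflection J2)

abbrev M2G : Type := GL (Fin 6) (ZMod 11) × GL (Fin 6) (ZMod 11)

/-- Projection to the two matrices. -/
def matProj : GP →* M2G := MonoidHom.snd _ _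

theorem matProj_den (a : Code) :
    matProj (dblSound.den a) = (matDen 10 6 11 a.2.1, matDen 10 6 11 a.2.2) := by
  simp only [dblSound, Sound.prod, matProj, matSound, MonoidHom.coe_snd]

theorem perm_den (a : Code) : (dblSound.den a).1.1 = permDen 8 200 a.1.1 := by
  simp only [dblSound, Sound.prod, permSound]

theorem ok_perm {a : Code} (h : dblSound.ok a) : PermOK 8 200 a.1.1 := h.1.1

theorem lineData_length : lineData.length = 315 := by decide +kernel

theorem reflPerms_length : reflPerms.length = 315 := by decide +kernel

theorem first3_distinct : ∀ a b : Fin 3, refCode true (decodeV (nth 0 lineData a)) =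
    refCode true (decodeV (nth 0 lineData b)) → a = b := by decide +kernel

attribute [local irreducible] packP mulMat refCode decodeV matDen toMat nth dblCen dblChain quoChain classTable dblPrim quoPrim dblSound
  quoSound dblOps quoOps lineData reflPerms

/-- The homomorphism to pairs of matrices. -/
noncomputable def phi : linGrp →* M2G :=
  MonoidHom.prod (redHom true (GI true) (GI_base true)).toHomUnits
    (redHom false (GI false) (GI_base false)).toHomUnits

theorem phi_injective : Function.Injective phi := by
  intro f g h
  refine eq_of_red GI_base fun s => ?_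
  cases s
  · exact congrArg (fun u : M2G => (u.2 : M6)) h
  · exact congrArg (fun u : M2G => (u.1 : M6)) h

/-- The code of reflection `i`. -/
noncomputable def code (i : Fin 315) : Code := reflCode (lineItem i)

/-- The line of reflection `i`. -/
noncomputable def line (i : Fin 315) : ℕ := (lineItem i).1

theorem line_mem (i : Fin 315) : line i ∈ lineData :=
  nth_mem 0 _ _ (by rw [lineData_length]; exact i.2)

theorem code_snd1 (i : Fin 315) : (code i).2.1 = refCode true (decodeV (line i)) := by
  simp only [code, reflCode, line]

theorem code_snd2 (i : Fin 315) : (code i).2.2 = refCode false (decodeV (line i)) := by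
  simp only [code, reflCode, line]

theorem phi_val (f : linGrp) : ((phi f).1 : M6) = redHom true (GI true) (GI_base true) f ∧
    ((phi f).2 : M6) = redHom false (GI false) (GI_base false) f := by
  simp only [phi, MonoidHom.prod_apply, MonoidHom.coe_toHomUnits, and_self]

theorem exists_line_idx {k : ℕ} (hk : k ∈ lineData) : ∃ i, line i = k := by
  obtain ⟨n, hn, rfl⟩ := List.getElem_of_mem hk
  exact ⟨⟨n, by rw [lineData_length] at hn; exact hn⟩, nth_eq_getElem 0 _ _ hn⟩

theorem code_facts (i : Fin 315) :
    dblSound.ok (code i) ∧ dblSound.den (code i) ∈ dblGrp := by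
  have h := (allN_iff _ _).1 sift_ok i i.2
  simp only [siftRefl, forceV_eq, forceN_eq, Bool.and_eq_true] at h
  have hc : code i = ((lineItem i).2,
      mulMat 10 6 11 (frameN true (reflC (decodeV (lineItem i).1) g1)
        (reflC (decodeV (lineItem i).1) g2) (reflC (decodeV (lineItem i).1) g3)) (giCode true),
      mulMat 10 6 11 (frameN false (reflC (decodeV (lineItem i).1) g1)
        (reflC (decodeV (lineItem i).1) g2) (reflC (decodeV (lineItem i).1) g3)) (giCode false)) := by
    simp only [code, reflCode, refCode]
  rw [hc]
  have ok := (dblSound.okInv_sound h.1).1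
  exact ⟨ok, ((checkChain_sound dblSound dblChain_ok).sift_iff _ ok).1 h.2⟩

/-- Reflection `i` as an element of the isometry group. -/
noncomputable def refl (i : Fin 315) : linGrp := ⟨reflPerm (line i), reflPerm_mem_lin (line_mem i)⟩

theorem code_mat (i : Fin 315) : matProj (dblSound.den (code i)) = phi (refl i) := by
  obtain ⟨ok, -⟩ := code_facts i
  obtain ⟨-, o1, o2⟩ := ok_parts ok
  rw [matProj_den]
  refine Prod.ext (Units.ext ?_) (Units.ext ?_)
  · rw [matDen_coe o1, (phi_val _).1, code_snd1]
    exact (refCode_spec true (line_mem i)).2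
  · rw [matDen_coe o2, (phi_val _).2, code_snd2]
    exact (refCode_spec false (line_mem i)).2

/-- The certified group is generated by the reflection codes. -/
theorem dblGrp_eq_refl : dblGrp = Subgroup.closure (Set.range fun i => dblSound.den (code i)) := by
  refine le_antisymm ?_ ((Subgroup.closure_le _).2 (Set.range_subset_iff.2 fun i => (code_facts i).2))
  rw [dblGrp_eq]
  refine Subgroup.closure_mono ?_
  rintro _ ⟨a, ha, rfl⟩
  change a ∈ dblPrim at ha
  rw [← prim_zip.1] at ha
  obtain ⟨b, hb, rfl⟩ := List.mem_map.1 ha
  obtain ⟨h1, ok, -, -, he⟩ := prim_facts hb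
  exact ⟨⟨b.1, h1⟩, (dblSound.eqv_iff (code_facts ⟨b.1, h1⟩).1 ok).1 he⟩

theorem code_perm_inj {i j : Fin 315}
    (h : dblSound.den (code i) = dblSound.den (code j)) : i = j := by
  have key : ∀ a b : Fin 315, b.1 < a.1 → dblSound.den (code a) ≠ dblSound.den (code b) := by
    intro a b hab he
    have h1 := (allN_iff _ _).1 ((allN_iff _ _).1 refl_distinct a a.2) b hab
    have hp := congrArg (fun g : GP => g.1.1) he
    simp only [perm_den] at hp
    have e := permOK_ext (ok_perm (code_facts a).1) (ok_perm (code_facts b).1) hp
    have hn : ∀ c : Fin 315, nth 0 (reflPerms.map Prod.fst) c = (code c).1.1 := fun c => by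
      rw [nth_eq_getElem 0 _ _ (by rw [List.length_map, reflPerms_length]; exact c.2),
        List.getElem_map, ← nth_eq_getElem (0, 0) reflPerms c (by rw [reflPerms_length]; exact c.2)]
      simp only [code, reflCode, lineItem]
    rw [hn, hn, e] at h1
    simp at h1
  rcases lt_trichotomy i.1 j.1 with hl | he | hl
  · exact absurd h.symm (key j i hl)
  · exact Fin.ext he
  · exact absurd h (key i j hl)

/-- Matrices determine the code. -/
theorem mat_injective : Function.Injective (matProj.comp dblGrp.subtype) := by
  let f := matProj.comp dblGrp.subtype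
  rw [← MonoidHom.ker_eq_bot_iff, eq_bot_iff]
  intro g hg
  have hsimple := isSimple_quoGrp
  rcases IsSimpleGroup.eq_bot_or_eq_top_of_normal (f.ker.map quoMap)
    (Subgroup.Normal.map inferInstance quoMap quoMap_surjective) with hk | hk
  · have : quoMap g ∈ f.ker.map quoMap := ⟨g, hg, rfl⟩
    rw [hk, Subgroup.mem_bot] at this
    rcases ker_quoMap this with e | e
    · exact Subgroup.mem_bot.2 e
    · exfalso
      have h1 := congrArg (fun u : M2G => (u.1 : M6) 0 0) (MonoidHom.mem_ker.1 (e ▸ hg : zed ∈ f.ker))
      change ((zed.1.2.1 : GL (Fin 6) (ZMod 11)) : M6) 0 0 = _ at h1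
      rw [show ((zed.1.2.1 : GL (Fin 6) (ZMod 11)) : M6) = -1 from cen_facts.2.2.2.2.1] at h1
      revert h1
      decide +kernel
  · exfalso
    have hsur : Function.Surjective (fun u : f.ker => quoMap u.1) := fun q => by
      obtain ⟨u, hu, rfl⟩ := (hk ▸ Subgroup.mem_top q : q ∈ f.ker.map quoMap)
      exact ⟨⟨u, hu⟩, rfl⟩
    have hle := Nat.card_le_card_of_surjective _ hsur
    have hmul := f.ker.card_eq_card_quotient_mul_card_subgroup
    rw [Nat.card_congr (QuotientGroup.quotientKerEquivRange f).toEquiv, card_dblGrp] at hmul
    rw [card_quoGrp] at hle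
    have h2 : Nat.card f.range ≤ 2 := by
      by_contra hc
      push Not at hc
      have : 3 * 604800 ≤ Nat.card f.range * Nat.card f.ker := Nat.mul_le_mul hc hle
      omega
    -- three reflections with distinct permutations would then have two equal matrices
    have hmem : ∀ i, phi (refl i) ∈ f.range := fun i =>
      ⟨⟨_, (code_facts i).2⟩, code_mat i⟩
    let T : Fin 3 → f.range := fun t => ⟨phi (refl ⟨t.1, by omega⟩), hmem _⟩
    have hT : Function.Injective T := by
      intro a b hab
      have h3 : phi (refl ⟨a.1, by omega⟩) = phi (refl ⟨b.1, by omega⟩) := congrArg Subtype.val hab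
      have h4 := congrArg (fun u : M2G => (u.1 : M6)) h3
      simp only [(phi_val _).1, refl, ← (refCode_spec true (line_mem _)).2] at h4
      have e := matCanon_ext (refCode_spec true (line_mem ⟨a.1, by omega⟩)).1
        (refCode_spec true (line_mem ⟨b.1, by omega⟩)).1 h4
      simp only [line, lineItem] at e
      exact first3_distinct a b e
    have := Nat.card_le_card_of_injective T hT
    rw [Nat.card_eq_fintype_card, Fintype.card_fin] at this
    omega

/-- The image of the certified group is the image of 2J2. -/
theorem range_eq : dblGrp.map matProj = (twoJ2.subgroupOf linGrp).map phi := by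
  have h : twoJ2.subgroupOf linGrp = Subgroup.closure (Set.range refl) := by
    refine le_antisymm ?_ ((Subgroup.closure_le _).2 ?_)
    · intro g hg
      rw [Subgroup.mem_subgroupOf] at hg
      have : g.1 ∈ (Subgroup.closure (Set.range refl)).map linGrp.subtype := by
        rw [MonoidHom.map_closure]
        refine Subgroup.closure_mono ?_ hg
        intro f hf
        obtain ⟨k, hk, rfl⟩ := (isReflection_iff f).1 hf
        obtain ⟨i, rfl⟩ := exists_line_idx hk
        exact ⟨refl i, ⟨i, rfl⟩, rfl⟩
      obtain ⟨u, hu, e⟩ := this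
      exact (Subtype.ext e : u = g) ▸ hu
    · rintro _ ⟨i, rfl⟩
      exact Subgroup.subset_closure (isReflection_reflPerm (line_mem i))
  rw [h, dblGrp_eq_refl, MonoidHom.map_closure, MonoidHom.map_closure, ← Set.range_comp,
    ← Set.range_comp]
  exact congrArg Subgroup.closure (congrArg Set.range (funext code_mat))

/-- 2J2 is isomorphic to the certified group. -/
noncomputable def equiv2 : twoJ2 ≃* dblGrp :=
  ((Subgroup.subgroupOfEquivOfLe twoJ2_le_lin).symm.trans
    ((twoJ2.subgroupOf linGrp).equivMapOfInjective phi phi_injective)).trans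
    ((MulEquiv.subgroupCongr range_eq.symm).trans
      (MulEquiv.ofBijective (matProj.subgroupMap dblGrp)
        ⟨fun a b h => mat_injective (congrArg Subtype.val h),
          matProj.subgroupMap_surjective dblGrp⟩).symm)

theorem phi_eq (f : twoJ2) : phi ⟨f.1, twoJ2_le_lin f.2⟩ = matProj (equiv2 f).1 := by
  have h : ∀ (x : dblGrp.map matProj), matProj (((MulEquiv.ofBijective (matProj.subgroupMap dblGrp)
      ⟨fun a b h => mat_injective (congrArg Subtype.val h),
        matProj.subgroupMap_surjective dblGrp⟩).symm x).1) = x.1 := fun x => by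
    conv_rhs => rw [← (MulEquiv.ofBijective (matProj.subgroupMap dblGrp)
      ⟨fun a b h => mat_injective (congrArg Subtype.val h),
        matProj.subgroupMap_surjective dblGrp⟩).apply_symm_apply x]
    rfl
  rw [equiv2]
  simp only [MulEquiv.trans_apply]
  rw [h]
  rfl

theorem equiv2_refl (i : Fin 315) (h : reflPerm (line i) ∈ twoJ2) :
    equiv2 ⟨_, h⟩ = ⟨dblSound.den (code i), (code_facts i).2⟩ := by
  apply mat_injective
  exact (phi_eq ⟨_, h⟩).symm.trans (code_mat i).symm

theorem card_twoJ2 : Nat.card twoJ2 = 1209600 := by
  rw [Nat.card_congr equiv2.toEquiv, card_dblGrp]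

theorem center_dblGrp : Subgroup.center dblGrp = quoMap.ker := by
  ext g
  refine ⟨fun hg => ?_, fun hg => ?_⟩
  · have hs := isSimple_quoGrp
    have hc : quoMap g ∈ Subgroup.center quoGrp := Subgroup.mem_center_iff.2 fun q => by
      obtain ⟨a, rfl⟩ := quoMap_surjective q
      rw [← map_mul, ← map_mul, Subgroup.mem_center_iff.1 hg a]
    rcases IsSimpleGroup.eq_bot_or_eq_top_of_normal (Subgroup.center quoGrp) inferInstance with
      e | e
    · rw [e, Subgroup.mem_bot] at hc; exact MonoidHom.mem_ker.2 hc
    · exfalso
      have hcomm : ∀ a b : quoGrp, a * b = b * a := fun a b =>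
        (Subgroup.mem_center_iff.1 (e ▸ Subgroup.mem_top b : b ∈ Subgroup.center quoGrp) a)
      have hb : IsConj (rep 1) (rep 1) := IsConj.refl _
      have hi : ∀ x : quoGrp, x * rep 1 * x⁻¹ = rep 1 := fun x => by
        rw [hcomm x, mul_inv_cancel_right]
      have hce : Subgroup.centralizer ({rep 1} : Set quoGrp) = ⊤ := by
        rw [eq_top_iff]; intro x _
        exact Subgroup.mem_centralizer_singleton_iff.2 (hcomm x _)
      have := card_cent_rep 1
      rw [hce, Subgroup.card_top, card_quoGrp] at this
      revert this; decide +kernel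
  · rcases ker_quoMap (MonoidHom.mem_ker.1 hg) with rfl | rfl
    · exact Subgroup.one_mem _
    · exact Subgroup.mem_center_iff.2 fun a => (zed_central a).symm

/-- The centre of 2J2 corresponds to the kernel of the quotient map. -/
theorem center_twoJ2 :
    Subgroup.center twoJ2 = quoMap.ker.comap equiv2.toMonoidHom := by
  ext g
  rw [← center_dblGrp, Subgroup.mem_comap, MulEquiv.coe_toMonoidHom, Subgroup.mem_center_iff,
    Subgroup.mem_center_iff]
  refine ⟨fun h a => ?_, fun h a => equiv2.injective (by rw [map_mul, map_mul]; exact h _)⟩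
  obtain ⟨b, rfl⟩ := equiv2.surjective a
  rw [← map_mul, ← map_mul, h b]

theorem card_center_twoJ2 : Nat.card (Subgroup.center twoJ2) = 2 := by
  rw [center_twoJ2, ← card_ker_quoMap]
  exact Nat.card_congr (equiv2.toEquiv.subtypeEquiv fun _ => Iff.rfl)

/-- The map from 2J2 onto the quotient. -/
noncomputable def quoHom : twoJ2 →* quoGrp := quoMap.comp equiv2.toMonoidHom

theorem quoHom_surjective : Function.Surjective quoHom :=
  quoMap_surjective.comp equiv2.surjective

theorem center_eq_ker : Subgroup.center twoJ2 = quoHom.ker := by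
  rw [center_twoJ2]; rfl

/-- J2 is isomorphic to the quotient on 100 points. -/
noncomputable def equivJ2 : J2 ≃* quoGrp :=
  (QuotientGroup.quotientMulEquivOfEq center_eq_ker).trans
    (QuotientGroup.quotientKerEquivOfSurjective quoHom quoHom_surjective)

theorem equivJ2_mk (g : twoJ2) : equivJ2 (QuotientGroup.mk g) = quoMap (equiv2 g) := rfl

theorem card_J2 : Nat.card J2 = 604800 := by
  rw [Nat.card_congr equivJ2.toEquiv, card_quoGrp]

theorem isSimple_J2 : IsSimpleGroup J2 := by
  have := isSimple_quoGrp
  exact MulEquiv.isSimpleGroup equivJ2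

/-- The central element of 2J2 is negation. -/
theorem exists_neg : ∃ z ∈ Subgroup.center twoJ2, ∀ x : icoLeech,
    (((z : Equiv.Perm icoLeech) x : icoLeech) : Fin 3 → ℍ[ℝ]) = -(x : Fin 3 → ℍ[ℝ]) := by
  obtain ⟨z, hz⟩ := equiv2.surjective zed
  refine ⟨z, center_twoJ2 ▸ (show equiv2 z ∈ quoMap.ker from hz ▸ MonoidHom.mem_ker.2
    (Subtype.ext cen_facts.2.2.1)), fun x => ?_⟩
  have hneg : ∀ y : icoLeech, inL (co y).neg = true := fun y => by
    have h := inL_smul Ico.one.neg (co_spec y).1
    have : Vec.smul Ico.one.neg (co y) = (co y).neg := EV_injective (by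
      funext t; simp [EV_smul, EV_neg, E_neg, E_one])
    rwa [this] at h
  let n : Equiv.Perm icoLeech :=
    Function.Involutive.toPerm (fun y => mkL (co y).neg (hneg y)) (fun y => co_injective (by
      show co (mkL (co (mkL (co y).neg (hneg y))).neg (hneg _)) = co y
      rw [co_mkL]; apply EV_injective
      rw [EV_neg, co_mkL, EV_neg, neg_neg]))
  have hn : ∀ y, co (n y) = (co y).neg := fun y => co_mkL _ (hneg y)
  have hmem : n ∈ linGrp := by
    refine ⟨fun a b c u h => ?_, fun a b => ?_⟩
    · rw [hn, hn, hn, h]; apply EV_injective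
      funext t
      simp only [EV_neg, EV_add, EV_smul, Pi.neg_apply, Pi.add_apply, mul_neg, neg_add]
    · apply E_injective
      rw [← qip_EV, ← qip_EV, hn, hn, EV_neg, EV_neg]
      simp [Cfsg.Spor.qip]
  have key : phi ⟨z.1, twoJ2_le_lin z.2⟩ = phi ⟨n, hmem⟩ := by
    rw [phi_eq, hz]
    have hr : ∀ s, redM s (GI s) n = -1 := fun s => by
      have h1 : frame s (im1 n) (im2 n) (im3 n) = -baseFrame s := by
        have hc : ∀ v, col s (Vec.neg v) = -col s v := fun v => by
          funext i j
          show psi s (pick (blk i) v.x.neg v.y.neg v.z.neg) (inn i) j = _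
          have hp : ∀ w : Ico, psi s w.neg = -psi s w := fun w => by
            rw [psi, evA_neg, Matrix.transpose_neg]; rfl
          rw [Matrix.neg_apply, col]
          generalize blk i = t
          fin_cases t <;> simp [pick, hp]
        funext i k
        rw [Matrix.neg_apply, baseFrame, frame, frame]
        generalize blk k = t
        fin_cases t <;> simp [pick, im1, im2, im3, hn, co_mkL, hc]
      rw [redM, h1, Matrix.neg_mul, mul_eq_one_comm.1 (GI_base s)]
    refine Prod.ext (Units.ext ?_) (Units.ext ?_)
    · exact cen_facts.2.2.2.2.1.trans (hr true).symm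
    · exact cen_facts.2.2.2.2.2.1.trans (hr false).symm
  have := congrArg Subtype.val (phi_injective key)
  rw [show (z : Equiv.Perm icoLeech) = n from this, ← (co_spec (n x)).2, hn, EV_neg, (co_spec x).2]

end Cfsg.Agent.Compute.J2
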