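import Cfsg.Agent.Compute.J2.Orbital
import Cfsg.Agent.S2089

/-!
The Schur multiplier of J2 has order two: the kernel of a stem extension is spanned by the square
of a lift of an involution swapping an edge of the orbital graph on 100 points.
-/

set_option autoImplicit false

namespace Cfsg.Agent.Compute.J2

open Cfsg EdgeCover Subgroup
open scoped commutatorElement

attribute [local irreducible] packP mulMat nth quoChain quoSound quoOps stabChain coverSteps
  coverPar coverBase coverL coverComm coverPt edgeMask allSteps quoLvl0 quoLvl1 quoLvl2 quoLvl3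
  hasEdge gImg dblSound dblOps dblChain dblPrim dblCen coverAnti coverRelA coverRelB coverSwap

/-! ### Transport and splitting -/

theorem hasSchurMultiplier_congr_base {G G' : Type} [Group G] [Group G'] (e : G ≃* G') {A : Type}
    [CommGroup A] (h : HasSchurMultiplier G A) : HasSchurMultiplier G' A := by
  have key : ∀ {X Y : Type} [Group X] [Group Y] (e : X ≃* Y) (Γ : Type) [Group Γ] (σ : Γ →* X),
      IsStemExtension σ → IsStemExtension (e.toMonoidHom.comp σ) ∧
        (e.toMonoidHom.comp σ).ker = σ.ker := by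
    intro X Y _ _ e Γ _ σ hσ
    have hk : (e.toMonoidHom.comp σ).ker = σ.ker := by ext x; simp
    exact ⟨⟨e.surjective.comp hσ.1, by rw [hk]; exact hσ.2.1, by rw [hk]; exact hσ.2.2⟩, hk⟩
  obtain ⟨⟨Γ, i1, i2, σ, hσ, ⟨i⟩⟩, h2⟩ := h
  obtain ⟨hs, hk⟩ := key e Γ σ hσ
  refine ⟨⟨Γ, i1, i2, _, hs, ⟨(MulEquiv.subgroupCongr hk).trans i⟩⟩, fun Δ _ _ τ hτ => ?_⟩
  obtain ⟨ht, hkt⟩ := key e.symm Δ τ hτ
  obtain ⟨π, hπ⟩ := h2 Δ _ ht
  exact ⟨(MulEquiv.subgroupCongr hkt).toMonoidHom.comp π,
    (MulEquiv.subgroupCongr hkt).surjective.comp hπ⟩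

theorem stab0_trivial_multiplier : HasCyclicSchurMultiplier stab0 1 := by
  obtain ⟨F, i1, i2, h, ⟨e⟩⟩ := exists_psu
  have := Cfsg.Agent.S2089.result (F := F) 3 3 h le_rfl (by omega) (by simp)
  exact hasSchurMultiplier_congr_base e.symm this

theorem stab0_perfect : stab0 ≤ ⁅stab0, stab0⁆ := by
  obtain ⟨F, i1, i2, hF⟩ := exists_field_nine
  obtain ⟨e⟩ := nonempty_SU_equiv hF
  have hF' : Fintype.card F = 3 ^ 2 := hF
  have hp : _root_.commutator (SU 3 F 3) = ⊤ :=
    Unitary.commutator_eq_top hF' (Unitary.hbig_of hF' le_rfl (by omega))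
  have hp2 : _root_.commutator stab0 = ⊤ := by
    rw [_root_.commutator_def, ← Subgroup.map_top_of_surjective e.toMonoidHom e.surjective,
      ← Subgroup.map_commutator, ← _root_.commutator_def, hp]
  have h2 := congrArg (Subgroup.map stab0.subtype) hp2
  rw [map_subtype_commutator, ← MonoidHom.range_eq_map, Subgroup.range_subtype] at h2
  exact h2.ge

theorem split_of_trivial {G Γ : Type} [Group G] [Finite G] [Group Γ] [Finite Γ] {σ : Γ →* G}
    (hsurj : Function.Surjective σ) (hc : σ.ker ≤ center Γ) (H : Subgroup G) (hH : H ≤ ⁅H, H⁆)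
    (hM : HasCyclicSchurMultiplier H 1) :
    ∀ x ∈ ⁅H.comap σ, H.comap σ⁆, σ x = 1 → x = 1 := by
  set P := ⁅H.comap σ, H.comap σ⁆ with hP
  have hmap : P.map σ = H := by
    rw [hP, map_commutator, map_comap_eq_self_of_surjective hsurj]
    exact le_antisymm (commutator_le.2 fun a ha b hb =>
      mul_mem (mul_mem (mul_mem ha hb) (inv_mem ha)) (inv_mem hb)) hH
  have hdec : ∀ x ∈ H.comap σ, ∃ y ∈ P, ∃ c, σ c = 1 ∧ x = y * c := by
    intro x hx
    have : σ x ∈ P.map σ := by rw [hmap]; exact hx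
    obtain ⟨y, hy, hyx⟩ := this
    exact ⟨y, hy, y⁻¹ * x, by rw [map_mul, map_inv, hyx, inv_mul_cancel], (mul_inv_cancel_left _ _).symm⟩
  have hPP : P ≤ ⁅P, P⁆ := by
    conv_lhs => rw [hP]
    rw [commutator_le]
    intro x hx y hy
    obtain ⟨a, ha, c, hc1, rfl⟩ := hdec x hx
    obtain ⟨b, hb, d, hd1, rfl⟩ := hdec y hy
    have hcc : ∀ g, g * c = c * g := fun g => mem_center_iff.1 (hc (MonoidHom.mem_ker.2 hc1)) g
    have hdc : ∀ g, g * d = d * g := fun g => mem_center_iff.1 (hc (MonoidHom.mem_ker.2 hd1)) g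
    have e : ⁅a * c, b * d⁆ = ⁅a, b⁆ := by
      simp only [commutatorElement_def, mul_inv_rev]
      calc a * c * (b * d) * (c⁻¹ * a⁻¹) * (d⁻¹ * b⁻¹)
          = a * (c * (b * d)) * c⁻¹ * a⁻¹ * d⁻¹ * b⁻¹ := by simp only [mul_assoc]
        _ = a * b * (d * a⁻¹) * d⁻¹ * b⁻¹ := by rw [← hcc]; group
        _ = a * b * a⁻¹ * b⁻¹ := by rw [← hdc]; group
    rw [e]
    exact commutator_mem_commutator ha hb
  let π : P →* H := (σ.comp P.subtype).codRestrict H fun y => hmap ▸ ⟨y.1, y.2, rfl⟩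
  have hπ : IsStemExtension π := by
    refine ⟨?_, ?_, ?_⟩
    · rintro ⟨h, hh⟩
      have : h ∈ P.map σ := by rw [hmap]; exact hh
      obtain ⟨y, hy, rfl⟩ := this
      exact ⟨⟨y, hy⟩, rfl⟩
    · intro z hz
      have h1 : σ z.1 = 1 := congrArg Subtype.val (MonoidHom.mem_ker.1 hz)
      exact mem_center_iff.2 fun g =>
        Subtype.ext (mem_center_iff.1 (hc (MonoidHom.mem_ker.2 h1)) g.1)
    · intro z _
      have : z.1 ∈ (_root_.commutator P).map P.subtype := by
        rw [map_subtype_commutator]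
        exact hPP z.2
      obtain ⟨y, hy, e⟩ := this
      rwa [← Subtype.ext e]
  have hbot := Cfsg.Agent.H50.hasTrivialMultiplier_iff.1 hM P π hπ
  intro x hx h1
  have : (⟨x, hx⟩ : P) ∈ π.ker := MonoidHom.mem_ker.2 (Subtype.ext h1)
  rw [hbot, mem_bot] at this
  exact congrArg Subtype.val this

/-! ### The edge stabiliser -/

theorem lAt_facts {n : ℕ} (hn : n < 168) :
    gElt (lAt n) • (0 : Fin 100) = 0 ∧ gElt (lAt n) • pP = pP ∧
    ((coverComm.getD n (0, 0)).1 < 168 ∧ (coverComm.getD n (0, 0)).2 < 168 ∧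
      gElt (lAt (coverComm.getD n (0, 0)).1) * gElt (lAt (coverComm.getD n (0, 0)).2) =
        gElt (lAt n) * (gElt (lAt (coverComm.getD n (0, 0)).2) *
          gElt (lAt (coverComm.getD n (0, 0)).1))) ∧
    ∀ m < n, gElt (lAt m) ≠ gElt (lAt n) := by
  have h := cover_edgeStab
  simp only [edgeStabOK, Bool.and_eq_true, allN_iff] at h
  obtain ⟨⟨⟨⟨⟨h0, hp⟩, hcm⟩, ha⟩, hb⟩, hd⟩ := h.2 n hn
  simp only [Nat.ble_eq] at ha hb
  refine ⟨smul_of_gImg h0, smul_of_gImg hp, ⟨ha, hb, ?_⟩, ?_⟩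
  · refine eq_of_gImg fun b hb' => Fin.ext ?_
    rw [mul_smul, mul_smul, mul_smul, ← gImg_eq, ← gImg_eq, ← gImg_eq, ← gImg_eq, ← gImg_eq]
    exact Nat.eq_of_beq_eq_true ((lall_iff _ _).1 hcm b hb')
  · intro m hm e
    have h' := hd m hm
    simp only [Bool.not_eq_true', ← Bool.not_eq_true, lall_iff] at h'
    apply h'
    intro b hb'
    rw [show b = ((⟨b, bases_lt b hb'⟩ : Fin 100) : ℕ) from rfl, gImg_eq, gImg_eq, e]
    exact Nat.beq_refl _

/-- The stabiliser of the base edge. -/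
noncomputable def edgeStab : Subgroup quoGrp :=
  MulAction.stabilizer quoGrp (0 : Fin 100) ⊓ MulAction.stabilizer quoGrp pP

theorem card_edgeStab : Nat.card edgeStab = 168 := by
  have e : edgeStab = (MulAction.stabilizer stab0 pP).map stab0.subtype := by
    ext g
    constructor
    · rintro ⟨h0, hp⟩
      exact ⟨⟨g, h0⟩, hp, rfl⟩
    · rintro ⟨⟨k, hk⟩, hp, rfl⟩
      exact ⟨hk, hp⟩
  rw [e, ← Nat.card_congr ((MulAction.stabilizer stab0 pP).equivMapOfInjective _
    stab0.subtype_injective).toEquiv]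
  have h := (MulAction.stabilizer stab0 pP).card_mul_index
  rw [MulAction.index_stabilizer, card_orbit36, card_stab0] at h
  omega

theorem edgeStab_perfect : edgeStab ≤ ⁅edgeStab, edgeStab⁆ := by
  let f : Fin 168 → edgeStab := fun n => ⟨gElt (lAt n), (lAt_facts n.2).1, (lAt_facts n.2).2.1⟩
  have hinj : Function.Injective f := by
    intro a b h
    have h' := congrArg Subtype.val h
    rcases lt_trichotomy (a : ℕ) b with hlt | heq | hgt
    · exact absurd h' ((lAt_facts b.2).2.2.2 a hlt)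
    · exact Fin.ext heq
    · exact absurd h'.symm ((lAt_facts a.2).2.2.2 b hgt)
  have hsurj : Function.Surjective f :=
    (hinj.bijective_of_nat_card_le (by rw [card_edgeStab, Nat.card_fin])).2
  intro g hg
  obtain ⟨n, hn⟩ := hsurj ⟨g, hg⟩
  have hg' : gElt (lAt n) = g := congrArg Subtype.val hn
  obtain ⟨-, -, ⟨ha, hb, e⟩, -⟩ := lAt_facts n.2
  set a := gElt (lAt (coverComm.getD n (0, 0)).1) with had
  set b := gElt (lAt (coverComm.getD n (0, 0)).2) with hbd
  have : g = ⁅a, b⁆ := by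
    rw [commutatorElement_def, e, hg']
    group
  rw [this]
  exact commutator_mem_commutator (f ⟨_, ha⟩).2 (f ⟨_, hb⟩).2

/-! ### The frame -/

variable {Γ : Type} [Group Γ] [Finite Γ] {σ : Γ →* quoGrp}

theorem frame_of_stem (hσ : IsStemExtension σ) : Frame σ (0 : Fin 100) pP sP where
  surj := hσ.1
  central := hσ.2.1
  s_o := sP_zero
  s_p := sP_pP
  s_sq := sP_sq
  perfect := stab0_perfect
  perfect_edge := edgeStab_perfect
  split := split_of_trivial hσ.1 hσ.2.1 stab0 stab0_perfect stab0_trivial_multiplier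

theorem exists_smul_zero (i : Fin 100) : ∃ g : quoGrp, g • (0 : Fin 100) = i := by
  by_cases hi : i = 0
  · exact ⟨1, by rw [hi, one_smul]⟩
  have h := (allN_iff _ _).1 cover_tree i i.2
  simp only [Bool.or_eq_true, Bool.and_eq_true, Nat.beq_eq, Nat.ble_eq] at h
  rcases h with h | ⟨⟨⟨⟨-, hlt⟩, -⟩, he⟩, -⟩
  · exact absurd (Fin.ext h) hi
  · obtain ⟨g, hg1, hg2⟩ := adj_of_hasEdge (i := ⟨_, hlt⟩) (j := i) he
    exact ⟨g * sP, by rw [mul_smul, sP_zero, hg2]⟩

open Classical in
/-- Lifts of elements moving 0 to each point. -/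
noncomputable def baseR (hσ : IsStemExtension σ) (i : Fin 100) : Γ :=
  if i = 0 then 1 else (hσ.1 (exists_smul_zero i).choose).choose

/-- The first cover. -/
noncomputable def cover0 (hσ : IsStemExtension σ) : Cover (frame_of_stem hσ) where
  t := (hσ.1 sP).choose
  t_spec := (hσ.1 sP).choose_spec
  r := baseR hσ
  r_spec i _ := by
    unfold baseR
    split
    · next h => rw [map_one, one_smul, h]
    · rw [(hσ.1 _).choose_spec]; exact (exists_smul_zero i).choose_spec

/-- The third point of a base triangle. -/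
noncomputable def baseX (c : Fin 2) : Fin 100 :=
  ⟨coverBase.getD c 0, (base_facts.2.2.2.2.1 c c.2).1⟩

theorem adj_base : Adj2 0 pP := ⟨1, one_smul _ _, one_smul _ _⟩

theorem adj_baseX (c : Fin 2) : Adj2 pP (baseX c) ∧ Adj2 (baseX c) 0 :=
  ⟨adj_of_hasEdge (base_facts.2.2.2.2.1 c c.2).2.1,
    adj_of_hasEdge (by rw [fin_zero]; exact (base_facts.2.2.2.2.1 c c.2).2.2)⟩

/-- The sum around a base triangle. -/
noncomputable def coverTau {F : Frame σ (0 : Fin 100) pP sP} (C : Cover F) (c : Fin 2) : σ.ker :=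
  C.val 0 pP * C.val pP (baseX c) * C.val (baseX c) 0

/-- The parent of a point. -/
def parP (j : Fin 100) : Fin 100 :=
  if h : coverPar.getD j 0 < 100 then ⟨coverPar.getD j 0, h⟩ else 0

theorem tree_facts {j : Fin 100} (hj : j ≠ 0) :
    parP (parP j) = 0 ∧ Adj2 (parP j) j ∧ (parP j : ℕ) = coverPar.getD j 0 := by
  have h := (allN_iff _ _).1 cover_tree j j.2
  simp only [Bool.or_eq_true, Bool.and_eq_true, Nat.beq_eq, Nat.ble_eq] at h
  rcases h with h | ⟨⟨⟨⟨hpp, hlt⟩, -⟩, he⟩, -⟩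
  · exact absurd (Fin.ext h) hj
  · have e : parP j = ⟨coverPar.getD j 0, hlt⟩ := dif_pos hlt
    refine ⟨?_, ?_, by rw [e]⟩
    · rw [e]
      unfold parP
      simp only [hpp]
      rfl
    · rw [e]
      exact adj_of_hasEdge he

section Normalised

variable (hσ : IsStemExtension σ)

/-- The shift of the lift of the swap. -/
noncomputable def shift : σ.ker := coverTau (cover0 hσ) 0 * (cover0 hσ).w

/-- The change of section making tree edges trivial. -/
noncomputable def potential (j : Fin 100) : σ.ker :=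
  if j = 0 then 1
  else if parP j = 0 then shift hσ * ((cover0 hσ).val 0 j)⁻¹
  else shift hσ * ((cover0 hσ).val 0 (parP j))⁻¹ * shift hσ * ((cover0 hσ).val (parP j) j)⁻¹

/-- The normalised cover. -/
noncomputable def cover1 : Cover (frame_of_stem hσ) :=
  (cover0 hσ).twist (shift hσ) (potential hσ)

theorem tree_val {j : Fin 100} (hj : j ≠ 0) : (cover1 hσ).val (parP j) j = 1 := by
  obtain ⟨hpp, hadj, -⟩ := tree_facts hj
  rw [cover1, Cover.twist_val _ _ _ hadj]
  let _ : CommGroup σ.ker :=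
    { (inferInstance : Group σ.ker) with mul_comm := (frame_of_stem hσ).ker_comm }
  by_cases hp : parP j = 0
  · rw [hp]
    simp only [potential, if_neg hj, if_pos hp, if_true]
    apply Additive.ofMul.injective
    simp only [ofMul_mul, ofMul_inv, ofMul_one]
    abel
  · simp only [potential, if_neg hj, if_neg hp, if_pos hpp]
    apply Additive.ofMul.injective
    simp only [ofMul_mul, ofMul_inv, ofMul_one]
    abel

theorem r_zero : (cover1 hσ).r 0 = 1 := by
  rw [cover1, Cover.twist_r]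
  simp [potential, cover0, baseR]

theorem tau_mul_w : coverTau (cover1 hσ) 0 * (cover1 hσ).w = 1 := by
  rw [coverTau, cover1, Cover.twist_val _ _ _ adj_base, Cover.twist_val _ _ _ (adj_baseX 0).1,
    Cover.twist_val _ _ _ (adj_baseX 0).2, Cover.twist_w, shift, coverTau]
  let _ : CommGroup σ.ker :=
    { (inferInstance : Group σ.ker) with mul_comm := (frame_of_stem hσ).ker_comm }
  apply Additive.ofMul.injective
  simp only [ofMul_mul, ofMul_inv, ofMul_one]
  abel

theorem r_mem_gen : ∀ i, (cover1 hσ).r i ∈ (cover1 hσ).gen := by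
  intro i
  have h0 : (cover1 hσ).r 0 ∈ (cover1 hσ).gen := by rw [r_zero]; exact one_mem _
  by_cases hi : i = 0
  · rw [hi]; exact h0
  obtain ⟨hpp, hadj, -⟩ := tree_facts hi
  refine Cover.r_mem_gen_of _ hadj (tree_val hσ hi) ?_
  by_cases hp : parP i = 0
  · rw [hp]; exact h0
  obtain ⟨-, hadj', -⟩ := tree_facts hp
  rw [hpp] at hadj'
  exact Cover.r_mem_gen_of _ hadj' (by have := tree_val hσ hp; rwa [hpp] at this) h0

/-- Value of a triple of exponents. -/
noncomputable def evV (v : ℤ × ℤ × ℤ) : σ.ker :=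
  (cover1 hσ).w ^ v.1 * coverTau (cover1 hσ) 0 ^ v.2.1 * coverTau (cover1 hσ) 1 ^ v.2.2

theorem evV_zero : evV hσ (0, 0, 0) = 1 := by simp [evV]

theorem evV_tauV (c : Fin 2) : evV hσ (tauV c) = coverTau (cover1 hσ) c := by
  fin_cases c <;> simp [evV, show tauV 0 = (0, 1, 0) from rfl, show tauV 1 = (0, 0, 1) from rfl]

theorem evV_add (a b : ℤ × ℤ × ℤ) : evV hσ (addV a b) = evV hσ a * evV hσ b := by
  let _ : CommGroup σ.ker :=
    { (inferInstance : Group σ.ker) with mul_comm := (frame_of_stem hσ).ker_comm }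
  simp only [evV, addV, zpow_add]
  apply Additive.ofMul.injective
  simp only [ofMul_mul, ofMul_inv, ofMul_one]
  abel

theorem evV_rev (v : ℤ × ℤ × ℤ) :
    evV hσ (-1 - v.1, -v.2.1, -v.2.2) = ((cover1 hσ).w)⁻¹ * (evV hσ v)⁻¹ := by
  let _ : CommGroup σ.ker :=
    { (inferInstance : Group σ.ker) with mul_comm := (frame_of_stem hσ).ker_comm }
  simp only [evV, zpow_sub, zpow_neg, zpow_one]
  apply Additive.ofMul.injective
  simp only [ofMul_mul, ofMul_inv, ofMul_one]
  abel

theorem beqV_eq {a b : ℤ × ℤ × ℤ} (h : beqV a b = true) : a = b := by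
  simp only [beqV, Bool.and_eq_true, decide_eq_true_eq] at h
  exact Prod.ext h.1.1 (Prod.ext h.1.2 h.2)

/-- The first end of an earlier edge. -/
def Known (q : ℕ) : Prop :=
  ∀ i j : Fin 100, (stepAt q).i = i → (stepAt q).j = j →
    (cover1 hσ).val i j = evV hσ (stepAt q).v

theorem val_at {p : ℕ} (hp : p / 2 < 1800) (h : Known hσ (p / 2)) {a b : Fin 100}
    (ha : endA p = a) (hb : endB p = b) :
    (cover1 hσ).val a b = evV hσ (valAt p) ∧ Adj2 a b := by
  obtain ⟨i, j, hi, hj, g0, gp⟩ := step_ends hp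
  have hadj : Adj2 i j := ⟨_, g0, gp⟩
  unfold endA at ha
  unfold endB at hb
  unfold valAt
  cases hpar : Nat.beq (p % 2) 0 <;> rw [hpar] at ha hb <;> simp only [cond_true, cond_false] at ha hb ⊢
  · rw [hj] at ha
    rw [hi] at hb
    obtain rfl := Fin.ext ha
    obtain rfl := Fin.ext hb
    refine ⟨?_, hadj.symm (frame_of_stem hσ)⟩
    have hs := (cover1 hσ).val_symm hadj
    rw [evV_rev, ← h i j hi hj]
    let _ : CommGroup σ.ker :=
      { (inferInstance : Group σ.ker) with mul_comm := (frame_of_stem hσ).ker_comm }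
    rw [← hs]
    apply Additive.ofMul.injective
    simp only [ofMul_mul, ofMul_inv, ofMul_one]
    abel
  · rw [hi] at ha
    rw [hj] at hb
    obtain rfl := Fin.ext ha
    obtain rfl := Fin.ext hb
    exact ⟨h i j hi hj, hadj⟩

theorem tri_sum (c : Fin 2) {g : ℕ} {i j k : Fin 100} (h : triOK i j c k g = true) :
    (cover1 hσ).val i j * (cover1 hσ).val j k * (cover1 hσ).val k i = coverTau (cover1 hσ) c := by
  simp only [triOK, Bool.and_eq_true] at h
  have h0 : gElt g • (0 : Fin 100) = i := smul_of_gImg h.1.1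
  have hp : gElt g • pP = j := smul_of_gImg h.1.2
  have hx : gElt g • baseX c = k := smul_of_gImg h.2
  have := (cover1 hσ).val_tri adj_base (adj_baseX c).1 (adj_baseX c).2 (gElt g)
  rw [h0, hp, hx] at this
  exact this

theorem known : ∀ q, q < 1800 → Known hσ q := by
  intro q
  induction q using Nat.strong_induction_on with
  | _ q ih =>
    intro hq i j hi hj
    have hs := step_basic hq
    simp only [stepOK, Bool.and_eq_true, Nat.ble_eq] at hs
    obtain ⟨-, hs⟩ := hs
    cases hk : Nat.beq (stepAt q).kind 0 <;> rw [hk] at hs <;>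
      simp only [cond_true, cond_false, Bool.and_eq_true, Nat.ble_eq, Nat.beq_eq,
        Bool.not_eq_true'] at hs
    · obtain ⟨⟨⟨⟨⟨⟨⟨⟨hk2, htri⟩, hpq⟩, hqq⟩, a1⟩, b1⟩, a2⟩, b2⟩, hv⟩ := hs
      have hkind : 1 ≤ (stepAt q).kind := by
        rcases Nat.eq_zero_or_pos (stepAt q).kind with h0 | h0
        · rw [h0] at hk; simp at hk
        · exact h0
      set c : Fin 2 := ⟨(stepAt q).kind - 1, by omega⟩
      have hk100 : (stepAt q).k < 100 := by
        simp only [triOK, Bool.and_eq_true, Nat.beq_eq] at htri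
        rw [← htri.2, show coverBase.getD ((stepAt q).kind - 1) 0 = (baseX c : ℕ) from rfl, gImg_eq]
        exact (gElt _ • baseX c).2
      set k : Fin 100 := ⟨(stepAt q).k, hk100⟩
      rw [hj] at a1
      rw [hi] at b2
      obtain ⟨v1, -⟩ := val_at hσ (a := j) (b := k) (by omega) (ih _ (by omega) (by omega)) a1 b1
      obtain ⟨v2, -⟩ := val_at hσ (a := k) (b := i) (by omega) (ih _ (by omega) (by omega)) a2 b2
      rw [hi, hj] at htri
      have ht := tri_sum hσ c (i := i) (j := j) (k := k) htri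
      rw [v1, v2, ← evV_tauV hσ c, show tauV c = tauV ((stepAt q).kind - 1) from rfl,
        ← beqV_eq hv, evV_add, evV_add, mul_assoc] at ht
      exact mul_right_cancel ht
    · obtain ⟨⟨hpar, hj0⟩, hv⟩ := hs
      have hjne : j ≠ 0 := by
        rintro rfl
        rw [hj] at hj0
        simp at hj0
      rw [hj, hi] at hpar
      have : parP j = i := Fin.ext (by rw [(tree_facts hjne).2.2, hpar])
      rw [← this, tree_val hσ hjne, beqV_eq hv, evV_zero]

theorem relation {d : ℕ × ℕ × ℕ × ℕ × ℕ × ℕ} {v : ℤ × ℤ × ℤ} (h : coverRelOK d v = true) :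
    evV hσ v = 1 := by
  obtain ⟨c, k, g, p, q, r⟩ := d
  simp only [coverRelOK, Bool.and_eq_true, Nat.ble_eq] at h
  obtain ⟨⟨⟨⟨⟨⟨⟨⟨⟨hc, htri⟩, hp⟩, hq⟩, hr⟩, aq⟩, bq⟩, ar⟩, br⟩, hv⟩ := h
  simp only [Nat.beq_eq] at aq bq ar br
  obtain ⟨a0, b0, hA, hB, -, -⟩ := step_ends (show p / 2 < 1800 by omega)
  have hlt : endA p < 100 ∧ endB p < 100 := by
    unfold endA endB
    cases Nat.beq (p % 2) 0 <;> simp only [cond_true, cond_false, hA, hB] <;>
      exact ⟨Fin.is_lt _, Fin.is_lt _⟩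
  set c' : Fin 2 := ⟨c, by omega⟩
  have hk : k < 100 := by
    simp only [triOK, Bool.and_eq_true, Nat.beq_eq] at htri
    rw [← htri.2, show coverBase.getD c 0 = (baseX c' : ℕ) from rfl, gImg_eq]
    exact (gElt _ • baseX c').2
  set i : Fin 100 := ⟨endA p, hlt.1⟩
  set j : Fin 100 := ⟨endB p, hlt.2⟩
  set k' : Fin 100 := ⟨k, hk⟩
  obtain ⟨v1, -⟩ := val_at hσ (a := i) (b := j) (by omega) (known hσ _ (by omega)) rfl rfl
  obtain ⟨v2, -⟩ := val_at hσ (a := j) (b := k') (by omega) (known hσ _ (by omega)) aq bq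
  obtain ⟨v3, -⟩ := val_at hσ (a := k') (b := i) (by omega) (known hσ _ (by omega)) ar br
  have ht := tri_sum hσ c' (i := i) (j := j) (k := k') htri
  rw [v1, v2, v3, mul_assoc, ← evV_add, ← evV_add, beqV_eq hv, evV_add, ← evV_tauV] at ht
  exact mul_eq_right.1 ht

theorem val_mem {i j : Fin 100} (h : Adj2 i j) :
    (cover1 hσ).val i j ∈ Subgroup.zpowers (cover1 hσ).w := by
  have hw := Subgroup.mem_zpowers (cover1 hσ).w
  have ha : coverTau (cover1 hσ) 0 = ((cover1 hσ).w)⁻¹ := eq_inv_of_mul_eq_one_left (tau_mul_w hσ)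
  have hb : coverTau (cover1 hσ) 1 ∈ Subgroup.zpowers (cover1 hσ).w := by
    have h1 := relation hσ cover_relA
    simp only [evV, zpow_one] at h1
    rw [mul_eq_one_iff_eq_inv'.1 h1]
    exact inv_mem (mul_mem (zpow_mem hw _) (by rw [ha]; exact inv_mem hw))
  have hev : ∀ v, evV hσ v ∈ Subgroup.zpowers (cover1 hσ).w := fun v =>
    mul_mem (mul_mem (zpow_mem hw _) (zpow_mem (by rw [ha]; exact inv_mem hw) _)) (zpow_mem hb _)
  have hb' := hasEdge_of_adj h
  unfold hasEdge edgeMask at hb'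
  obtain ⟨s, hs, hh⟩ := (testBit_fold _ _).1 hb'
  obtain ⟨q, hq, rfl⟩ := exists_stepAt hs
  obtain ⟨a, b, hA, hB, g0, gp⟩ := step_ends hq
  rw [hA, hB] at hh
  rcases hh with hh | hh
  · obtain ⟨e1, e2⟩ := ecd_inj b.2 j.2 hh
    obtain rfl := Fin.ext e1
    obtain rfl := Fin.ext e2
    rw [known hσ q hq a b hA hB]
    exact hev _
  · obtain ⟨e1, e2⟩ := ecd_inj a.2 j.2 hh
    obtain rfl := Fin.ext e1
    obtain rfl := Fin.ext e2
    have hs := (cover1 hσ).val_symm (show Adj2 a b from ⟨_, g0, gp⟩)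
    rw [eq_inv_mul_of_mul_eq hs, known hσ q hq a b hA hB]
    exact mul_mem (inv_mem (hev _)) (inv_mem hw)

theorem w_sq : (cover1 hσ).w * (cover1 hσ).w = 1 := by
  have ha : coverTau (cover1 hσ) 0 = ((cover1 hσ).w)⁻¹ := eq_inv_of_mul_eq_one_left (tau_mul_w hσ)
  have h1 := relation hσ cover_relA
  have h2 := relation hσ cover_relB
  simp only [evV, zpow_one, zpow_zero, one_mul, ha] at h1 h2
  rw [mul_eq_one_iff_eq_inv'.1 h1] at h2
  generalize (cover1 hσ).w = x at h2
  group at h2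
  rw [← zpow_two] at *
  exact h2

include hσ in
theorem exists_surjection : ∃ π : Multiplicative (ZMod 2) →* σ.ker, Function.Surjective π := by
  have htop := (cover1 hσ).ker_le hσ.2.2 exists_smul_zero (r_zero hσ) (r_mem_gen hσ)
    (Subgroup.zpowers (cover1 hσ).w) fun i j h => val_mem hσ h
  set x := (cover1 hσ).w
  have hx : x ^ 2 = 1 := by rw [pow_two]; exact w_sq hσ
  refine ⟨{ toFun := fun a => x ^ (Multiplicative.toAdd a).val
            map_one' := by simp
            map_mul' := fun a b => ?_ }, ?_⟩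
  · rw [← pow_add, toAdd_mul, ZMod.val_add]
    exact (pow_eq_pow_mod _ hx).symm
  · intro y
    have hy : y ∈ Subgroup.zpowers x := by rw [htop]; trivial
    obtain ⟨n, rfl⟩ := hy
    refine ⟨Multiplicative.ofAdd (n : ZMod 2), ?_⟩
    show x ^ (n : ZMod 2).val = x ^ n
    rw [← zpow_natCast, ZMod.val_intCast]
    exact (zpow_eq_zpow_emod n (by exact_mod_cast hx)).symm

end Normalised

/-! ### The cover of order two -/

theorem wordVal_ok (w : List ℕ) :
    dblSound.ok (wordVal dblOps dblPrim w) ∧ dblSound.den (wordVal dblOps dblPrim w) ∈ dblGrp := by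
  have hp : ∀ a ∈ dblPrim, dblSound.ok a ∧ dblSound.den a ∈ dblGrp := by
    intro a ha
    rw [← prim_zip.1] at ha
    obtain ⟨b, hb, rfl⟩ := List.mem_map.1 ha
    refine ⟨(prim_facts hb).2.1, ?_⟩
    rw [dblGrp_eq]
    exact Subgroup.subset_closure ⟨_, prim_zip.1 ▸ List.mem_map.2 ⟨b, hb, rfl⟩, rfl⟩
  exact slpRun_mem dblSound dblGrp [w] dblPrim hp _ (by simp [slpRun])

theorem quoMap_stem : IsStemExtension quoMap := by
  refine ⟨quoMap_surjective, center_dblGrp.ge, fun g hg => ?_⟩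
  rcases ker_quoMap (MonoidHom.mem_ker.1 hg) with rfl | rfl
  · exact one_mem _
  obtain ⟨oa, ma⟩ := wordVal_ok coverAnti.1
  obtain ⟨ob, mb⟩ := wordVal_ok coverAnti.2
  set A : dblGrp := ⟨_, ma⟩
  set B : dblGrp := ⟨_, mb⟩
  have hk : A * B = zed * (B * A) := by
    apply Subtype.ext
    show dblSound.den _ * dblSound.den _ = dblSound.den dblCen * (dblSound.den _ * dblSound.den _)
    have h := cover_anti
    unfold antiOK at h
    rw [dblSound.eqv_iff (dblSound.ok_mul oa ob)
      (dblSound.ok_mul cen_facts.1 (dblSound.ok_mul ob oa)), dblSound.den_mul oa ob,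
      dblSound.den_mul cen_facts.1 (dblSound.ok_mul ob oa), dblSound.den_mul ob oa] at h
    exact h
  have : zed = ⁅A, B⁆ := by
    rw [commutatorElement_def, hk]
    group
  rw [this]
  exact Subgroup.commutator_mem_commutator (Subgroup.mem_top _) (Subgroup.mem_top _)

theorem multiplier_quoGrp : HasCyclicSchurMultiplier quoGrp 2 := by
  have hfin : Finite dblGrp := Nat.finite_of_card_ne_zero (by rw [card_dblGrp]; norm_num)
  have : Fact (Nat.Prime 2) := ⟨Nat.prime_two⟩
  have : IsCyclic quoMap.ker := isCyclic_of_prime_card card_ker_quoMap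
  refine ⟨⟨dblGrp, inferInstance, hfin, quoMap, quoMap_stem, ?_⟩, fun Γ _ _ τ hτ => exists_surjection hτ⟩
  exact ⟨mulEquivOfCyclicCardEq (by rw [card_ker_quoMap]; simp)⟩

theorem multiplier_J2 : HasCyclicSchurMultiplier Cfsg.Spor.J2 2 :=
  hasSchurMultiplier_congr_base equivJ2.symm multiplier_quoGrp

end Cfsg.Agent.Compute.J2
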