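import Cfsg.Agent.Compute.J2.StabData
import Cfsg.Agent.Compute.J2.GroupDefs
import Cfsg.Agent.H67.U33Model

/-!
Operations and checks for the point stabiliser among 100 and the group SU(3,3).
-/

set_option autoImplicit false

namespace Cfsg.Agent.Compute.J2

open Cfsg.Agent.H67.U33

noncomputable def suOps : Ops (ℕ × ℕ) := prodOps (permOps 6 63) (permOps 7 100)

/-- The tail of the chain on 100 points. -/
def stabChain : List (Level ℕ) := [quoLvl1, quoLvl2, quoLvl3]

/-- The scalars of norm one. -/
def unitC : List ℕ := [1, 2, 3, 6]

/-- The least multiple of a code by a scalar of norm one. -/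
def canonL (n : ℕ) : ℕ := unitC.foldl (fun m c => min m (smulN c n)) 729

/-- The position of the line of a code. -/
def lineIdx (n : ℕ) : ℕ := suLines.idxOf (canonL n)

/-- The representative of a line. -/
def lineRep (i : ℕ) : ℕ := suLines.getD i 0

/-- The lines are numbered consistently. -/
def suLinesOK : Bool :=
  ((List.range 63).all fun i => decide (lineRep i < 729) && (hermN (lineRep i) (lineRep i) == 3) &&
    (lineIdx (lineRep i) == i)) &&
  ((List.range 729).all fun n => !(hermN n n == 3) ||
    (decide (lineIdx n < 63) && (unitC.any fun c => smulN c (lineRep (lineIdx n)) == n) &&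
      (unitC.all fun c => lineIdx (smulN c n) == lineIdx n)))

/-- The permutation part of each paired generator is the action of the unitary generator. -/
def suPermOK : Bool :=
  (List.range 63).all fun i =>
    ((suPrim.getD 0 (0, 0)).1 / 2 ^ (6 * i) % 64 == lineIdx (imgN (suC.getD 0 []) (lineRep i))) &&
    ((suPrim.getD 1 (0, 0)).1 / 2 ^ (6 * i) % 64 == lineIdx (imgN (suC.getD 1 []) (lineRep i)))

theorem suChain_ok : checkChain suOps suChain = true := by decide +kernel

theorem suGen_ok : genBy suOps suChain suPrim suWords = true := by decide +kernel

theorem suPrim_ok :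
    (lall (List.zip suPrim suPrimInv) (fun a =>
      suOps.okInv a.1 a.2 && sift quoOps stabChain a.1.2)) = true := by decide +kernel

theorem stabGen_ok : genBy quoOps stabChain (suPrim.map Prod.snd) stabWords = true := by
  decide +kernel

theorem suLines_ok : suLinesOK = true := by decide +kernel

theorem suPerm_ok : suPermOK = true := by decide +kernel

end Cfsg.Agent.Compute.J2
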