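import Cfsg.Agent.Compute.J2.Model
import Cfsg.Agent.Compute.J2.StabDefs
import Cfsg.Agent.Unitary.Order
import Cfsg.Agent.Unitary.Center
import Mathlib.FieldTheory.Finite.GaloisField

/-!
The stabiliser of a point among 100 in the quotient of 2J2 is isomorphic to `PSU(3,3)`.
-/

set_option autoImplicit false

namespace Cfsg.Agent.Compute.J2

open Cfsg Cfsg.Agent.H67.U33 Matrix

noncomputable def suSound : Sound (G := Equiv.Perm (Fin 63) × Equiv.Perm (Fin 100)) suOps :=
  Sound.prod (permSound 6 63 (by norm_num)) (permSound 7 100 (by norm_num))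

/-- The stabiliser of the point 0. -/
noncomputable def stab0 : Subgroup quoGrp := MulAction.stabilizer quoGrp (0 : Fin 100)

theorem quoSound_act (g : Equiv.Perm (Fin 100)) (p : Fin 100) :
    quoSound.act g p = (g p : ℕ) := by
  show permAct 100 g p = _
  simp [permAct]

theorem quoChain_eq : quoChain = quoLvl0 :: stabChain := rfl

theorem quoLvl0_base : quoLvl0.base = 0 := rfl

theorem stabChain_order : order stabChain = 6048 := by decide +kernel

theorem suChain_order : order suChain = 6048 := by decide +kernel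

theorem suPrim_len : suPrim.length = 2 ∧ suPrimInv.length = 2 := by decide +kernel

theorem getP_div (a i : ℕ) : getP 6 a i = a / 2 ^ (6 * i) % 64 := getP_eq 6 a i

attribute [local irreducible] packP mulMat nth quoChain suChain suPrim suPrimInv quoSound suSound
  quoOps suOps stabChain suLines

theorem suPrim_facts {a : ℕ × ℕ} (h : a ∈ suPrim) :
    suSound.ok a ∧ sift quoOps stabChain a.2 = true := by
  obtain ⟨i, hi, rfl⟩ := List.getElem_of_mem h
  have hz : (suPrim[i], suPrimInv[i]'(by rw [suPrim_len.2, ← suPrim_len.1]; exact hi)) ∈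
      List.zip suPrim suPrimInv := by
    rw [List.mem_iff_getElem]
    exact ⟨i, by simpa [suPrim_len] using hi, by simp⟩
  have := (lall_iff _ _).1 suPrim_ok _ hz
  rw [Bool.and_eq_true] at this
  exact ⟨(suSound.okInv_sound this.1).1, this.2⟩

theorem quo_ok_snd {a : ℕ × ℕ} (h : suSound.ok a) :
    quoSound.ok a.2 ∧ quoSound.den a.2 = (suSound.den a).2 := by
  unfold suSound at h ⊢
  unfold quoSound
  exact ⟨h.2, rfl⟩

theorem su_fst {a : ℕ × ℕ} (h : suSound.ok a) :
    PermOK 6 63 a.1 ∧ (suSound.den a).1 = permDen 6 63 a.1 := by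
  unfold suSound at h ⊢
  exact ⟨h.1, rfl⟩

theorem mem_stab0_iff (g : quoGrp) : g ∈ stab0 ↔ (g : Equiv.Perm (Fin 100)) ∈ quoSound.grp stabChain := by
  have hc : checkChain quoOps (quoLvl0 :: stabChain) = true := quoChain_eq ▸ quoChain_ok
  have hg : (g : Equiv.Perm (Fin 100)) ∈ quoSound.grp (quoLvl0 :: stabChain) := quoChain_eq ▸ g.2
  rw [mem_tail_iff quoSound hc, quoLvl0_base]
  constructor
  · intro h
    refine ⟨hg, ?_⟩
    rw [show (0 : ℕ) = ((0 : Fin 100) : ℕ) from rfl, quoSound_act]
    exact congrArg Fin.val h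
  · intro h
    have h2 := h.2
    rw [show (0 : ℕ) = ((0 : Fin 100) : ℕ) from rfl, quoSound_act] at h2
    exact Fin.ext h2

theorem stabGrp_le : quoSound.grp stabChain ≤ quoGrp := by
  intro x hx
  have hc : checkChain quoOps (quoLvl0 :: stabChain) = true := quoChain_eq ▸ quoChain_ok
  rw [quoGrp, quoChain_eq]
  exact ((mem_tail_iff quoSound hc x).1 hx).1

theorem stab0_map : stab0.map quoGrp.subtype = quoSound.grp stabChain := by
  ext x
  constructor
  · rintro ⟨g, hg, rfl⟩
    exact (mem_stab0_iff g).1 hg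
  · intro hx
    exact ⟨⟨x, stabGrp_le hx⟩, (mem_stab0_iff _).2 hx, rfl⟩

theorem checkChain_stab : checkChain quoOps stabChain = true :=
  checkChain_tail (quoChain_eq ▸ quoChain_ok : checkChain quoOps (quoLvl0 :: stabChain) = true)

theorem card_stabGrp : Nat.card (quoSound.grp stabChain) = 6048 := by
  rw [(checkChain_sound quoSound checkChain_stab).card, stabChain_order]

theorem card_stab0 : Nat.card stab0 = 6048 := by
  rw [← card_stabGrp, ← stab0_map]
  exact Nat.card_congr (stab0.equivMapOfInjective _ quoGrp.subtype_injective).toEquiv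

theorem stabGrp_eq :
    quoSound.grp stabChain = Subgroup.closure (quoSound.den '' {a | a ∈ suPrim.map Prod.snd}) :=
  genBy_sound quoSound checkChain_stab stabGen_ok fun a ha => by
    obtain ⟨b, hb, rfl⟩ := List.mem_map.1 ha
    exact (quo_ok_snd (suPrim_facts hb).1).1

theorem suGrp_eq : suSound.grp suChain = Subgroup.closure (suSound.den '' {a | a ∈ suPrim}) :=
  genBy_sound suSound suChain_ok suGen_ok fun _ ha => (suPrim_facts ha).1

theorem map_snd : (suSound.grp suChain).map (MonoidHom.snd _ _) = quoSound.grp stabChain := by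
  rw [suGrp_eq, stabGrp_eq, MonoidHom.map_closure]
  congr 1
  ext g
  simp only [Set.mem_image, Set.mem_setOf_eq, List.mem_map]
  constructor
  · rintro ⟨_, ⟨a, ha, rfl⟩, rfl⟩
    exact ⟨a.2, ⟨a, ha, rfl⟩, (quo_ok_snd (suPrim_facts ha).1).2⟩
  · rintro ⟨_, ⟨a, ha, rfl⟩, rfl⟩
    exact ⟨_, ⟨a, ha, rfl⟩, ((quo_ok_snd (suPrim_facts ha).1).2).symm⟩

theorem card_suGrp : Nat.card (suSound.grp suChain) = 6048 := by
  rw [(checkChain_sound suSound suChain_ok).card, suChain_order]

theorem snd_injective :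
    Function.Injective ((MonoidHom.snd _ _).subgroupMap (suSound.grp suChain)) := by
  have hfin : Finite (suSound.grp suChain) :=
    Nat.finite_of_card_ne_zero (by rw [card_suGrp]; norm_num)
  refine (Function.Surjective.bijective_of_nat_card_le
    (MonoidHom.subgroupMap_surjective _ _) ?_).1
  rw [card_suGrp, map_snd, card_stabGrp]

theorem nonempty_equiv_suGrp : Nonempty (suSound.grp suChain ≃* stab0) := by
  refine ⟨((MulEquiv.ofBijective _ ⟨snd_injective, MonoidHom.subgroupMap_surjective _ _⟩).trans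
    (MulEquiv.subgroupCongr map_snd)).trans ?_⟩
  exact (MulEquiv.subgroupCongr stab0_map.symm).trans
    (stab0.equivMapOfInjective _ quoGrp.subtype_injective).symm

/-! ### The action on the lines -/

theorem rep_facts {i : ℕ} (hi : i < 63) :
    lineRep i < 729 ∧ hermN (lineRep i) (lineRep i) = 3 ∧ lineIdx (lineRep i) = i := by
  have h := suLines_ok
  simp only [suLinesOK, Bool.and_eq_true, List.all_eq_true, List.mem_range, beq_iff_eq,
    decide_eq_true_eq] at h
  exact ⟨(h.1 i hi).1.1, (h.1 i hi).1.2, (h.1 i hi).2⟩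

theorem sphere_facts {n : ℕ} (hn : n < 729) (hs : hermN n n = 3) :
    lineIdx n < 63 ∧ (∃ c ∈ unitC, smulN c (lineRep (lineIdx n)) = n) ∧
      ∀ c ∈ unitC, lineIdx (smulN c n) = lineIdx n := by
  have h := suLines_ok
  simp only [suLinesOK, Bool.and_eq_true, List.all_eq_true, List.mem_range, Bool.or_eq_true,
    Bool.not_eq_true', beq_eq_false_iff_ne, beq_iff_eq, decide_eq_true_eq, List.any_eq_true] at h
  rcases h.2 n hn with h' | ⟨⟨h1, h2⟩, h3⟩
  · exact absurd hs h'
  · exact ⟨h1, h2, h3⟩

theorem unit_lt {c : ℕ} (hc : c ∈ unitC) : c < 9 :=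
  (show ∀ c ∈ unitC, c < 9 by decide) c hc

theorem hermN_mulVec {M : Matrix (Fin 3) (Fin 3) K9} (hM : Uni M) {n : ℕ} (hn : n < 729) :
    hermN (enc (M *ᵥ dec n)) (enc (M *ᵥ dec n)) = hermN n n := by
  rw [← ecode_herm, herm_mulVec hM, ecode_herm, enc_dec n hn]

variable {F : Type*} [Field F] [Fintype F]

/-- The image of a line. -/
noncomputable def lineMap (hF : Fintype.card F = 9) (g : SU 3 F 3) (i : Fin 63) : Fin 63 :=
  ⟨lineIdx (enc (g9 hF g *ᵥ dec (lineRep i))),
    (sphere_facts (enc_lt _) (by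
      rw [hermN_mulVec (g9_spec hF g) (rep_facts i.2).1, (rep_facts i.2).2.1])).1⟩

theorem lineMap_one (hF : Fintype.card F = 9) (i : Fin 63) : lineMap hF 1 i = i := by
  apply Fin.ext
  show lineIdx (enc (g9 hF 1 *ᵥ dec (lineRep i))) = i
  rw [map_one, Matrix.one_mulVec, enc_dec _ (rep_facts i.2).1, (rep_facts i.2).2.2]

theorem lineMap_mul (hF : Fintype.card F = 9) (g h : SU 3 F 3) (i : Fin 63) :
    lineMap hF (g * h) i = lineMap hF g (lineMap hF h i) := by
  apply Fin.ext
  show lineIdx (enc (g9 hF (g * h) *ᵥ dec (lineRep i))) =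
    lineIdx (enc (g9 hF g *ᵥ dec (lineRep (lineMap hF h i))))
  set v := g9 hF h *ᵥ dec (lineRep i) with hv
  have hs : hermN (enc v) (enc v) = 3 := by
    rw [hv, hermN_mulVec (g9_spec hF h) (rep_facts i.2).1, (rep_facts i.2).2.1]
  obtain ⟨hj, ⟨c, hc, he⟩, -⟩ := sphere_facts (enc_lt v) hs
  set j := lineIdx (enc v) with hjd
  have hji : ((lineMap hF h i : Fin 63) : ℕ) = j := rfl
  rw [hji, map_mul, ← Matrix.mulVec_mulVec, ← hv]
  have hv' : v = edec c • dec (lineRep j) := by
    have : enc v = enc (edec c • dec (lineRep j)) := by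
      rw [enc_smul, ecode_edec c (unit_lt hc), enc_dec _ (rep_facts hj).1, he]
    rw [← dec_enc v, this, dec_enc]
  rw [hv', Matrix.mulVec_smul, enc_smul, ecode_edec c (unit_lt hc)]
  refine (sphere_facts (enc_lt _) ?_).2.2 c hc
  rw [hermN_mulVec (g9_spec hF g) (rep_facts hj).1, (rep_facts hj).2.1]

/-- The action on the lines. -/
noncomputable def linePerm (hF : Fintype.card F = 9) : SU 3 F 3 →* Equiv.Perm (Fin 63) :=
  MonoidHom.toHomPerm
    { toFun := fun g => (lineMap hF g : Function.End (Fin 63))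
      map_one' := funext (lineMap_one hF)
      map_mul' := fun g h => funext (lineMap_mul hF g h) }

theorem linePerm_apply (hF : Fintype.card F = 9) (g : SU 3 F 3) (i : Fin 63) :
    linePerm hF g i = lineMap hF g i := rfl

theorem card_SU33 (hF : Fintype.card F = 9) : Nat.card (SU 3 F 3) = 6048 := by
  have hF' : Fintype.card F = 3 ^ 2 := hF
  have h2 := Unitary.card_GU_eq_mul_card_SU hF' (n := 3) (by norm_num)
  rw [Unitary.card_GU hF'] at h2
  simp [Finset.prod_range_succ, Unitary.guFactor, Nat.even_iff] at h2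
  omega

theorem suPerm_facts {k i : ℕ} (hk : k < 2) (hi : i < 63) :
    getP 6 (suPrim.getD k (0, 0)).1 i = lineIdx (imgN (suC.getD k []) (lineRep i)) := by
  have h := suPerm_ok
  simp only [suPermOK, List.all_eq_true, List.mem_range, Bool.and_eq_true, beq_iff_eq] at h
  rw [getP_div]
  rcases (show k = 0 ∨ k = 1 by omega) with rfl | rfl
  · exact (h i hi).1
  · exact (h i hi).2

theorem prim_in_range (hF : Fintype.card F = 9) {a : ℕ × ℕ} (ha : a ∈ suPrim) :
    (suSound.den a).1 ∈ (linePerm hF).range := by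
  obtain ⟨k, hk, rfl⟩ := List.getElem_of_mem ha
  obtain ⟨ok, hden⟩ := su_fst (suPrim_facts (List.getElem_mem hk)).1
  have hlen : suGens.length = 2 := rfl
  have hk2 : k < suGens.length := by rw [hlen, ← suPrim_len.1]; exact hk
  obtain ⟨g, hg⟩ := g9_surj hF (gens_facts.1 _ (List.getElem_mem hk2)).1
    (gens_facts.1 _ (List.getElem_mem hk2)).2
  refine ⟨g, Equiv.ext fun i => Fin.ext ?_⟩
  rw [hden, permDen_apply ok, linePerm_apply]
  have hs := suPerm_facts (k := k) (by rw [← suPrim_len.1]; exact hk) i.2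
  rw [List.getD_eq_getElem _ _ hk] at hs
  rw [hs]
  show lineIdx (enc (g9 hF g *ᵥ dec (lineRep i))) = _
  rw [hg, enc_mulVec, enc_dec _ (rep_facts i.2).1, ← suC_eq,
    List.getD_eq_getElem _ _ (by simpa using hk2), List.getElem_map]

theorem fst_injective :
    Function.Injective ((MonoidHom.fst (Equiv.Perm (Fin 63)) (Equiv.Perm (Fin 100))).comp
      (suSound.grp suChain).subtype) := by
  intro x y h
  apply Subtype.ext
  refine eq_of_bases suSound suChain_ok x.2 y.2 fun b _ => ?_
  have h' : (x : Equiv.Perm (Fin 63) × Equiv.Perm (Fin 100)).1 = y.1.1 := h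
  unfold suSound
  show permAct 63 x.1.1 b = permAct 63 y.1.1 b
  rw [h']

theorem nonempty_SU_equiv (hF : Fintype.card F = 9) : Nonempty (SU 3 F 3 ≃* stab0) := by
  obtain ⟨e⟩ := nonempty_equiv_suGrp
  set p := (MonoidHom.fst (Equiv.Perm (Fin 63)) (Equiv.Perm (Fin 100))).comp
    (suSound.grp suChain).subtype with hp
  have hle : p.range ≤ (linePerm hF).range := by
    rw [hp, MonoidHom.range_comp, Subgroup.range_subtype, suGrp_eq, MonoidHom.map_closure,
      Subgroup.closure_le]
    rintro _ ⟨_, ⟨a, ha, rfl⟩, rfl⟩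
    exact prim_in_range hF ha
  have hpc : Nat.card p.range = 6048 := by
    rw [← Nat.card_congr (MonoidHom.ofInjective fst_injective).toEquiv, card_suGrp]
  have hfin : Finite (SU 3 F 3) := Nat.finite_of_card_ne_zero (by rw [card_SU33 hF]; norm_num)
  have hlc : Nat.card (linePerm hF).range = 6048 := by
    refine le_antisymm ?_ ?_
    · rw [← card_SU33 hF]
      exact Nat.card_le_card_of_surjective _ (linePerm hF).rangeRestrict_surjective
    · rw [← hpc]
      exact Subgroup.card_le_of_le hle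
  have heq : p.range = (linePerm hF).range :=
    Subgroup.eq_of_le_of_card_ge hle (by rw [hlc, hpc])
  have hinj : Function.Injective (linePerm hF).rangeRestrict :=
    ((linePerm hF).rangeRestrict_surjective.bijective_of_nat_card_le
      (by rw [hlc, card_SU33 hF])).1
  exact ⟨((MulEquiv.ofBijective _ ⟨hinj, (linePerm hF).rangeRestrict_surjective⟩).trans
    (MulEquiv.subgroupCongr heq.symm)).trans ((MonoidHom.ofInjective fst_injective).symm.trans e)⟩

theorem nonempty_PSU_equiv (hF : Fintype.card F = 9) : Nonempty (PSU 3 F 3 ≃* stab0) := by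
  obtain ⟨e⟩ := nonempty_SU_equiv hF
  have hF' : Fintype.card F = 3 ^ 2 := hF
  have hcen : Subgroup.center (SU 3 F 3) = ⊥ :=
    Subgroup.card_eq_one.1 ((Unitary.card_center_SU (n := 3) (q := 3) hF' (by norm_num)).trans rfl)
  exact ⟨((QuotientGroup.quotientMulEquivOfEq hcen).trans QuotientGroup.quotientBot).trans e⟩

theorem exists_field_nine :
    ∃ (F : Type) (_ : Field F) (_ : Fintype F), Fintype.card F = 9 := by
  haveI : Fact (Nat.Prime 3) := ⟨Nat.prime_three⟩
  refine ⟨GaloisField 3 2, inferInstance, Fintype.ofFinite _, ?_⟩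
  rw [Fintype.card_eq_nat_card, GaloisField.card 3 2 two_ne_zero]
  norm_num

theorem exists_psu : ∃ (F : Type) (_ : Field F) (_ : Fintype F),
    Fintype.card F = 9 ∧ Nonempty (↥stab0 ≃* PSU 3 F 3) := by
  obtain ⟨F, i1, i2, h⟩ := exists_field_nine
  obtain ⟨e⟩ := @nonempty_PSU_equiv F i1 i2 h
  exact ⟨F, i1, i2, h, ⟨e.symm⟩⟩

end Cfsg.Agent.Compute.J2
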