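import Cfsg.Agent.Compute.EdgeCover
import Cfsg.Agent.Compute.J2.CoverCheck
import Cfsg.Agent.Compute.J2.Stab

/-!
The orbital graph of valency 36 on the 100 points.
-/

set_option autoImplicit false

namespace Cfsg.Agent.Compute

/-- Transversal elements lie in the group of the chain. -/
theorem entry_mem {R : Type} {G : Type*} [Group G] {o : Ops R} (S : Sound (G := G) o) :
    ∀ {ls : List (Level R)}, checkChain o ls = true → ∀ l ∈ ls, ∀ e ∈ l.orb,
      S.ok e.u ∧ S.den e.u ∈ S.grp ls := by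
  intro ls
  induction ls with
  | nil => intro _ l hl; simp at hl
  | cons l t ih =>
    intro h l' hl e he
    have F := checkChain_facts S h
    rcases List.mem_cons.1 hl with rfl | hl
    · exact ⟨(F.orb_ok e he).1, F.orb_mem e he⟩
    · exact ⟨(ih (checkChain_tail h) l' hl e he).1, F.next_le (ih (checkChain_tail h) l' hl e he).2⟩

namespace J2

open EdgeCover

theorem quoChain_levels : quoLvl0 ∈ quoChain ∧ quoLvl1 ∈ quoChain ∧ quoLvl2 ∈ quoChain ∧
    quoLvl3 ∈ quoChain := by simp [quoChain]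

theorem quoLvl1_base : quoLvl1.base = 1 := rfl

theorem orb63 : quoLvl1.orb.length = 63 := by decide +kernel

theorem stabChain_eq : stabChain = quoLvl1 :: [quoLvl2, quoLvl3] := rfl

attribute [local irreducible] packP mulMat nth quoChain quoSound quoOps stabChain coverSteps
  coverPar coverBase coverL coverComm coverPt edgeMask allSteps quoLvl0 quoLvl1 quoLvl2 quoLvl3

theorem qEntry_facts {l : Level ℕ} (hl : l ∈ quoChain) (i : ℕ) :
    quoSound.ok (qEntry l i) ∧ quoSound.den (qEntry l i) ∈ quoGrp := by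
  unfold qEntry
  refine nth_ok (fun e : Entry ℕ => quoSound.ok e.u ∧ quoSound.den e.u ∈ quoGrp) _ ?_ _ ?_ i
  · exact ⟨quoSound.ok_one, by rw [quoSound.den_one]; exact one_mem _⟩
  · exact fun e he => entry_mem quoSound quoChain_ok l hl e he

/-- The element with given transversal indices. -/
noncomputable def gElt (c : ℕ) : quoGrp :=
  ⟨_, (qEntry_facts quoChain_levels.1 (c % 100)).2⟩ *
    (⟨_, (qEntry_facts quoChain_levels.2.1 (c / 100 % 63)).2⟩ *
      (⟨_, (qEntry_facts quoChain_levels.2.2.1 (c / 6300 % 24)).2⟩ *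
        ⟨_, (qEntry_facts quoChain_levels.2.2.2 (c / 151200)).2⟩))

theorem act_val (g : quoGrp) (x : Fin 100) : ((g • x : Fin 100) : ℕ) = quoSound.act g.1 x :=
  (quoSound_act g.1 x).symm

theorem gImg_eq (c : ℕ) (x : Fin 100) : gImg c x = ((gElt c • x : Fin 100) : ℕ) := by
  have h0 := qEntry_facts quoChain_levels.1 (c % 100)
  have h1 := qEntry_facts quoChain_levels.2.1 (c / 100 % 63)
  have h2 := qEntry_facts quoChain_levels.2.2.1 (c / 6300 % 24)
  have h3 := qEntry_facts quoChain_levels.2.2.2 (c / 151200)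
  rw [act_val]
  simp only [gImg, gElt, Subgroup.coe_mul, quoSound.act_mul]
  rw [quoSound.img_eq h0.1, quoSound.img_eq h1.1, quoSound.img_eq h2.1, quoSound.img_eq h3.1]

theorem coverPt_lt : coverPt < 100 := by unfold coverPt; norm_num

/-- The chosen neighbour of 0. -/
def pP : Fin 100 := ⟨coverPt, coverPt_lt⟩

/-- Adjacency. -/
def Adj2 (i j : Fin 100) : Prop := Adj quoGrp (0 : Fin 100) pP i j

theorem smul_of_gImg {c : ℕ} {x i : Fin 100} (h : Nat.beq (gImg c x) i = true) :
    gElt c • x = i :=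
  Fin.ext (by rw [← gImg_eq]; exact Nat.eq_of_beq_eq_true h)

theorem fin_zero : (((0 : Fin 100) : ℕ)) = 0 := rfl

/-- The involution swapping the ends of the base edge. -/
noncomputable def sP : quoGrp := gElt coverSwap

theorem base_facts :
    Nat.beq (gImg coverSwap 0) coverPt = true ∧ Nat.beq (gImg coverSwap coverPt) 0 = true ∧
    (∀ b ∈ basesOf quoChain, gImg coverSwap (gImg coverSwap b) = b) ∧
    hasEdge 0 coverPt = true ∧
    (∀ c < 2, coverBase.getD c 0 < 100 ∧ hasEdge coverPt (coverBase.getD c 0) = true ∧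
      hasEdge (coverBase.getD c 0) 0 = true) ∧
    coverSteps.length = 36 ∧ ∀ l ∈ coverSteps, l.length = 50 := by
  have h := cover_base
  simp only [baseOK, Bool.and_eq_true, lall_iff, allN_iff, Nat.ble_eq] at h
  obtain ⟨⟨⟨⟨⟨⟨h1, h2⟩, h3⟩, h4⟩, h5⟩, h6⟩, h7⟩ := h
  exact ⟨h1, h2, fun b hb => Nat.eq_of_beq_eq_true (h3 b hb), h4,
    fun c hc => ⟨(h5 c hc).1.1, (h5 c hc).1.2, (h5 c hc).2⟩, Nat.eq_of_beq_eq_true h6,
    fun l hl => Nat.eq_of_beq_eq_true (h7 l hl)⟩

theorem sP_zero : sP • (0 : Fin 100) = pP := smul_of_gImg base_facts.1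

theorem sP_pP : sP • pP = 0 := smul_of_gImg base_facts.2.1

theorem bases_lt : ∀ b ∈ basesOf quoChain, b < 100 := by
  have h : (basesOf quoChain).all (fun b => decide (b < 100)) = true := by decide +kernel
  simpa using h

theorem eq_of_gImg {g h : quoGrp}
    (e : ∀ b : Fin 100, (b : ℕ) ∈ basesOf quoChain → g • b = h • b) : g = h := by
  apply Subtype.ext
  refine eq_of_bases quoSound quoChain_ok g.2 h.2 fun b hb => ?_
  rw [show b = ((⟨b, bases_lt b hb⟩ : Fin 100) : ℕ) from rfl, ← act_val, ← act_val, e _ hb]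

theorem sP_sq : sP * sP = 1 := by
  refine eq_of_gImg fun b hb => Fin.ext ?_
  rw [mul_smul, one_smul, sP, ← gImg_eq, ← gImg_eq, base_facts.2.2.1 b hb]

theorem ecd_inj {a b c d : ℕ} (hb : b < 100) (hd : d < 100) (h : ecd a b = ecd c d) :
    a = c ∧ b = d := by
  unfold ecd at h
  omega

theorem testBit_fold : ∀ (l : List CoverStep) (n : ℕ),
    Nat.testBit (l.foldr (fun s m => Nat.lor (Nat.shiftLeft 1 (ecd s.i s.j))
      (Nat.lor (Nat.shiftLeft 1 (ecd s.j s.i)) m)) 0) n = true ↔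
    ∃ s ∈ l, ecd s.i s.j = n ∨ ecd s.j s.i = n := by
  intro l n
  induction l with
  | nil => simp
  | cons s t ih =>
    rw [List.foldr_cons]
    show (1 <<< ecd s.i s.j ||| (1 <<< ecd s.j s.i ||| _)).testBit n = true ↔ _
    rw [Nat.testBit_or, Nat.testBit_or, Bool.or_eq_true, Bool.or_eq_true, ih,
      Nat.one_shiftLeft, Nat.one_shiftLeft, Nat.testBit_two_pow, Nat.testBit_two_pow,
      decide_eq_true_eq, decide_eq_true_eq]
    simp only [List.mem_cons, exists_eq_or_imp]
    exact or_assoc.symm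

theorem getD_mem {l : List (List CoverStep)} {b : ℕ} (hb : b < l.length) :
    nth [] l b = l[b] := nth_eq_getElem _ _ _ hb

theorem stepAt_mem {q : ℕ} (hq : q < 1800) : stepAt q ∈ allSteps := by
  unfold stepAt allSteps
  have hb : q / 50 < coverSteps.length := by rw [base_facts.2.2.2.2.2.1]; omega
  rw [getD_mem hb]
  refine List.mem_flatten.2 ⟨_, List.getElem_mem hb, ?_⟩
  refine nth_mem _ _ _ ?_
  rw [base_facts.2.2.2.2.2.2 _ (List.getElem_mem _)]
  exact Nat.mod_lt _ (by norm_num)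

theorem exists_stepAt {s : CoverStep} (hs : s ∈ allSteps) : ∃ q < 1800, stepAt q = s := by
  unfold allSteps at hs
  obtain ⟨l, hl, hsl⟩ := List.mem_flatten.1 hs
  obtain ⟨b, hb, rfl⟩ := List.getElem_of_mem hl
  obtain ⟨r, hr, rfl⟩ := List.getElem_of_mem hsl
  have hb' : b < 36 := base_facts.2.2.2.2.2.1 ▸ hb
  have hr' : r < 50 := base_facts.2.2.2.2.2.2 _ hl ▸ hr
  refine ⟨b * 50 + r, by omega, ?_⟩
  unfold stepAt
  have h1 : (b * 50 + r) / 50 = b := by omega
  have h2 : (b * 50 + r) % 50 = r := by omega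
  rw [h1, h2, getD_mem hb, nth_eq_getElem _ _ _ hr]

theorem step_basic {q : ℕ} (hq : q < 1800) : stepOK q (stepAt q) = true := by
  have h := (allN_iff _ _).1 cover_steps (q / 50) (by omega)
  have h2 := (allN_iff _ _).1 h (q % 50) (Nat.mod_lt _ (by norm_num))
  rwa [Nat.div_add_mod'] at h2

theorem step_ends {q : ℕ} (hq : q < 1800) :
    ∃ i j : Fin 100, (stepAt q).i = i ∧ (stepAt q).j = j ∧
      gElt (stepAt q).g • (0 : Fin 100) = i ∧ gElt (stepAt q).g • pP = j := by
  have h := step_basic hq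
  simp only [stepOK, Bool.and_eq_true, Nat.ble_eq] at h
  exact ⟨⟨_, h.1.1.1.1⟩, ⟨_, h.1.1.1.2⟩, rfl, rfl, smul_of_gImg h.1.1.2, smul_of_gImg h.1.2⟩

theorem adj_of_hasEdge {i j : Fin 100} (h : hasEdge i j = true) : Adj2 i j := by
  unfold hasEdge edgeMask at h
  obtain ⟨s, hs, hh⟩ := (testBit_fold _ _).1 h
  obtain ⟨q, hq, rfl⟩ := exists_stepAt hs
  obtain ⟨a, b, ha, hb, g0, gp⟩ := step_ends hq
  rw [ha, hb] at hh
  rcases hh with hh | hh
  · obtain ⟨e1, e2⟩ := ecd_inj b.2 j.2 hh
    exact ⟨_, g0.trans (Fin.ext e1), gp.trans (Fin.ext e2)⟩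
  · obtain ⟨e1, e2⟩ := ecd_inj a.2 j.2 hh
    refine ⟨gElt (stepAt q).g * sP, ?_, ?_⟩
    · rw [mul_smul, sP_zero, gp]; exact Fin.ext e1
    · rw [mul_smul, sP_pP, g0]; exact Fin.ext e2

theorem hasEdge_closed {a : Equiv.Perm (Fin 100)} (ha : a ∈ quoGrp) :
    ∀ i j : Fin 100, hasEdge i j = true → hasEdge (a i) (a j) = true := by
  rw [quoGrp, Sound.grp] at ha
  have key : ∀ a ∈ quoSound.den '' {a | ∃ g ∈ nextGens quoChain, g.1 = a},
      ∀ i j : Fin 100, hasEdge i j = true → hasEdge (a i) (a j) = true := by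
    rintro _ ⟨_, ⟨g, hg, rfl⟩, rfl⟩ i j h
    have ok := (checkChain_sound quoSound quoChain_ok).gens_ok g hg
    have hg' : g ∈ quoLvl0.gens := by
      rw [quoChain_eq] at hg
      exact hg
    unfold hasEdge edgeMask at h
    obtain ⟨s, hs, hh⟩ := (testBit_fold _ _).1 h
    obtain ⟨q, hq, rfl⟩ := exists_stepAt hs
    have hc := (allN_iff _ _).1 cover_closed (q / 50) (by omega)
    have hc2 := (allN_iff _ _).1 hc (q % 50) (Nat.mod_lt _ (by norm_num))
    rw [Nat.div_add_mod'] at hc2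
    have h3 := (lall_iff _ _).1 hc2 g hg'
    rw [Bool.and_eq_true] at h3
    obtain ⟨x, y, hx, hy, -, -⟩ := step_ends hq
    rw [hx, hy] at hh h3
    rcases hh with hh | hh
    · obtain ⟨e1, e2⟩ := ecd_inj y.2 j.2 hh
      obtain rfl := Fin.ext e1
      obtain rfl := Fin.ext e2
      simpa only [quoSound.img_eq ok, quoSound_act] using h3.1
    · obtain ⟨e1, e2⟩ := ecd_inj x.2 j.2 hh
      obtain rfl := Fin.ext e1
      obtain rfl := Fin.ext e2
      simpa only [quoSound.img_eq ok, quoSound_act] using h3.2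
  have hmem : a ∈ Submonoid.closure (quoSound.den '' {a | ∃ g ∈ nextGens quoChain, g.1 = a}) := by
    rw [← Subgroup.closure_toSubmonoid_of_finite]
    exact ha
  clear ha
  induction hmem using Submonoid.closure_induction with
  | mem x hx => exact key x hx
  | one => intro i j h; simpa using h
  | mul x y _ _ ihx ihy => intro i j h; simpa using ihx _ _ (ihy i j h)

theorem hasEdge_of_adj {i j : Fin 100} (h : Adj2 i j) : hasEdge i j = true := by
  obtain ⟨g, rfl, rfl⟩ := h
  exact hasEdge_closed g.2 0 pP base_facts.2.2.2.1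

/-! ### The two suborbits -/

attribute [local irreducible] hasEdge gImg

theorem orbit36 :
    (MulAction.orbit stab0 pP : Set (Fin 100)) = {j : Fin 100 | hasEdge 0 (j : ℕ) = true} := by
  ext j
  constructor
  · rintro ⟨g, rfl⟩
    have h := hasEdge_of_adj (i := 0) (j := g • pP) ⟨g.1, g.2, rfl⟩
    rw [fin_zero] at h
    exact h
  · intro h
    obtain ⟨g, h0, hp⟩ := adj_of_hasEdge (i := 0) (j := j) (by rw [fin_zero]; exact h)
    exact ⟨⟨g, h0⟩, hp⟩

theorem card_orbit36 : (MulAction.orbit stab0 pP : Set (Fin 100)).ncard = 36 := by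
  rw [orbit36]
  have h : ({j : Fin 100 | hasEdge 0 (j : ℕ) = true} : Set (Fin 100)) =
      ((Finset.univ.filter fun j : Fin 100 => hasEdge 0 (j : ℕ) = true : Finset (Fin 100)) : Set _) := by
    ext j; simp
  rw [h, Set.ncard_coe_finset, ← cover_nbr, nbrCount]
  have : ((List.range 100).filter fun j => hasEdge 0 j) =
      ((List.finRange 100).filter fun j : Fin 100 => hasEdge 0 (j : ℕ)).map (Fin.val) := by
    rw [← List.map_coe_finRange_eq_range, List.filter_map]
    rfl
  rw [this, List.length_map, ← List.toFinset_card_of_nodup ((List.nodup_finRange _).filter _)]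
  congr 1
  ext j
  simp

theorem card_orbit63 : (MulAction.orbit stab0 (1 : Fin 100) : Set (Fin 100)).ncard = 63 := by
  have hc : checkChain quoOps (quoLvl1 :: [quoLvl2, quoLvl3]) = true :=
    stabChain_eq ▸ checkChain_stab
  have F := checkChain_facts quoSound hc
  have h : Fin.val '' (MulAction.orbit stab0 (1 : Fin 100) : Set (Fin 100)) =
      {p | p ∈ quoLvl1.orb.map Entry.pt} := by
    ext p
    rw [Set.mem_setOf_eq, ← orbit_iff quoSound hc, quoLvl1_base, ← stabChain_eq]
    constructor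
    · rintro ⟨_, ⟨g, rfl⟩, rfl⟩
      refine ⟨g.1.1, (mem_stab0_iff _).1 g.2, ?_⟩
      rw [show (1 : ℕ) = ((1 : Fin 100) : ℕ) from rfl, quoSound_act]
      rfl
    · rintro ⟨g, hg, rfl⟩
      refine ⟨_, ⟨⟨⟨g, stabGrp_le hg⟩, (mem_stab0_iff _).2 hg⟩, rfl⟩, ?_⟩
      rw [show (1 : ℕ) = ((1 : Fin 100) : ℕ) from rfl, quoSound_act]
      rfl
  rw [← Set.ncard_image_of_injective _ Fin.val_injective, h]
  rw [show ({p | p ∈ quoLvl1.orb.map Entry.pt} : Set ℕ) = ↑(quoLvl1.orb.map Entry.pt).toFinset by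
    ext p; simp, Set.ncard_coe_finset, List.toFinset_card_of_nodup F.nodup, List.length_map, orb63]

end J2

end Cfsg.Agent.Compute
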