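import Cfsg.Prelude.Def_KGroupFacts
import Cfsg.Agent.Compute.J2.Facts
import Cfsg.Agent.Compute.J2.OutCheck

/-!
The outer automorphism group of J2 has order 2.
-/

set_option autoImplicit false
set_option maxHeartbeats 400000

namespace Cfsg.Agent.Compute.J2

open Cfsg.Spor (J2)

attribute [local irreducible] packP mulMat refCode decodeV matDen toMat nth dblCen dblChain quoChain
  classTable dblPrim quoPrim dblSound quoSound dblOps quoOps lineData reflPerms unitData

theorem tau_facts {i : ℕ} (hi : i < 315) :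
    quoSound.ok (tau i) ∧ quoSound.den (tau i) ∈ quoGrp ∧
      quoSound.den (tau i) * quoSound.den (tau i) = 1 := by
  have h := (allN_iff _ _).1 tau_ok i hi
  simp only [tauOK, Bool.and_eq_true] at h
  obtain ⟨ok, -, hinv⟩ := quoSound.okInv_sound h.1
  exact ⟨ok, ((checkChain_sound quoSound quoChain_ok).sift_iff _ ok).1 h.2,
    eq_inv_iff_mul_eq_one.1 hinv⟩

theorem autA_facts : quoSound.ok autA ∧ quoSound.ok autAInv ∧
    quoSound.den autAInv = (quoSound.den autA)⁻¹ ∧ quoSound.den autA ∈ quoGrp := by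
  have h := autA_ok
  simp only [Bool.and_eq_true] at h
  obtain ⟨oa, ob, hinv⟩ := quoSound.okInv_sound h.1
  exact ⟨oa, ob, hinv, ((checkChain_sound quoSound quoChain_ok).sift_iff _ oa).1 h.2⟩

/-- The element of order 7. -/
noncomputable def aQ : quoGrp := ⟨_, autA_facts.2.2.2⟩

theorem aQ_eq : aQ = rep 12 := by
  apply Subtype.ext
  show quoSound.den autA = _
  rw [rep_val, autA, row, nth_eq_getElem _ _ _ (by rw [table_length]; norm_num)]
  rfl

/-- Reflection `i` on 100 points, as a group element. -/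
noncomputable def tQ (i : Fin 315) : quoGrp := ⟨_, (tau_facts i.2).2.1⟩

theorem tQ_eq_quo (i : Fin 315) : tQ i = quoMap (equiv2 (refl2 i)) := by
  apply Subtype.ext
  show quoSound.den (tau i) = proj (equiv2 (refl2 i)).1
  rw [equiv2_refl2, proj_den]
  simp only [code, reflCode, lineItem, tau]

theorem tQ_conj (i j : Fin 315) : IsConj (tQ i) (tQ j) := by
  have h : ∀ k, IsConj (tQ 0) (tQ k) := fun k => by
    obtain ⟨g, hg⟩ := exists_conj_zero k
    exact isConj_iff.2 ⟨quoMap (equiv2 g), by rw [tQ_eq_quo, tQ_eq_quo, ← hg]; simp⟩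
  exact (h i).symm.trans (h j)

theorem tQ_injective : Function.Injective tQ := by
  have key : ∀ i j : Fin 315, j.1 < i.1 → tQ i ≠ tQ j := by
    intro i j hji e
    have h := (allN_iff _ _).1 tau_distinct i i.2
    simp only [tauDistinct, allN_iff] at h
    have h2 := h j hji
    have hv : quoSound.den (tau i) = quoSound.den (tau j) := congrArg Subtype.val e
    rw [(lall_iff _ _).2 fun b _ => by
      rw [quoSound.img_eq (tau_facts i.2).1, quoSound.img_eq (tau_facts j.2).1, hv]
      exact Nat.beq_refl _] at h2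
    simp at h2
  intro i j h
  rcases lt_trichotomy i.1 j.1 with hl | he | hl
  · exact absurd h.symm (key j i hl)
  · exact Fin.ext he
  · exact absurd h (key i j hl)

theorem autTwo_lt : autTwo < 315 := by decide +kernel

theorem tQ_two : tQ ⟨autTwo, autTwo_lt⟩ = rep 2 := by
  apply Subtype.ext
  show quoSound.den (tau autTwo) = _
  rw [rep_val, Nat.eq_of_beq_eq_true two_ok, row,
    nth_eq_getElem _ _ _ (by rw [table_length]; norm_num)]
  rfl

/-- The conjugates of the class representative are the 315 reflections. -/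
theorem conjugates_two {g : quoGrp} (hg : IsConj (rep 2) g) : ∃ i, g = tQ i := by
  classical
  have := Fintype.ofFinite quoGrp
  have hsub : Finset.univ.image tQ ⊆ (conjugatesOf (rep 2)).toFinset := by
    intro z hz
    obtain ⟨i, -, rfl⟩ := Finset.mem_image.1 hz
    rw [Set.mem_toFinset, ← tQ_two]
    exact tQ_conj _ _
  have hcard : (conjugatesOf (rep 2)).toFinset.card ≤ (Finset.univ.image tQ).card := by
    rw [Finset.card_image_of_injective _ tQ_injective, Finset.card_univ, Fintype.card_fin]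
    have h1 := MulAction.index_stabilizer (ConjAct quoGrp) (rep 2)
    have horb : MulAction.orbit (ConjAct quoGrp) (rep 2) = conjugatesOf (rep 2) := by
      ext y; rw [ConjAct.mem_orbit_conjAct]; exact ⟨fun h => h.symm, fun h => h.symm⟩
    rw [horb, ← Nat.card_coe_set_eq] at h1
    rw [← Nat.card_eq_card_toFinset, ← h1]
    have h2 := (MulAction.stabilizer (ConjAct quoGrp) (rep 2)).index_mul_card
    have h3 : Nat.card (MulAction.stabilizer (ConjAct quoGrp) (rep 2)) = 1920 := by
      have hr : (row 2).2.2.2.2 = 1920 := by unfold row; decide +kernel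
      rw [← ((card_cent_rep 2).trans hr : Nat.card (Subgroup.centralizer ({rep 2} : Set quoGrp))
        = 1920), Subgroup.centralizer_eq_comap_stabilizer]
      exact Nat.card_congr
        ((ConjAct.toConjAct (G := quoGrp)).toEquiv.subtypeEquiv fun _ => Iff.rfl).symm
    have h4 : Nat.card (ConjAct quoGrp) = 604800 :=
      (Nat.card_congr (ConjAct.ofConjAct (G := quoGrp)).toEquiv).trans card_quoGrp
    rw [h3, h4] at h2
    omega
  have hg' : g ∈ (conjugatesOf (rep 2)).toFinset := Set.mem_toFinset.2 hg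
  rw [← Finset.eq_of_subset_of_card_le hsub hcard] at hg'
  obtain ⟨i, -, hi⟩ := Finset.mem_image.1 hg'
  exact ⟨i, hi.symm⟩

/-- Orbit representative `k`. -/
noncomputable def repT (k : Fin 45) : Fin 315 :=
  ⟨nth 0 autReps k, by
    have := (allN_iff _ _).1 autReps_ok k k.2
    rw [Nat.ble_eq] at this
    omega⟩

theorem imgW_sandwich {y : ℕ} (oy : quoSound.ok y) (j b : ℕ) :
    imgW quoOps [powR quoOps autA j, y, powR quoOps autAInv j] b =
      quoSound.act (quoSound.den autA ^ j * quoSound.den y * (quoSound.den autA ^ j)⁻¹) b := by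
  obtain ⟨oa, ob, hinv, -⟩ := autA_facts
  have hp := powR_sound quoSound oa j
  have hq := powR_sound quoSound ob j
  rw [imgW_eq quoSound _ (fun a ha => by
    simp only [List.mem_cons, List.not_mem_nil, or_false] at ha
    rcases ha with rfl | rfl | rfl
    exacts [hp.1, oy, hq.1])]
  simp [wden, hp.2, hq.2, hinv, mul_assoc]

theorem cover (i : Fin 315) : ∃ (k : Fin 45) (j : ℕ), tQ i = aQ ^ j * tQ (repT k) * (aQ ^ j)⁻¹ := by
  have h := (allN_iff _ _).1 where_ok i i.2
  simp only [whereOK, Bool.and_eq_true, Nat.ble_eq, lall_iff, Nat.beq_eq] at h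
  obtain ⟨hk, hb⟩ := h
  refine ⟨⟨_, hk⟩, (nth (0, 0) autWhere i).2, Subtype.ext (eq_of_bases quoSound quoChain_ok
    (tau_facts i.2).2.1 (Subtype.property _) fun b hbm => ?_)⟩
  show quoSound.act (quoSound.den (tau i)) b = _
  rw [← quoSound.img_eq (tau_facts i.2).1, hb b hbm,
    imgW_sandwich (y := tauRep _) (tau_facts (repT ⟨_, hk⟩).2).1]
  rfl

/-- The generating involution. -/
noncomputable def bQ : quoGrp := tQ (repT 0)

theorem closure_ab : Subgroup.closure ({aQ, bQ} : Set quoGrp) = ⊤ := by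
  have hgrp := genBy_sound quoSound quoChain_ok autGen_ok fun a ha => by
    rcases List.mem_cons.1 ha with rfl | ha
    · exact autA_facts.1
    · rw [List.mem_singleton] at ha; exact ha ▸ (tau_facts (repT 0).2).1
  rw [eq_top_iff]
  intro g _
  have hg' : (g : Equiv.Perm (Fin 100)) ∈
      (Subgroup.closure ({aQ, bQ} : Set quoGrp)).map quoGrp.subtype := by
    rw [MonoidHom.map_closure]
    have hgm : (g : Equiv.Perm (Fin 100)) ∈ quoSound.grp quoChain := g.2
    rw [hgrp] at hgm
    refine Subgroup.closure_mono ?_ hgm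
    rintro _ ⟨c, hc, rfl⟩
    rcases List.mem_cons.1 hc with rfl | hc
    · exact ⟨aQ, Or.inl rfl, rfl⟩
    · rw [List.mem_singleton] at hc; subst hc; exact ⟨bQ, Or.inr rfl, rfl⟩
  obtain ⟨k, hk, hke⟩ := hg'
  exact (Subtype.ext hke : k = g) ▸ hk

/-- Word in a pair of elements. -/
noncomputable def wordQ (y : quoGrp) (w : List ℕ) : quoGrp := (w.map (nth 1 [aQ, y])).prod

theorem autImg_eq (k : Fin 45) (w : List ℕ) (p : ℕ) :
    autImg (tauRep k) w p = quoSound.act ((wordQ (tQ (repT k)) w : quoGrp) : _) p := by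
  have hk : ∀ q, quoSound.ok (nth quoOps.one [autA, tauRep k] q) ∧
      quoSound.den (nth quoOps.one [autA, tauRep k] q) =
        ((nth 1 [aQ, tQ (repT k)] q : quoGrp) : _) := by
    intro q
    unfold nth
    match q with
    | 0 => exact ⟨autA_facts.1, rfl⟩
    | 1 => exact ⟨(tau_facts (repT k).2).1, rfl⟩
    | (_ + 2) => exact ⟨quoSound.ok_one, quoSound.den_one⟩
  rw [autImg, imgW_eq quoSound _ fun a ha => by
    obtain ⟨q, -, rfl⟩ := List.mem_map.1 ha
    exact (hk q).1]
  congr 1
  simp only [wden, wordQ, SubmonoidClass.coe_list_prod, List.map_map]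
  congr 1
  exact List.map_congr_left fun q _ => (hk q).2

theorem autSwap_lt : autSwap < 45 := by decide +kernel

/-- The image of the generating involution under the outer automorphism. -/
noncomputable def bQ' : quoGrp := tQ (repT ⟨autSwap, autSwap_lt⟩)

theorem normalise (α : MulAut quoGrp) : ∃ g : quoGrp,
    (MulAut.conj g * α) aQ = aQ ∧
      ((MulAut.conj g * α) bQ = bQ ∨ (MulAut.conj g * α) bQ = bQ') := by
  have ho : orderOf (α aQ) = 7 := by
    rw [MulEquiv.orderOf_eq, aQ_eq, orderOf_rep]; unfold row; decide +kernel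
  obtain ⟨i, hi⟩ := exists_isConj_rep (α aQ)
  have key : ∀ k : Fin 21, (row k).2.1 = 7 → k = 12 := by unfold row; decide +kernel
  rw [key i ((orderOf_eq_rep _ i hi).symm.trans ho), ← aQ_eq] at hi
  obtain ⟨c, hc⟩ := isConj_iff.1 hi.symm
  let β : MulAut quoGrp := MulAut.conj c * α
  have hβ : β aQ = aQ := hc
  -- the involution goes to a reflection
  have hb2 : IsConj (rep 2) bQ := by rw [← tQ_two]; exact tQ_conj _ _
  obtain ⟨m, hm⟩ := exists_isConj_rep (β bQ)
  have hm2 : m = 2 := by
    have h1 : (row m).2.1 = 2 := by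
      rw [← orderOf_eq_rep _ m hm, MulEquiv.orderOf_eq, orderOf_eq_rep _ 2 hb2]
      unfold row; decide +kernel
    have hcent : ∀ {x y : quoGrp}, IsConj x y →
        Nat.card (Subgroup.centralizer ({x} : Set quoGrp)) =
          Nat.card (Subgroup.centralizer ({y} : Set quoGrp)) := by
      intro x y hxy
      obtain ⟨d, rfl⟩ := isConj_iff.1 hxy
      refine Nat.card_congr ((MulAut.conj d).toEquiv.subtypeEquiv fun z => ?_)
      rw [Subgroup.mem_centralizer_singleton_iff, Subgroup.mem_centralizer_singleton_iff]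
      show _ ↔ MulAut.conj d z * MulAut.conj d x = MulAut.conj d x * MulAut.conj d z
      rw [← map_mul, ← map_mul, (MulAut.conj d).injective.eq_iff]
    have haut : Nat.card (Subgroup.centralizer ({β bQ} : Set quoGrp)) =
        Nat.card (Subgroup.centralizer ({bQ} : Set quoGrp)) := by
      refine (Nat.card_congr (β.toEquiv.subtypeEquiv fun z => ?_)).symm
      rw [Subgroup.mem_centralizer_singleton_iff, Subgroup.mem_centralizer_singleton_iff]
      show _ ↔ β z * β bQ = β bQ * β z
      rw [← map_mul, ← map_mul, β.injective.eq_iff]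
    have h3 : (row m).2.2.2.2 = (row 2).2.2.2.2 := by
      rw [← card_cent_rep, ← card_cent_rep, hcent hm, haut, ← hcent hb2]
    have key2 : ∀ k : Fin 21, (row k).2.1 = 2 → (row k).2.2.2.2 = (row 2).2.2.2.2 → k = 2 := by
      unfold row; decide +kernel
    exact key2 m h1 h3
  rw [hm2] at hm
  obtain ⟨n, hn⟩ := conjugates_two hm
  obtain ⟨k, j, hkj⟩ := cover n
  rw [← hn] at hkj
  let γ : MulAut quoGrp := MulAut.conj (aQ ^ j)⁻¹ * β
  have hγa : γ aQ = aQ := by
    show (aQ ^ j)⁻¹ * β aQ * ((aQ ^ j)⁻¹)⁻¹ = aQ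
    rw [hβ, inv_inv, mul_assoc, ← pow_succ', pow_succ, inv_mul_cancel_left]
  have hγb : γ bQ = tQ (repT k) := by
    show (aQ ^ j)⁻¹ * β bQ * ((aQ ^ j)⁻¹)⁻¹ = _
    rw [hkj, inv_inv]
    simp only [mul_assoc, inv_mul_cancel_left, inv_mul_cancel, mul_one]
  refine ⟨(aQ ^ j)⁻¹ * c, ?_⟩
  rw [map_mul, mul_assoc]
  refine ⟨hγa, ?_⟩
  by_cases h0 : k = 0
  · subst h0; exact Or.inl hγb
  by_cases h1 : k = ⟨autSwap, autSwap_lt⟩
  · subst h1; exact Or.inr hγb
  exfalso
  have h := (allN_iff _ _).1 rel_ok k k.2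
  have hb0 : Nat.beq (k : ℕ) 0 = false := by
    rw [Bool.eq_false_iff]; intro e; exact h0 (Fin.ext (Nat.eq_of_beq_eq_true e))
  have hb1 : Nat.beq (k : ℕ) autSwap = false := by
    rw [Bool.eq_false_iff]; intro e; exact h1 (Fin.ext (Nat.eq_of_beq_eq_true e))
  simp only [relOK, hb0, hb1, Bool.false_or, Bool.and_eq_true, lall_iff, Nat.beq_eq,
    Bool.not_eq_true'] at h
  generalize nth [] autRels (k : ℕ) = w at h
  have w0 : wordQ bQ w = 1 := Subtype.ext (eq_of_bases quoSound quoChain_ok (wordQ bQ w).2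
    (Subgroup.one_mem _) fun b hb => by
      have e := h.1 b hb
      rw [show tauRep 0 = tauRep ((0 : Fin 45) : ℕ) from rfl, autImg_eq 0 w b] at e
      rw [Subgroup.coe_one, quoSound.act_one]
      exact e)
  have wk : wordQ (tQ (repT k)) w = 1 := by
    have e : γ (wordQ bQ w) = wordQ (tQ (repT k)) w := by
      rw [wordQ, wordQ, map_list_prod, List.map_map]
      congr 1
      refine List.map_congr_left fun q _ => ?_
      show γ (nth 1 [aQ, bQ] q) = nth 1 [aQ, tQ (repT k)] q
      unfold nth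
      match q with
      | 0 => exact hγa
      | 1 => exact hγb
      | (_ + 2) => exact map_one γ
    rw [w0, map_one] at e
    exact e.symm
  have h2 := h.2
  rw [(lall_iff _ _).2 fun b hb => by
    rw [autImg_eq k w b, wk, Subgroup.coe_one, quoSound.act_one]; exact Nat.beq_refl _] at h2
  simp at h2

theorem eq_of_ab {α β : MulAut quoGrp} (ha : α aQ = β aQ) (hb : α bQ = β bQ) : α = β := by
  refine MulEquiv.toMonoidHom_injective (MonoidHom.eq_of_eqOn_dense closure_ab ?_)
  rintro z (rfl | rfl)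
  · exact ha
  · exact hb

theorem pi_facts : ∃ π : Equiv.Perm (Fin 100),
    π * aQ.1 * π⁻¹ = aQ.1 ∧ π * bQ.1 * π⁻¹ = bQ'.1 := by
  have h := pi_ok
  simp only [piOK, Bool.and_eq_true] at h
  obtain ⟨⟨⟨ho, ha⟩, hb⟩, -⟩ := h
  obtain ⟨op, -, -⟩ := quoSound.okInv_sound ho
  have oa := autA_facts.1
  have ob : quoSound.ok (tauRep 0) := (tau_facts (repT 0).2).1
  have ob' : quoSound.ok (tauRep autSwap) := (tau_facts (repT ⟨autSwap, autSwap_lt⟩).2).1
  refine ⟨quoSound.den autPi.1, ?_, ?_⟩
  · rw [mul_inv_eq_iff_eq_mul]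
    show quoSound.den autPi.1 * quoSound.den autA = quoSound.den autA * _
    rw [← quoSound.den_mul op oa, ← quoSound.den_mul oa op]
    exact (quoSound.eqv_iff (quoSound.ok_mul op oa) (quoSound.ok_mul oa op)).1 ha
  · rw [mul_inv_eq_iff_eq_mul]
    show quoSound.den autPi.1 * quoSound.den (tauRep 0) = quoSound.den (tauRep autSwap) * _
    rw [← quoSound.den_mul op ob, ← quoSound.den_mul ob' op]
    exact (quoSound.eqv_iff (quoSound.ok_mul op ob) (quoSound.ok_mul ob' op)).1 hb

theorem exists_outer : ∃ θ : MulAut quoGrp, θ aQ = aQ ∧ θ bQ = bQ' ∧ θ ∉ Cfsg.Inn quoGrp := by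
  obtain ⟨π, ha, hb⟩ := pi_facts
  let c : Equiv.Perm (Fin 100) ≃* Equiv.Perm (Fin 100) := MulAut.conj π
  have hle : quoGrp.map c.toMonoidHom ≤ quoGrp := by
    have e : quoGrp = (Subgroup.closure ({aQ, bQ} : Set quoGrp)).map quoGrp.subtype := by
      rw [closure_ab, ← MonoidHom.range_eq_map, Subgroup.range_subtype]
    conv_lhs => rw [e]
    rw [Subgroup.map_map, MonoidHom.map_closure, Subgroup.closure_le]
    rintro _ ⟨z, (rfl | rfl), rfl⟩
    · show π * aQ.1 * π⁻¹ ∈ quoGrp
      rw [ha]; exact aQ.2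
    · show π * bQ.1 * π⁻¹ ∈ quoGrp
      rw [hb]; exact bQ'.2
  have heq : quoGrp.map c.toMonoidHom = quoGrp :=
    Subgroup.eq_of_le_of_card_ge hle
      (le_of_eq (Nat.card_congr (quoGrp.equivMapOfInjective _ c.injective).toEquiv))
  let θ : MulAut quoGrp :=
    (quoGrp.equivMapOfInjective c.toMonoidHom c.injective).trans (MulEquiv.subgroupCongr heq)
  have hθ : ∀ z, (θ z).1 = π * z.1 * π⁻¹ := fun z => rfl
  refine ⟨θ, Subtype.ext ((hθ _).trans ha), Subtype.ext ((hθ _).trans hb), ?_⟩
  rintro ⟨g, hg⟩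
  have h1 : g * aQ * g⁻¹ = aQ := by
    rw [← MulAut.conj_apply, hg]; exact Subtype.ext ((hθ _).trans ha)
  have h2 : g * bQ * g⁻¹ = bQ' := by
    rw [← MulAut.conj_apply, hg]; exact Subtype.ext ((hθ _).trans hb)
  have hgc : g ∈ Subgroup.centralizer ({aQ} : Set quoGrp) :=
    Subgroup.mem_centralizer_singleton_iff.2 (mul_inv_eq_iff_eq_mul.1 h1)
  have hord : orderOf aQ = 7 := by rw [aQ_eq, orderOf_rep]; unfold row; decide +kernel
  have hz : Subgroup.zpowers aQ = Subgroup.centralizer ({aQ} : Set quoGrp) := by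
    refine Subgroup.eq_of_le_of_card_ge (Subgroup.zpowers_le.2
      (Subgroup.mem_centralizer_singleton_iff.2 rfl)) (le_of_eq ?_)
    rw [Nat.card_zpowers, hord, aQ_eq, card_cent_rep]
    unfold row; decide +kernel
  rw [← hz, mem_zpowers_iff_mem_range_orderOf, Finset.mem_image] at hgc
  obtain ⟨j, hj, rfl⟩ := hgc
  rw [Finset.mem_range, hord] at hj
  have h := pi_ok
  simp only [piOK, Bool.and_eq_true, allN_iff, Bool.not_eq_true'] at h
  have h3 := h.2 j hj
  rw [(lall_iff _ _).2 fun b _ => by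
    have oy : quoSound.ok (tauRep 0) := (tau_facts (repT 0).2).1
    have oy' : quoSound.ok (tauRep autSwap) := (tau_facts (repT ⟨autSwap, autSwap_lt⟩).2).1
    rw [quoSound.img_eq oy' b, imgW_sandwich oy]
    have e := congrArg (fun z : quoGrp => quoSound.act z.1 b) h2
    simp only [Subgroup.coe_mul, Subgroup.coe_inv, SubmonoidClass.coe_pow] at e
    show Nat.beq (quoSound.act bQ'.1 b) _ = true
    rw [← e]; exact Nat.beq_refl _] at h3
  simp at h3

theorem card_out_quoGrp : Nat.card (Cfsg.Out quoGrp) = 2 := by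
  obtain ⟨θ, hθa, hθb, hθ⟩ := exists_outer
  have key : ∀ α : MulAut quoGrp, α ∈ Cfsg.Inn quoGrp ∨
      ∃ h ∈ Cfsg.Inn quoGrp, α = h * θ := by
    intro α
    obtain ⟨g, ha, hb | hb⟩ := normalise α
    · left
      have : MulAut.conj g * α = 1 := eq_of_ab ha hb
      rw [eq_inv_of_mul_eq_one_right this]
      exact inv_mem ⟨g, rfl⟩
    · right
      refine ⟨(MulAut.conj g)⁻¹, inv_mem ⟨g, rfl⟩, ?_⟩
      rw [← eq_of_ab (α := MulAut.conj g * α) (β := θ) (ha.trans hθa.symm) (hb.trans hθb.symm),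
        inv_mul_cancel_left]
  have hsq : θ * θ ∈ Cfsg.Inn quoGrp := by
    rcases key (θ * θ) with h | ⟨h, hh, e⟩
    · exact h
    · exact absurd (mul_right_cancel e ▸ hh) hθ
  show Subgroup.index (Cfsg.Inn quoGrp) = 2
  rw [Subgroup.index_eq_two_iff]
  refine ⟨θ, fun β => ?_⟩
  rcases key β with h | ⟨h, hh, rfl⟩
  · refine Or.inr ⟨h, fun hm => hθ ?_⟩
    simpa using mul_mem (inv_mem h) hm
  · refine Or.inl ⟨by rw [mul_assoc]; exact mul_mem hh hsq, fun hm => hθ ?_⟩
    simpa using mul_mem (inv_mem hh) hm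

theorem card_out_J2 : Nat.card (Cfsg.Out J2) = 2 := by
  let e := equivJ2
  let F : MulAut J2 ≃* MulAut quoGrp :=
    { toFun := fun α => (e.symm.trans α).trans e
      invFun := fun α => (e.trans α).trans e.symm
      left_inv := fun α => by ext x; simp
      right_inv := fun α => by ext x; simp
      map_mul' := fun α β => by ext x; simp [MulAut.mul_apply] }
  have hmap : (Cfsg.Inn J2).map F.toMonoidHom = Cfsg.Inn quoGrp := by
    ext α
    constructor
    · rintro ⟨_, ⟨g, rfl⟩, rfl⟩
      exact ⟨e g, by ext x; simp [F]⟩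
    · rintro ⟨g, rfl⟩
      exact ⟨MulAut.conj (e.symm g), ⟨_, rfl⟩, by ext x; simp [F]⟩
  rw [Cfsg.Out, Nat.card_congr (QuotientGroup.congr _ _ F hmap).toEquiv]
  exact card_out_quoGrp

end Cfsg.Agent.Compute.J2
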