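import Cfsg.Agent.Compute.J2.ChainCheck
import Cfsg.Agent.Compute.J2.ClassCheck
import Cfsg.Agent.Compute.Simplicity

/-!
The degree-100 quotient: order 604800, its 21 classes, simplicity.
-/

set_option autoImplicit false
set_option maxHeartbeats 400000

namespace Cfsg.Agent.Compute.J2

abbrev GP : Type :=
  (Equiv.Perm (Fin 200) × Equiv.Perm (Fin 100)) × GL (Fin 6) (ZMod 11) × GL (Fin 6) (ZMod 11)

/-- Meaning of the codes. -/
noncomputable def dblSound : Sound (G := GP) dblOps :=
  Sound.prod (Sound.prod (permSound 8 200 (by norm_num)) (permSound 7 100 (by norm_num)))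
    (Sound.prod (matSound 10 6 11 (by norm_num) (by norm_num) (by norm_num))
      (matSound 10 6 11 (by norm_num) (by norm_num) (by norm_num)))

noncomputable def quoSound : Sound (G := Equiv.Perm (Fin 100)) quoOps := permSound 7 100 (by norm_num)

/-- The double cover as a group of codes. -/
noncomputable def dblGrp : Subgroup GP := dblSound.grp dblChain

/-- The simple quotient on 100 points. -/
noncomputable def quoGrp : Subgroup (Equiv.Perm (Fin 100)) := quoSound.grp quoChain

theorem card_dblGrp : Nat.card dblGrp = 1209600 := by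
  rw [dblGrp, (checkChain_sound dblSound dblChain_ok).card]; decide +kernel

theorem card_quoGrp : Nat.card quoGrp = 604800 := by
  rw [quoGrp, (checkChain_sound quoSound quoChain_ok).card]; decide +kernel

/-- Projection to 100 points. -/
def proj : GP →* Equiv.Perm (Fin 100) :=
  (MonoidHom.snd _ _).comp (MonoidHom.fst _ _)

theorem prim_zip :
    List.map (fun a => a.2.1) (List.zip primIdx (List.zip dblPrim quoPrim)) = dblPrim ∧
    List.map (fun a => a.2.2) (List.zip primIdx (List.zip dblPrim quoPrim)) = quoPrim := by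
  constructor <;> rfl

theorem table_length : classTable.length = 21 := rfl

theorem gen_length : classGen.length = 20 := rfl

theorem proj_den (a : Code) : proj (dblSound.den a) = quoSound.den a.1.2 := by
  simp only [dblSound, quoSound, Sound.prod, proj, MonoidHom.comp_apply, MonoidHom.coe_snd,
    MonoidHom.coe_fst]

theorem mat1_den (a : Code) : (dblSound.den a).2.1 = matDen 10 6 11 a.2.1 := by
  simp only [dblSound, Sound.prod, matSound]

theorem mat2_den (a : Code) : (dblSound.den a).2.2 = matDen 10 6 11 a.2.2 := by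
  simp only [dblSound, Sound.prod, matSound]

theorem ok_parts {a : Code} (h : dblSound.ok a) :
    quoSound.ok a.1.2 ∧ MatOK 10 6 11 a.2.1 ∧ MatOK 10 6 11 a.2.2 := ⟨h.1.2, h.2.1, h.2.2⟩

theorem eqv_quo (a b : ℕ) : quoOps.eqv a b = Nat.beq a b := by simp only [quoOps, permOps]

theorem mul_fst (a b : Code) : (dblOps.mul a b).2.1 = mulMat 10 6 11 a.2.1 b.2.1 := by
  simp only [dblOps, prodOps, matOps]

attribute [local irreducible] dblCen dblChain quoChain classTable classGen dblPrim quoPrim dblSound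
  quoSound dblOps quoOps

theorem prim_facts {a : ℕ × Code × ℕ} (h : a ∈ List.zip primIdx (List.zip dblPrim quoPrim)) :
    a.1 < 315 ∧ dblSound.ok a.2.1 ∧ quoSound.ok a.2.2 ∧
      proj (dblSound.den a.2.1) = quoSound.den a.2.2 ∧
      dblOps.eqv (reflCode (lineItem a.1)) a.2.1 = true := by
  have h' := (lall_iff _ _).1 prim_ok a h
  simp only [Bool.and_eq_true, Nat.ble_eq, Nat.add_one_le_iff, Nat.beq_eq] at h'
  obtain ⟨⟨⟨⟨h1, h2⟩, h3⟩, h4⟩, h5⟩ := h'
  refine ⟨h1, (dblSound.okInv_sound h4).1, (quoSound.okInv_sound h5).1, ?_, h2⟩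
  rw [← h3, proj_den]

theorem dblGrp_eq : dblGrp = Subgroup.closure (dblSound.den '' {a | a ∈ dblPrim}) :=
  genBy_sound dblSound dblChain_ok dblGen_ok fun a ha => by
    rw [← prim_zip.1] at ha
    obtain ⟨b, hb, rfl⟩ := List.mem_map.1 ha
    exact (prim_facts hb).2.1

theorem quoGrp_eq : quoGrp = Subgroup.closure (quoSound.den '' {a | a ∈ quoPrim}) :=
  genBy_sound quoSound quoChain_ok quoGen_ok fun a ha => by
    rw [← prim_zip.2] at ha
    obtain ⟨b, hb, rfl⟩ := List.mem_map.1 ha
    exact (prim_facts hb).2.2.1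

theorem map_proj : dblGrp.map proj = quoGrp := by
  rw [dblGrp_eq, quoGrp_eq, MonoidHom.map_closure]
  congr 1
  ext g
  simp only [Set.mem_image, Set.mem_setOf_eq]
  constructor
  · rintro ⟨_, ⟨a, ha, rfl⟩, rfl⟩
    rw [← prim_zip.1] at ha
    obtain ⟨b, hb, rfl⟩ := List.mem_map.1 ha
    exact ⟨b.2.2, prim_zip.2 ▸ List.mem_map.2 ⟨b, hb, rfl⟩, (prim_facts hb).2.2.2.1.symm⟩
  · rintro ⟨a, ha, rfl⟩
    rw [← prim_zip.2] at ha
    obtain ⟨b, hb, rfl⟩ := List.mem_map.1 ha
    exact ⟨_, ⟨b.2.1, prim_zip.1 ▸ List.mem_map.2 ⟨b, hb, rfl⟩, rfl⟩, (prim_facts hb).2.2.2.1⟩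

/-- The quotient map. -/
noncomputable def quoMap : dblGrp →* quoGrp :=
  (proj.comp dblGrp.subtype).codRestrict quoGrp fun g => map_proj ▸ ⟨g.1, g.2, rfl⟩

theorem quoMap_surjective : Function.Surjective quoMap := by
  rintro ⟨p, hp⟩
  rw [← map_proj] at hp
  obtain ⟨g, hg, rfl⟩ := hp
  exact ⟨⟨g, hg⟩, rfl⟩

theorem card_ker_quoMap : Nat.card quoMap.ker = 2 := by
  have h := quoMap.ker.card_eq_card_quotient_mul_card_subgroup
  rw [Nat.card_congr (QuotientGroup.quotientKerEquivOfSurjective _ quoMap_surjective).toEquiv,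
    card_dblGrp, card_quoGrp] at h
  omega

/-- The scalar matrix −1. -/
noncomputable def negCode : ℕ := packP 10 (fun k => cond (Nat.beq (k / 6) (k % 6)) 10 0) 36

theorem toMat_negCode : toMat 10 6 11 negCode = -1 := by decide +kernel

theorem cen_facts : dblSound.ok dblCen ∧ dblSound.den dblCen ∈ dblGrp ∧
    proj (dblSound.den dblCen) = 1 ∧ dblSound.den dblCen * dblSound.den dblCen = 1 ∧
    ((dblSound.den dblCen).2.1 : Matrix (Fin 6) (Fin 6) (ZMod 11)) = -1 ∧
    ((dblSound.den dblCen).2.2 : Matrix (Fin 6) (Fin 6) (ZMod 11)) = -1 ∧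
    ∀ g ∈ dblGrp, dblSound.den dblCen * g = g * dblSound.den dblCen := by
  have h := cen_ok
  simp only [cenCheck, Bool.and_eq_true, lall_iff, Nat.beq_eq] at h
  obtain ⟨⟨⟨⟨⟨ho, hs⟩, hc⟩, hp⟩, hm1⟩, hm2⟩ := h
  obtain ⟨oc, -, hinv⟩ := dblSound.okInv_sound ho
  have M := checkChain_sound dblSound dblChain_ok
  refine ⟨oc, (M.sift_iff _ oc).1 hs, ?_, ?_, ?_, ?_, ?_⟩
  · rw [proj_den, hp]; exact quoSound.den_one
  · exact eq_inv_iff_mul_eq_one.1 hinv
  · rw [mat1_den, matDen_coe (ok_parts oc).2.1, hm1]; exact toMat_negCode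
  · rw [mat2_den, matDen_coe (ok_parts oc).2.2, hm2]; exact toMat_negCode
  · intro g hg
    refine Subgroup.closure_induction ?_ (by rw [one_mul, mul_one]) ?_ ?_ hg
    · rintro _ ⟨a, ⟨b, hb, rfl⟩, rfl⟩
      have ob := M.gens_ok b hb
      rw [← dblSound.den_mul oc ob, ← dblSound.den_mul ob oc]
      exact (dblSound.eqv_iff (dblSound.ok_mul oc ob) (dblSound.ok_mul ob oc)).1 (hc b hb)
    · intro a b _ _ ha hb
      rw [← mul_assoc, ha, mul_assoc, hb, mul_assoc]
    · intro a _ ha
      exact (Commute.inv_right ha).eq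

/-- The central involution. -/
noncomputable def zed : dblGrp := ⟨dblSound.den dblCen, cen_facts.2.1⟩

theorem zed_ne_one : zed ≠ 1 := by
  intro h
  have h1 := congrArg (fun g : dblGrp => ((g.1.2.1 : GL (Fin 6) (ZMod 11)) :
    Matrix (Fin 6) (Fin 6) (ZMod 11)) 0 0) h
  simp only [zed, cen_facts.2.2.2.2.1] at h1
  revert h1; decide +kernel

theorem zed_central (g : dblGrp) : zed * g = g * zed := Subtype.ext (cen_facts.2.2.2.2.2.2 g.1 g.2)

/-- The kernel of the quotient map is {1, z}. -/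
theorem ker_quoMap {g : dblGrp} (h : quoMap g = 1) : g = 1 ∨ g = zed := by
  have hz : zed ∈ quoMap.ker := MonoidHom.mem_ker.2 (Subtype.ext (show proj zed.1 = 1 from cen_facts.2.2.1))
  obtain ⟨a, b, hab, huniv⟩ := Nat.card_eq_two_iff.1 card_ker_quoMap
  have key : ∀ u : quoMap.ker, u = a ∨ u = b := fun u => by
    have : u ∈ ({a, b} : Set quoMap.ker) := huniv ▸ Set.mem_univ u
    simpa using this
  have hne : (⟨zed, hz⟩ : quoMap.ker) ≠ 1 := fun e => zed_ne_one (congrArg Subtype.val e)
  have hg : (⟨g, MonoidHom.mem_ker.2 h⟩ : quoMap.ker) = 1 ∨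
      (⟨g, MonoidHom.mem_ker.2 h⟩ : quoMap.ker) = ⟨zed, hz⟩ := by
    rcases key ⟨g, MonoidHom.mem_ker.2 h⟩ with e | e <;> rcases key 1 with e1 | e1 <;>
      rcases key ⟨zed, hz⟩ with e2 | e2 <;> simp_all
  exact hg.imp (congrArg Subtype.val) (congrArg Subtype.val)

/-! ### Classes -/

/-- Row `i` of the class table. -/
noncomputable def row (i : Fin 21) : (Code × Code) × ℕ × ℕ × ℕ × ℕ :=
  classTable[(i : ℕ)]'(table_length.symm ▸ i.2)

theorem row_ok (i : Fin 21) : rowOK (row i) = true :=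
  (lall_iff _ _).1 rows_ok _ (List.getElem_mem _)

theorem row_facts (i : Fin 21) :
    dblSound.ok (row i).1.1 ∧ dblSound.den (row i).1.1 ∈ dblGrp ∧ quoSound.ok (row i).1.1.1.2 := by
  have h := row_ok i
  simp only [rowOK, Bool.and_eq_true] at h
  have ok := (dblSound.okInv_sound h.1.1.1.1.1.1).1
  exact ⟨ok, ((checkChain_sound dblSound dblChain_ok).sift_iff _ ok).1 h.1.1.1.1.1.2, (ok_parts ok).1⟩

/-- A lift of class representative `i`. -/
noncomputable def liftRep (i : Fin 21) : dblGrp := ⟨_, (row_facts i).2.1⟩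

/-- Class representative `i`. -/
noncomputable def rep (i : Fin 21) : quoGrp := quoMap (liftRep i)

theorem rep_val (i : Fin 21) : (rep i).1 = quoSound.den (row i).1.1.1.2 := proj_den _

theorem orderOf_rep (i : Fin 21) : orderOf (rep i) = (row i).2.1 := by
  have h := row_ok i
  simp only [rowOK, Bool.and_eq_true, Nat.ble_eq, Nat.beq_eq, allN_iff, Bool.or_eq_true,
    Bool.not_eq_true'] at h
  obtain ⟨⟨⟨⟨-, hpos⟩, hpow⟩, hmin⟩, -⟩ := h.1
  have hok := (row_facts i).2.2
  have hn : rep i ^ (row i).2.1 = 1 := Subtype.ext (by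
    rw [SubmonoidClass.coe_pow, rep_val, ← (powR_sound quoSound hok _).2, hpow]
    exact quoSound.den_one)
  have hd := orderOf_dvd_of_pow_eq_one hn
  rcases (Nat.le_of_dvd hpos hd).lt_or_eq with hlt | he
  · exfalso
    have ho : 0 < orderOf (rep i) := orderOf_pos _
    rcases hmin _ hlt with (h0 | h0) | h0
    · omega
    · have : Nat.beq ((row i).2.1 % orderOf (rep i)) 0 = true := by
        rw [Nat.mod_eq_zero_of_dvd hd]; rfl
      exact absurd (this.symm.trans h0) (by decide)
    · have h1 : quoSound.den (powR quoOps (row i).1.1.1.2 (orderOf (rep i))) =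
          quoSound.den quoOps.one := by
        rw [(powR_sound quoSound hok _).2, quoSound.den_one, ← rep_val]
        exact congrArg Subtype.val (pow_orderOf_eq_one (rep i))
      have h2 := (quoSound.eqv_iff (powR_sound quoSound hok _).1 quoSound.ok_one).2 h1
      rw [eqv_quo] at h2
      rw [h2] at h0
      exact absurd h0 (by decide)
  · exact he

/-- Trace of the first matrix. -/
noncomputable def tr (g : dblGrp) : ZMod 11 :=
  Matrix.trace ((g.1.2.1 : GL (Fin 6) (ZMod 11)) : Matrix (Fin 6) (Fin 6) (ZMod 11))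

theorem tr_code {a : Code} (ok : dblSound.ok a) (h : dblSound.den a ∈ dblGrp) :
    tr ⟨_, h⟩ = (trN a.2.1 : ZMod 11) := by
  show Matrix.trace (((dblSound.den a).2.1 : GL (Fin 6) (ZMod 11)) :
    Matrix (Fin 6) (Fin 6) (ZMod 11)) = _
  rw [mat1_den, matDen_coe (ok_parts ok).2.1, Matrix.trace]
  show _ = ((sumN 6 (fun k => getP 10 a.2.1 (k * 6 + k)) % 11 : ℕ) : ZMod 11)
  rw [ZMod.natCast_mod, sumN_eq, Nat.cast_sum]
  rfl

/-- Invariants of a class of the quotient, computed on a lift. -/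
noncomputable def invPair (g : dblGrp) : ZMod 11 × ZMod 11 := (tr g * tr g, tr (g * g))

theorem invPair_rep (i : Fin 21) :
    invPair (liftRep i) = (((row i).2.2.1 : ZMod 11), ((row i).2.2.2.1 : ZMod 11)) := by
  have h := row_ok i
  simp only [rowOK, Bool.and_eq_true, Nat.beq_eq] at h
  obtain ⟨ok, hm, -⟩ := row_facts i
  have ok2 := dblSound.ok_mul ok ok
  have hm2 : dblSound.den (dblOps.mul (row i).1.1 (row i).1.1) ∈ dblGrp := by
    rw [dblSound.den_mul ok ok]; exact mul_mem hm hm
  have e : liftRep i * liftRep i = ⟨_, hm2⟩ := Subtype.ext (dblSound.den_mul ok ok).symm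
  refine Prod.ext ?_ ?_
  · show tr (liftRep i) * tr (liftRep i) = _
    rw [← h.1.2, liftRep, tr_code ok hm]
    show _ = ((_ % 11 : ℕ) : ZMod 11)
    rw [ZMod.natCast_mod, Nat.cast_mul]
  · show tr (liftRep i * liftRep i) = _
    rw [e, tr_code ok2 hm2, mul_fst, ← h.2]

theorem invPair_congr {g k : dblGrp} (h : IsConj (quoMap g) (quoMap k)) :
    invPair g = invPair k := by
  obtain ⟨c, hc⟩ := isConj_iff.1 h
  obtain ⟨a, rfl⟩ := quoMap_surjective c
  have hk : quoMap (k⁻¹ * (a * g * a⁻¹)) = 1 := by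
    rw [map_mul, map_mul, map_mul, map_inv, map_inv, hc, inv_mul_cancel]
  have hz : (zed.1.2.1 : Matrix (Fin 6) (Fin 6) (ZMod 11)) = -1 := cen_facts.2.2.2.2.1
  have hzz : zed * zed = 1 := Subtype.ext cen_facts.2.2.2.1
  have htz : ∀ u : dblGrp, tr (u * zed) = -tr u := fun u => by
    show Matrix.trace (((u.1.2.1 * zed.1.2.1 : GL (Fin 6) (ZMod 11))) :
      Matrix (Fin 6) (Fin 6) (ZMod 11)) = _
    rw [Units.val_mul, hz, mul_neg, mul_one, Matrix.trace_neg]; rfl
  have hcj : ∀ u : dblGrp, tr (a * u * a⁻¹) = tr u := fun u => by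
    show Matrix.trace (((a.1.2.1 * u.1.2.1 * a.1.2.1⁻¹ : GL (Fin 6) (ZMod 11))) :
      Matrix (Fin 6) (Fin 6) (ZMod 11)) = _
    rw [Units.val_mul, Units.val_mul, Matrix.trace_units_conj]; rfl
  rcases ker_quoMap hk with e | e
  · have e' : k = a * g * a⁻¹ := inv_mul_eq_one.1 e
    rw [e', invPair, invPair, conj_mul, hcj, hcj]
  · have e' : a * g * a⁻¹ = k * zed := inv_mul_eq_iff_eq_mul.1 e
    have e2 : k * k = a * (g * g) * a⁻¹ := by
      rw [← conj_mul, e', show k * zed * (k * zed) = k * (zed * k) * zed by group, zed_central,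
        show k * (k * zed) * zed = k * k * (zed * zed) by group, hzz, mul_one]
    have e1 : tr g = -tr k := by rw [← hcj g, e', htz]
    simp only [invPair, e2, hcj, e1, neg_mul_neg]

theorem row_data : ∀ i j : Fin 21, (row i).2.1 = (row j).2.1 →
    ((row i).2.2.1 : ZMod 11) = ((row j).2.2.1 : ZMod 11) →
    ((row i).2.2.2.1 : ZMod 11) = ((row j).2.2.2.1 : ZMod 11) → i = j := by
  decide +kernel

theorem rep_not_isConj : Pairwise fun i j => ¬ IsConj (rep i) (rep j) := by
  intro i j hij h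
  have hi := invPair_congr h
  rw [invPair_rep, invPair_rep, Prod.ext_iff] at hi
  refine hij (row_data i j ?_ hi.1 hi.2)
  obtain ⟨c, hc⟩ := isConj_iff.1 h
  rw [← orderOf_rep, ← orderOf_rep, ← hc]
  exact (orderOf_injective (MulAut.conj c).toMonoidHom (MulEquiv.injective _) (rep i)).symm

theorem card_cent_rep (i : Fin 21) :
    Nat.card (Subgroup.centralizer ({rep i} : Set quoGrp)) = (row i).2.2.2.2 := by
  by_cases hi : i = 0
  · subst hi
    have h1 : rep 0 = 1 := orderOf_eq_one_iff.1 ((orderOf_rep 0).trans (by decide +kernel))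
    rw [h1, Subgroup.centralizer_eq_top_iff_subset.2 (by simp), Subgroup.card_top, card_quoGrp]
    decide +kernel
  · have hm : row i ∈ classTable.tail := by
      have hpos : 0 < (i : ℕ) := Nat.pos_of_ne_zero fun e => hi (Fin.ext e)
      refine List.mem_iff_getElem.2 ⟨(i : ℕ) - 1, by
        rw [List.length_tail, table_length]; omega, ?_⟩
      simp only [List.getElem_tail, show (i : ℕ) - 1 + 1 = i by omega]
      rfl
    have h := (lall_iff _ _).1 centRows_ok _ hm
    simp only [centRowOK, Nat.beq_eq] at h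
    rw [← h]
    exact card_centralizer2 quoSound quoChain_ok (row_facts i).2.2 (rep i) (rep_val i)

theorem row_sum : ∑ i : Fin 21, 604800 / (row i).2.2.2.2 = 604800 := by decide +kernel

/-- Every element is conjugate to one of the 21 representatives. -/
theorem exists_isConj_rep (g : quoGrp) : ∃ i, IsConj (rep i) g :=
  exists_isConj_of_class_sum 604800 card_quoGrp rep (fun i => (row i).2.2.2.2) card_cent_rep
    rep_not_isConj row_sum g

theorem normalClosure_rep (j : Fin 20) :
    Subgroup.normalClosure ({rep j.succ} : Set quoGrp) = ⊤ := by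
  have hl : j.val < (List.zip classTable.tail classGen).length := by
    simp [List.length_zip, List.length_tail, table_length, gen_length]
  have h := (lall_iff _ _).1 genRows_ok _ (List.getElem_mem hl)
  have e : ((List.zip classTable.tail classGen)[j.val]).1 = row j.succ := by
    simp [List.getElem_zip, List.getElem_tail, row]
  simp only [genRowOK, Bool.and_eq_true, lall_iff, e] at h
  generalize ((List.zip classTable.tail classGen)[j.val]).2 = cs at h
  obtain ⟨hc, hg⟩ := h
  have hx := (row_facts j.succ).2.2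
  have M := checkChain_sound quoSound quoChain_ok
  have hok : ∀ b ∈ (row j.succ).1.1.1.2 :: cs.1.map (fun c => c.2.1), quoSound.ok b := by
    intro b hb
    rcases List.mem_cons.1 hb with rfl | hb
    · exact hx
    · obtain ⟨c, hcm, rfl⟩ := List.mem_map.1 hb
      exact (quoSound.okInv_sound (hc c hcm).1.1.2).1
  have hgrp := genBy_sound quoSound quoChain_ok hg hok
  have hmem : ∀ b ∈ (row j.succ).1.1.1.2 :: cs.1.map (fun c => c.2.1),
      ∃ hb : quoSound.den b ∈ quoGrp, IsConj (rep j.succ) ⟨quoSound.den b, hb⟩ := by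
    intro b hb
    rcases List.mem_cons.1 hb with rfl | hb
    · refine ⟨rep_val j.succ ▸ (rep j.succ).2, ?_⟩
      simpa only [← rep_val] using IsConj.refl (rep j.succ)
    · obtain ⟨c, hcm, rfl⟩ := List.mem_map.1 hb
      obtain ⟨⟨⟨ha, hy⟩, hs⟩, he⟩ := hc c hcm
      have oa := (quoSound.okInv_sound ha).1
      have oy := (quoSound.okInv_sound hy).1
      have hym : quoSound.den c.2.1 = quoSound.den c.1.1 * (rep j.succ).1 *
          (quoSound.den c.1.1)⁻¹ := by
        rw [eq_mul_inv_iff_mul_eq, rep_val, ← quoSound.den_mul oy oa, ← quoSound.den_mul oa hx,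
          Nat.eq_of_beq_eq_true he]
      have hA : quoSound.den c.1.1 ∈ quoGrp := (M.sift_iff _ oa).1 hs
      refine ⟨hym ▸ mul_mem (mul_mem hA (rep j.succ).2) (inv_mem hA), isConj_iff.2
        ⟨⟨_, hA⟩, Subtype.ext hym.symm⟩⟩
  refine normalClosure_eq_top_of_conj
    (s := {u : quoGrp | ∃ b ∈ (row j.succ).1.1.1.2 :: cs.1.map (fun c => c.2.1),
      (u : Equiv.Perm (Fin 100)) = quoSound.den b}) ?_ ?_
  · rw [eq_top_iff]
    intro g _
    have hg' : (g : Equiv.Perm (Fin 100)) ∈ (Subgroup.closure {u : quoGrp |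
        ∃ b ∈ (row j.succ).1.1.1.2 :: cs.1.map (fun c => c.2.1),
          (u : Equiv.Perm (Fin 100)) = quoSound.den b}).map quoGrp.subtype := by
      rw [MonoidHom.map_closure]
      have hgm : (g : Equiv.Perm (Fin 100)) ∈ quoSound.grp quoChain := g.2
      rw [hgrp] at hgm
      refine Subgroup.closure_mono ?_ hgm
      rintro _ ⟨b, hb, rfl⟩
      obtain ⟨hbm, -⟩ := hmem b hb
      exact ⟨⟨_, hbm⟩, ⟨b, hb, rfl⟩, rfl⟩
    obtain ⟨k, hk, hke⟩ := hg'
    exact (Subtype.ext hke : k = g) ▸ hk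
  · rintro u ⟨b, hb, hu⟩
    obtain ⟨hbm, hcj⟩ := hmem b hb
    have : u = ⟨_, hbm⟩ := Subtype.ext hu
    exact this ▸ hcj

theorem isSimple_quoGrp : IsSimpleGroup quoGrp := by
  have hnt : Nontrivial quoGrp := Finite.one_lt_card_iff_nontrivial.1 (by rw [card_quoGrp]; norm_num)
  refine { hnt with eq_bot_or_eq_top_of_normal := fun N hN => ?_ }
  rw [or_iff_not_imp_left]
  intro hne
  obtain ⟨g, hg, hg1⟩ := (Subgroup.bot_or_exists_ne_one N).resolve_left hne
  obtain ⟨i, hi⟩ := exists_isConj_rep g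
  have hi0 : i ≠ 0 := by
    rintro rfl
    obtain ⟨c, rfl⟩ := isConj_iff.1 hi
    exact hg1 (by rw [show rep 0 = 1 from orderOf_eq_one_iff.1
      ((orderOf_rep 0).trans (by decide +kernel))]; simp)
  obtain ⟨j, rfl⟩ := Fin.exists_succ_eq.2 hi0
  rw [eq_top_iff, ← normalClosure_rep j]
  refine Subgroup.normalClosure_le_normal ?_
  rintro x rfl
  obtain ⟨c, hc⟩ := isConj_iff.1 hi.symm
  exact hc ▸ hN.conj_mem g hg c

end Cfsg.Agent.Compute.J2
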