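import Cfsg.Agent.Compute.Chunk
import Cfsg.Agent.Compute.J2.ReflDefs

/-!
Kernel checks for the reflections.
-/

set_option autoImplicit false
set_option Elab.async false

namespace Cfsg.Agent.Compute.J2

theorem refl_ok_0 : chunkL lineData reflOK 32 0 = true := by decide +kernel
theorem refl_ok_1 : chunkL lineData reflOK 32 1 = true := by decide +kernel
theorem refl_ok_2 : chunkL lineData reflOK 32 2 = true := by decide +kernel
theorem refl_ok_3 : chunkL lineData reflOK 32 3 = true := by decide +kernel
theorem refl_ok_4 : chunkL lineData reflOK 32 4 = true := by decide +kernel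
theorem refl_ok_5 : chunkL lineData reflOK 32 5 = true := by decide +kernel
theorem refl_ok_6 : chunkL lineData reflOK 32 6 = true := by decide +kernel
theorem refl_ok_7 : chunkL lineData reflOK 32 7 = true := by decide +kernel
theorem refl_ok_8 : chunkL lineData reflOK 32 8 = true := by decide +kernel
theorem refl_ok_9 : chunkL lineData reflOK 32 9 = true := by decide +kernel

theorem refl_ok : lall lineData reflOK = true :=
  lall_of_chunks 32 10 (by decide +kernel) fun k hk =>
    match k, hk with
    | 0, _ => refl_ok_0
    | 1, _ => refl_ok_1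
    | 2, _ => refl_ok_2
    | 3, _ => refl_ok_3
    | 4, _ => refl_ok_4
    | 5, _ => refl_ok_5
    | 6, _ => refl_ok_6
    | 7, _ => refl_ok_7
    | 8, _ => refl_ok_8
    | 9, _ => refl_ok_9
    | j + 10, hj => absurd hj (by omega)

theorem gi_valid : (validMat 10 6 11 (giCode true) && validMat 10 6 11 (giCode false)) = true := by
  decide +kernel
theorem gi_mul : (Nat.beq (mulMat 10 6 11 (giCode true) (frameN true g1 g2 g3)) (oneMat 10 6) &&
    Nat.beq (mulMat 10 6 11 (giCode false) (frameN false g1 g2 g3)) (oneMat 10 6)) = true := by
  decide +kernel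

end Cfsg.Agent.Compute.J2
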